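import Groth.Agent.AbVarMul.Basic
import Groth.Agent.Abvar.AlgClosedAux
import Groth.Agent.PicAux.GenLocusOps
import Groth.Agent.FBaseGeom.AmpleDescent

/-!
# Ample invertible modules on abelian varieties

If an invertible module has a section whose generating locus is affine and nonempty it is ample:
over an algebraically closed field the theorem of the square turns the translates of the locus
into affine generating loci of sections of the square, and ampleness descends along the extension
to an algebraic closure.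
-/

universe u

open CategoryTheory Limits MonoidalCategory CartesianMonoidalCategory MonObj GrpObj AlgebraicGeometry
  TopologicalSpace Groth.Abvar.PicCalc BlowUp

namespace Groth.AbVarMul

variable {k : Type u} [Field k] {A : Over (Spec (CommRingCat.of k))} [GrpObj A]

omit [GrpObj A] in
theorem isSeparated_left [IsSeparated A.hom] : A.left.IsSeparated :=
  ⟨by rw [← terminal.comp_from A.hom]; infer_instance⟩

theorem isIso_translate_left (a : 𝟙_ (Over (Spec (CommRingCat.of k))) ⟶ A) [IsCommMonObj A] :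
    IsIso (𝟙 A * (toUnit A ≫ a)).left := by
  have h : ∀ b c : 𝟙_ (Over (Spec (CommRingCat.of k))) ⟶ A,
      (𝟙 A * (toUnit A ≫ b)) ≫ (𝟙 A * (toUnit A ≫ c)) = 𝟙 A * (toUnit A ≫ (b * c)) := fun b c => by
    rw [MonObj.comp_mul, Category.comp_id, ← Category.assoc, comp_toUnit, MonObj.comp_mul,
      _root_.mul_assoc]
  have h1 : 𝟙 A * (toUnit A ≫ (1 : 𝟙_ (Over (Spec (CommRingCat.of k))) ⟶ A)) = 𝟙 A := by
    rw [MonObj.comp_one]; exact _root_.mul_one _
  have : IsIso (𝟙 A * (toUnit A ≫ a)) :=
    ⟨𝟙 A * (toUnit A ≫ a⁻¹), by rw [h, mul_inv_cancel, h1], by rw [h, inv_mul_cancel, h1]⟩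
  exact inferInstanceAs (IsIso ((Over.forget _).map (𝟙 A * (toUnit A ≫ a))))

/-- An invertible module with a section whose locus is affine and nonempty is ample, over an
algebraically closed field. -/
theorem isAmple_of_affine_locus_algClosed [IsAlgClosed k] [IsProper A.hom]
    [GeometricallyIntegral A.hom] (L : A.left.Modules) (hL : PicF.IsInvertible L)
    (s : Coh.structureModule A.left ⟶ L) (hU : IsAffineOpen (CohB1.genLocus L s))
    (hne : (CohB1.genLocus L s : Set A.left).Nonempty) : CohB1.IsAmple L := by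
  have := GrpschAbsch.isCommMonObj_of_isProper A
  have := Groth.Abvar.isIntegral_left A
  have : CompactSpace A.left := QuasiCompact.compactSpace_of_compactSpace A.hom
  have := isSeparated_left (A := A)
  have := LocallyOfFiniteType.jacobsonSpace A.hom
  set U := CohB1.genLocus L s
  let t := fun a : 𝟙_ (Over (Spec (CommRingCat.of k))) ⟶ A => (𝟙 A * (toUnit A ≫ a) : A ⟶ A)
  refine ⟨hL, inferInstance, fun x => ?_⟩
  obtain ⟨z, hxz, hz⟩ : ∃ z, x ⤳ z ∧ IsClosed ({z} : Set A.left) := by
    obtain ⟨z, hz, hzc⟩ := IsClosed.exists_closed_singleton isClosed_closure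
      (⟨x, subset_closure (Set.mem_singleton x)⟩ : (closure ({x} : Set A.left)).Nonempty)
    exact ⟨z, specializes_iff_mem_closure.2 hz, hzc⟩
  obtain ⟨p, hp⟩ := Groth.Abvar.exists_rationalPoint A hz
  have := isIso_translate_left (A := A) p
  have hι : IsIso (ι[A] : A ⟶ A) := ⟨ι[A], by
    rw [GrpObj.inv_eq_inv, GrpObj.comp_inv, Category.comp_id, _root_.inv_inv], by
    rw [GrpObj.inv_eq_inv, GrpObj.comp_inv, Category.comp_id, _root_.inv_inv]⟩
  have : IsIso (ι[A] : A ⟶ A).left := inferInstanceAs (IsIso ((Over.forget _).map (ι[A] : A ⟶ A)))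
  let V := (t p).left ⁻¹ᵁ U
  have hV : (V : Set A.left).Nonempty := hne.preimage (t p).left.homeomorph.surjective
  obtain ⟨c, ⟨hcV, hcι⟩, hc⟩ := nonempty_inter_closedPoints
    (Z := ((V ⊓ (ι[A] : A ⟶ A).left ⁻¹ᵁ V : A.left.Opens) : Set A.left))
    (nonempty_preirreducible_inter V.2 ((ι[A] : A ⟶ A).left ⁻¹ᵁ V).2 hV
      (hV.preimage (ι[A] : A ⟶ A).left.homeomorph.surjective))
    (V ⊓ (ι[A] : A ⟶ A).left ⁻¹ᵁ V).2.isLocallyClosed
  obtain ⟨a, ha⟩ := Groth.Abvar.exists_rationalPoint A hc
  have hmem : ∀ b : 𝟙_ (Over (Spec (CommRingCat.of k))) ⟶ A,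
      b.left.base (IsLocalRing.closedPoint k) ∈ V → z ∈ (t b).left ⁻¹ᵁ U := by
    intro b hb
    have e : p ≫ t b = b ≫ t p := by
      simp only [t, MonObj.comp_mul, Category.comp_id, ← Category.assoc]
      rw [toUnit_unique (p ≫ toUnit A) (𝟙 _), toUnit_unique (b ≫ toUnit A) (𝟙 _), Category.id_comp,
        Category.id_comp, _root_.mul_comm]
    show (t b).left.base z ∈ U
    rw [← hp, ← Scheme.Hom.comp_apply, ← Over.comp_left, e, Over.comp_left, Scheme.Hom.comp_apply]
    exact hb
  have hz₁ : z ∈ (t a).left ⁻¹ᵁ U := hmem a (ha ▸ hcV)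
  have hz₂ : z ∈ (t a⁻¹).left ⁻¹ᵁ U := hmem a⁻¹ (by
    rw [show a⁻¹ = a ≫ ι[A] by rw [GrpObj.inv_eq_inv, GrpObj.comp_inv, Category.comp_id],
      Over.comp_left, Scheme.Hom.comp_apply, ha]
    exact hcι)
  have := isIso_translate_left (A := A) a
  have := isIso_translate_left (A := A) a⁻¹
  have hsec : ∀ b, ∃ s' : Coh.structureModule A.left ⟶ (Scheme.Modules.pullback (t b).left).obj L,
      CohB1.genLocus _ s' = (t b).left ⁻¹ᵁ U := fun b =>
    ⟨PicAux.homOfSection (PicAux.pullSec (t b).left L (PicAux.gsec s)),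
      PicAux.genLocus_pullback _ hL s (PicAux.gsec_homOfSection _)⟩
  obtain ⟨s₁, hs₁⟩ := hsec a
  obtain ⟨s₂, hs₂⟩ := hsec a⁻¹
  have h1 := PicLoc.isInvertible_pullback (t a).left hL
  have h2 := PicLoc.isInvertible_pullback (t a⁻¹).left hL
  obtain ⟨e⟩ : Nonempty (CohB1.tensorMod ((Scheme.Modules.pullback (t a).left).obj L)
      ((Scheme.Modules.pullback (t a⁻¹).left).obj L) ≅ CohB1.tensorPow L (1 + 1)) := by
    rw [nonempty_iso_iff (isInvertible_tensorMod h1 h2) (isInvertible_tensorPow hL 2),
      cls_tensorMod h1 h2, cls_tensorPow hL 2, ← pull_cls _ hL, ← pull_cls _ hL]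
    have := Groth.Abvar.Cube.opull_square (cls hL) (𝟙 A) a a⁻¹
    rw [mul_inv_cancel a, MonObj.comp_one, show (𝟙 A : A ⟶ A) * 1 = 𝟙 A from _root_.mul_one _,
      opull_id] at this
    rw [_root_.pow_two]
    exact this.symm
  refine ⟨1, SecTwist.tmulHom s₁ s₂ ≫ e.hom, ?_⟩
  rw [PicAux.genLocus_comp_iso, PicAux.genLocus_tmulHom h1 h2, hs₁, hs₂]
  exact ⟨⟨hxz.mem_open ((t a).left ⁻¹ᵁ U).2 hz₁, hxz.mem_open ((t a⁻¹).left ⁻¹ᵁ U).2 hz₂⟩,
    (hU.preimage_of_isIso _).inf (hU.preimage_of_isIso _)⟩

set_option backward.isDefEq.respectTransparency false in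
/-- An invertible module with a section whose locus is affine and nonempty is ample. -/
theorem isAmple_of_affine_locus [IsProper A.hom] [GeometricallyIntegral A.hom] (L : A.left.Modules)
    (hL : PicF.IsInvertible L) (s : Coh.structureModule A.left ⟶ L)
    (hU : IsAffineOpen (CohB1.genLocus L s)) (hne : (CohB1.genLocus L s : Set A.left).Nonempty) :
    CohB1.IsAmple L := by
  let K := AlgebraicClosure k
  let t : Spec (CommRingCat.of K) ⟶ Spec (CommRingCat.of k) :=
    Spec.map (CommRingCat.ofHom (algebraMap k K))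
  have : Surjective t := ⟨fun x => ⟨IsLocalRing.closedPoint K,
    Subsingleton.elim (α := PrimeSpectrum k) _ _⟩⟩
  let : GrpObj ((Over.pullback t).obj A) := Functor.grpObjObj
  have : IsProper ((Over.pullback t).obj A).hom := inferInstanceAs (IsProper (pullback.snd A.hom t))
  have : GeometricallyIntegral ((Over.pullback t).obj A).hom :=
    inferInstanceAs (GeometricallyIntegral (pullback.snd A.hom t))
  let q : ((Over.pullback t).obj A).left ⟶ A.left := pullback.fst A.hom t
  have hsurj : Surjective q := MorphismProperty.pullback_fst _ _ ‹Surjective t›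
  have hlocus := PicAux.genLocus_pullback q hL s
    (PicAux.gsec_homOfSection (PicAux.pullSec q L (PicAux.gsec s)))
  have hK : CohB1.IsAmple ((Scheme.Modules.pullback q).obj L) := by
    have : IsAffineHom t := inferInstanceAs (IsAffineHom (Spec.map _))
    have : IsAffineHom q := MorphismProperty.pullback_fst _ _ ‹IsAffineHom t›
    refine isAmple_of_affine_locus_algClosed (A := (Over.pullback t).obj A) _
      (PicLoc.isInvertible_pullback q hL) (PicAux.homOfSection (PicAux.pullSec q L (PicAux.gsec s))) ?_ ?_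
    · rw [hlocus]; exact hU.preimage q
    · rw [hlocus]; exact hne.preimage hsurj.surj
  let : A.left.Over (Spec (CommRingCat.of k)) := ⟨A.hom⟩
  exact Groth.FBaseGeom.AmpleDesc.isAmple_of_finite_cover L hL (κ := PUnit.{u+1}) (fun _ => t)
    (fun _ => q) (fun _ => pullback.snd A.hom t) (fun _ => IsPullback.of_hasPullback A.hom t)
    (fun x => ⟨⟨⟩, hsurj.surj x⟩) (fun _ => hK)

/-- The complement of a nonempty affine open of an abelian variety is an effective Cartier
divisor. -/
theorem isEffCartierIdeal_compl [IsProper A.hom] [GeometricallyIntegral A.hom] {W : A.left.Opens}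
    (hW : IsAffineOpen W) (hne : (W : Set A.left).Nonempty) :
    IsEffCartierIdeal (Scheme.IdealSheafData.vanishingIdeal W.compl) := by
  have := Groth.Abvar.isIntegral_left A
  have : Smooth A.hom := GrpschAbsch.smooth_of_geometricallyReduced A
  have : IsLocallyNoetherian A.left := LocallyOfFiniteType.isLocallyNoetherian A.hom
  have := isSeparated_left (A := A)
  refine FlatmorThree.AffineCompl.isEffCartierIdeal_compl (fun x => ?_) (fun U V hU hV => hU.inf hV) hW
    (W.2.dense hne)
  have hfld : IsField ((Spec (CommRingCat.of k)).presheaf.stalk (A.hom x)) := by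
    obtain ⟨p, hp⟩ := Groth.GrpschAbsch.FibreFlat.exists_isField_stalk
      (Spec (CommRingCat.of k)) (A.hom x)
    have : Subsingleton ↥(Spec (CommRingCat.of k)) := inferInstanceAs (Subsingleton (PrimeSpectrum k))
    rwa [Subsingleton.elim (A.hom x) p]
  have : IsRegularLocalRing ((Spec (CommRingCat.of k)).presheaf.stalk (A.hom x)) := by
    let := hfld.toField
    infer_instance
  have := Groth.NeronArea.Weil.isRegularLocalRing_of_smooth A.hom x this
  exact ⟨inferInstance, Groth.PicAux.ufd_of_isRegularLocalRing _⟩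

/-- An abelian variety carries an ample invertible module. -/
theorem exists_isAmple [IsProper A.hom] [GeometricallyIntegral A.hom] :
    ∃ L : A.left.Modules, CohB1.IsAmple L := by
  have := Groth.Abvar.isIntegral_left A
  obtain ⟨W, hW, heW, -⟩ := exists_isAffineOpen_mem_and_subset (X := A.left) (U := (⊤ : A.left.Opens))
    (x := η[A].left.base (IsLocalRing.closedPoint k)) trivial
  obtain ⟨L, s, hL, -, hs⟩ := PicAux.exists_invertible_section (isEffCartierIdeal_compl hW ⟨_, heW⟩)
  have hloc : CohB1.genLocus L s = W := by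
    ext x
    rw [SetLike.mem_coe, PicAux.mem_genLocus_iff_not_mem_support hL, hs, ← SetLike.mem_coe,
      Scheme.IdealSheafData.coe_support_vanishingIdeal]
    exact not_not
  exact ⟨L, isAmple_of_affine_locus L hL s (hloc ▸ hW) (hloc ▸ ⟨_, heW⟩)⟩

end Groth.AbVarMul

namespace Groth.AbVarMul

variable {k : Type u} [Field k] {A : Over (Spec (CommRingCat.of k))} [GrpObj A]

/-- An abelian variety carries a symmetric ample invertible module. -/
theorem exists_symmetric_isAmple [IsProper A.hom] [GeometricallyIntegral A.hom] :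
    ∃ L : A.left.Modules, CohB1.IsAmple L ∧
      Nonempty (L ≅ (Scheme.Modules.pullback ((𝟙 A)⁻¹).left).obj L) := by
  have := Groth.Abvar.isIntegral_left A
  have := isSeparated_left (A := A)
  obtain ⟨W, hW, heW, hWι⟩ := exists_symmetric_affine (A := A)
  obtain ⟨M, s, hM, -, hs⟩ := PicAux.exists_invertible_section (isEffCartierIdeal_compl hW ⟨_, heW⟩)
  have hloc : CohB1.genLocus M s = W := by
    ext x
    rw [SetLike.mem_coe, PicAux.mem_genLocus_iff_not_mem_support hM, hs, ← SetLike.mem_coe,
      Scheme.IdealSheafData.coe_support_vanishingIdeal]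
    exact not_not
  have hM' := PicLoc.isInvertible_pullback (ι[A] : A ⟶ A).left hM
  let s' := PicAux.homOfSection (PicAux.pullSec (ι[A] : A ⟶ A).left M (PicAux.gsec s))
  have hloc' : CohB1.genLocus _ (SecTwist.tmulHom s s') = W := by
    rw [PicAux.genLocus_tmulHom hM hM', hloc,
      PicAux.genLocus_pullback _ hM s (PicAux.gsec_homOfSection _), hloc, hWι, inf_idem]
  refine ⟨_, isAmple_of_affine_locus _ (isInvertible_tensorMod hM hM') (SecTwist.tmulHom s s')
    (hloc' ▸ hW) (hloc' ▸ ⟨_, heW⟩), ?_⟩
  have e : (ι[A] : A ⟶ A) = (𝟙 A)⁻¹ := GrpObj.inv_eq_inv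
  rw [nonempty_iso_iff (isInvertible_tensorMod hM hM')
    (PicLoc.isInvertible_pullback _ (isInvertible_tensorMod hM hM')), ← pull_cls _
      (isInvertible_tensorMod hM hM'), cls_tensorMod hM hM', ← pull_cls _ hM, map_mul,
    ← pull_comp, ← e, ← Over.comp_left, e, GrpObj.comp_inv, Category.comp_id, _root_.inv_inv,
    Over.id_left, pull_id, _root_.mul_comm]

end Groth.AbVarMul
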