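import Groth.Agent.Abvar.BaseChange
import Groth.Agent.GrpschAbsch.AbVarEtale
import Groth.Prelude.Def_AbDual
import Groth.Prelude.Def_SGA7a

/-!
# Points in an extension field and base change
-/

universe u

open CategoryTheory Limits MonoidalCategory CartesianMonoidalCategory MonObj GrpObj AlgebraicGeometry
open AbDual

namespace Groth.AbVarMul

variable {k : Type u} [Field k] (K : Type u) [Field K] [Algebra k K]

local notation "ptK" => (𝟙_ (Over (Spec (CommRingCat.of K))))

/-- The base change functor to an extension field. -/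
noncomputable abbrev bcF : Over (Spec (CommRingCat.of k)) ⥤ Over (Spec (CommRingCat.of K)) :=
  Over.pullback (Spec.map (CommRingCat.ofHom (algebraMap k K)))

noncomputable local instance grpObjBcF (A : Over (Spec (CommRingCat.of k))) [GrpObj A] :
    GrpObj ((bcF K).obj A) := Functor.grpObjObj

/-- The diagonal point of the base change of `Spec K`. -/
noncomputable def bcDiag : ptK ⟶ (bcF K).obj (SGA7.pt (K := k) K) :=
  Over.homMk (pullback.lift (𝟙 _) (𝟙 _) rfl) (pullback.lift_snd _ _ _)

theorem bcMap_left_fst {X Y : Over (Spec (CommRingCat.of k))} (f : X ⟶ Y) :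
    ((bcF K).map f).left ≫ pullback.fst Y.hom _ = pullback.fst X.hom _ ≫ f.left :=
  pullback.lift_fst _ _ _

/-- Points with values in an extension field are points of the base change. -/
noncomputable def bcPoints (A : Over (Spec (CommRingCat.of k))) [GrpObj A] :
    (SGA7.pt (K := k) K ⟶ A) ≃* (ptK ⟶ (bcF K).obj A) where
  toFun a := bcDiag K ≫ (bcF K).map a
  invFun b := Over.homMk (b.left ≫ pullback.fst A.hom _) (by
    rw [Category.assoc, pullback.condition, ← Category.assoc]
    exact (congrArg (· ≫ _) (Over.w b)).trans (Category.id_comp _))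
  left_inv a := by
    refine Over.OverMorphism.ext ?_
    show ((bcDiag K).left ≫ ((bcF K).map a).left) ≫ _ = _
    rw [Category.assoc, bcMap_left_fst, ← Category.assoc]
    exact (congrArg (· ≫ a.left) (pullback.lift_fst _ _ _)).trans (Category.id_comp _)
  right_inv b := by
    refine Over.OverMorphism.ext (pullback.hom_ext ?_ ?_)
    · show ((bcDiag K).left ≫ ((bcF K).map _).left) ≫ _ = _
      rw [Category.assoc, bcMap_left_fst, ← Category.assoc]
      exact (congrArg (· ≫ _) (pullback.lift_fst _ _ _)).trans (Category.id_comp _)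
    · exact (Over.w _).trans (Over.w b).symm
  map_mul' a b := by
    rw [show (bcF K).map (a * b) = (bcF K).map a * (bcF K).map b from
      ((bcF K).homMonoidHom (X := SGA7.pt (K := k) K) (M := A)).map_mul a b, MonObj.comp_mul]

theorem bcPoints_comp {A B : Over (Spec (CommRingCat.of k))} [GrpObj A] [GrpObj B]
    (a : SGA7.pt (K := k) K ⟶ A) (f : A ⟶ B) :
    bcPoints K B (a ≫ f) = bcPoints K A a ≫ (bcF K).map f := by
  show bcDiag K ≫ (bcF K).map (a ≫ f) = _
  rw [Functor.map_comp, ← Category.assoc]
  rfl

/-- An isomorphism of groups of points induces one of Tate modules. -/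
noncomputable def tateCongr {S S' : Scheme.{u}} {A T : Over S} {A' T' : Over S'} [GrpObj A]
    [IsCommMonObj A] [GrpObj A'] [IsCommMonObj A'] (e : Additive (T ⟶ A) ≃+ Additive (T' ⟶ A'))
    (l : ℕ) [Fact l.Prime] : TateMod A l T ≃ₗ[ℤ_[l]] TateMod A' l T' where
  toFun x := ⟨fun n => e ((x : ℕ → Additive (T ⟶ A)) n),
    fun n => by rw [← map_nsmul, x.torsion n, map_zero],
    fun n => by rw [← map_nsmul, x.compat n]⟩
  invFun y := ⟨fun n => e.symm ((y : ℕ → Additive (T' ⟶ A')) n),
    fun n => by rw [← map_nsmul, y.torsion n, map_zero],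
    fun n => by rw [← map_nsmul, y.compat n]⟩
  left_inv x := TateMod.ext fun n => e.symm_apply_apply _
  right_inv x := TateMod.ext fun n => e.apply_symm_apply _
  map_add' x y := TateMod.ext fun n => map_add e _ _
  map_smul' a x := TateMod.ext fun n => map_nsmul e (a.appr n) _

/-- Tate modules of points in an extension field are Tate modules of the base change. -/
noncomputable def bcTate (A : Over (Spec (CommRingCat.of k))) [GrpObj A] [IsCommMonObj A]
    [IsCommMonObj ((bcF K).obj A)] (l : ℕ) [Fact l.Prime] :
    TateMod A l (SGA7.pt (K := k) K) ≃ₗ[ℤ_[l]] TateMod ((bcF K).obj A) l ptK :=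
  tateCongr (MulEquiv.toAdditive (bcPoints K A)) l

theorem bcTate_tateMap {A B : Over (Spec (CommRingCat.of k))} [GrpObj A] [GrpObj B]
    [IsCommMonObj A] [IsCommMonObj B] [IsCommMonObj ((bcF K).obj A)]
    [IsCommMonObj ((bcF K).obj B)] (l : ℕ) [Fact l.Prime] (f : A ⟶ B) [IsMonHom f]
    [IsMonHom ((bcF K).map f)] (x : TateMod A l (SGA7.pt (K := k) K)) :
    bcTate K B l (tateMapₗ f x) = tateMapₗ ((bcF K).map f) (bcTate K A l x) :=
  TateMod.ext fun n => congrArg Additive.ofMul
    (bcPoints_comp K ((x : ℕ → Additive (SGA7.pt (K := k) K ⟶ A)) n).toMul f)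

/-- Base change along a field extension is faithful. -/
theorem bcMap_injective {A B : Over (Spec (CommRingCat.of k))} {f g : A ⟶ B}
    (h : (bcF K).map f = (bcF K).map g) : f = g := by
  let t := Spec.map (CommRingCat.ofHom (algebraMap k K))
  have : Surjective t := ⟨fun x => ⟨IsLocalRing.closedPoint K,
    Subsingleton.elim (α := PrimeSpectrum k) _ _⟩⟩
  have : Flat t := Flat.SpecMap_iff.2 (RingHom.flat_algebraMap_iff.2 inferInstance)
  have : Epi (pullback.fst A.hom t) := Flat.epi_of_flat_of_surjective _
  refine Over.OverMorphism.ext ((cancel_epi (pullback.fst A.hom t)).1 ?_)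
  rw [← bcMap_left_fst, ← bcMap_left_fst, h]

end Groth.AbVarMul
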