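import Groth.Agent.Abvar.Cube.Theta
import Groth.Agent.PicAux.EffCartierLine
import Groth.Agent.PicAux.EffCartierSection
import Groth.Agent.PicAux.RegularUFD
import Groth.Agent.Divisors.EffCartierMore
import Groth.Agent.FlatmorThree.AffineComplement
import Groth.Agent.NeronArea.WeilExtension
import Groth.Agent.GrpschAbsch.FibreFlat
import Groth.Agent.GrpschAbsch.GrpEtaleRel
import Groth.Agent.GrpschAbsch.AbVarEtale

/-!
# The kernel of multiplication by `n` on an abelian variety is finite

By the theorem of the cube `(f^n)^* c = (f^* c)^a ⊗ ((f⁻¹)^* c)^b`; applied to the class of the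
complement of a symmetric affine open it shows that a complete variety on which `[n]` is constant
is contracted to a point.
-/

universe u

open CategoryTheory Limits MonoidalCategory CartesianMonoidalCategory MonObj GrpObj AlgebraicGeometry
  TopologicalSpace Groth.Abvar Groth.Abvar.PicCalc BlowUp

namespace Groth.AbVarMul

variable {k : Type u} [Field k] {A : Over (Spec (CommRingCat.of k))} [GrpObj A]

/-- The pull-back of a class along the `n`-th power of a morphism. -/
theorem opull_pow [IsProper A.hom] [GeometricallyIntegral A.hom]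
    {T : Over (Spec (CommRingCat.of k))} (c : PicLoc.PicSet A.left) (f : T ⟶ A) (n : ℕ) :
    opull (f ^ n) c = opull f c ^ ((n + 1).choose 2) * opull f⁻¹ c ^ (n.choose 2) := by
  induction n using Nat.twoStepInduction with
  | zero => simp [_root_.pow_zero, opull_one]
  | one => simp [_root_.pow_one]
  | more n ih0 ih1 =>
    have e := Groth.Abvar.Cube.opull_cube c (f ^ (n + 1)) f f⁻¹
    rw [mul_inv_cancel_right, mul_inv_cancel f, opull_one, _root_.mul_one, ← pow_succ,
      show f ^ (n + 1) * f⁻¹ = f ^ n by rw [pow_succ, mul_inv_cancel_right], ih0, ih1] at e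
    have hp : (n + 3).choose 2 = (n + 2).choose 2 + (n + 2) := by
      rw [Nat.choose_succ_succ' (n + 2) 1, Nat.choose_one_right, add_comm]
    have hq : (n + 2).choose 2 = (n + 1).choose 2 + (n + 1) := by
      rw [Nat.choose_succ_succ' (n + 1) 1, Nat.choose_one_right, add_comm]
    have hr : (n + 1).choose 2 = n.choose 2 + n := by
      rw [Nat.choose_succ_succ' n 1, Nat.choose_one_right, add_comm]
    set u := opull f c
    set v := opull f⁻¹ c
    refine mul_right_cancel (b := u ^ (n + 1).choose 2 * v ^ n.choose 2) ?_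
    rw [← e, hp, hq, hr]
    simp only [pow_add, pow_one, show (2 : ℕ) = 1 + 1 from rfl]
    ac_rfl

section Ideals

variable {X : Scheme.{u}}

/-- An effective Cartier divisor with trivial ideal on a scheme whose only nonzero global functions
are units is empty. -/
theorem support_eq_empty_of_iso [Nonempty X] (hΓ : IsField Γ(X, ⊤)) {I : X.IdealSheafData}
    (hI : IsEffCartierIdeal I)
    (φ : Nonempty (ClSub.idealMod I ≅ Coh.structureModule X)) (x : X) : x ∉ I.support := by
  obtain ⟨φ⟩ := φ
  have hgen := (PicAux.gen_oneSec (X := X) ⊤).map φ.inv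
  set g := OmegaSh.idealSect I ⊤ (φ.inv.app ⊤ (PicAux.oneSec X ⊤))
  obtain ⟨W, hxW, -⟩ := Divisors.exists_affine_le x ⊤ trivial
  have hW : I.ideal W = Ideal.span {PicAux.resX X le_top g} := by
    refine le_antisymm (fun a ha => ?_) ?_
    · obtain ⟨t, rfl⟩ := Groth.OmegaSheaf.exists_idealSect I W ha
      obtain ⟨r, rfl⟩ := hgen.exists_coeff (le_top : W.1 ≤ ⊤) t
      rw [Groth.OmegaSheaf.idealSect_smul, PicAux.idealSect_res']
      exact Ideal.mem_span_singleton'.2 ⟨r, rfl⟩
    · refine (Ideal.span_singleton_le_iff_mem (I := I.ideal W)).2 ?_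
      rw [← PicAux.idealSect_res']
      exact Groth.OmegaSheaf.idealSect_mem I W _
  have hu : IsUnit g := by
    by_contra hu
    have hg0 : g = 0 := by
      by_contra h0
      obtain ⟨b, hb⟩ := hΓ.mul_inv_cancel h0
      exact hu (IsUnit.of_mul_eq_one b hb)
    have hne : Nonempty W.1 := ⟨⟨x, hxW⟩⟩
    obtain ⟨V, hxV, f, hf, hVI⟩ := hI x
    have h0 : g = 0 := hg0
    have : φ.inv.app ⊤ (PicAux.oneSec X ⊤) = 0 :=
      Groth.OmegaSheaf.idealSect_injective I _ (by rw [map_zero]; exact h0)
    have h1 : PicAux.oneSec X ⊤ = 0 := by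
      have := congrArg (φ.hom.app ⊤) this
      rw [map_zero] at this
      rw [← this, ← ConcreteCategory.comp_apply, ← Scheme.Modules.Hom.comp_app, Iso.inv_hom_id]
      simp
    have : (1 : Γ(X, ⊤)) = 0 := h1
    obtain ⟨a, b, hab⟩ := hΓ.exists_pair_ne
    exact hab (by rw [← mul_one a, ← mul_one b, this, mul_zero, mul_zero])
  rw [Divisors.not_mem_support_iff hW hxW]
  exact (hu.map (PicAux.resX X le_top)).map _

/-- A product of positive powers of effective Cartier divisors. -/
theorem exists_cls_eq {I J : X.IdealSheafData} (hI : IsEffCartierIdeal I)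
    (hJ : IsEffCartierIdeal J) (a b : ℕ) :
    ∃ (K : X.IdealSheafData) (hK : IsEffCartierIdeal K),
      cls (PicAux.isInvertible_idealMod hK) =
        cls (PicAux.isInvertible_idealMod hI) ^ (a + 1) * cls (PicAux.isInvertible_idealMod hJ) ^ b ∧
      ∀ x ∈ I.support, x ∈ K.support := by
  have step : ∀ {K L : X.IdealSheafData} (hK : IsEffCartierIdeal K) (hL : IsEffCartierIdeal L),
      ∃ (M : X.IdealSheafData) (hM : IsEffCartierIdeal M),
        cls (PicAux.isInvertible_idealMod hM) =
          cls (PicAux.isInvertible_idealMod hK) * cls (PicAux.isInvertible_idealMod hL) ∧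
        ∀ x ∈ K.support, x ∈ M.support := by
    intro K L hK hL
    refine ⟨K * L, Divisors.isEffCartierIdeal_mul hK hL, ?_, fun x hx => ?_⟩
    · rw [← cls_tensorMod, ← nonempty_iso_iff]
      exact ⟨(PicAux.idealMod_mul hK hL).some.symm⟩
    · refine Scheme.IdealSheafData.support_antitone ?_ hx
      intro W
      simp only [Scheme.IdealSheafData.ideal_mul, Pi.mul_apply]
      exact Ideal.mul_le_left
  induction b with
  | zero =>
    induction a with
    | zero => exact ⟨I, hI, by simp, fun x hx => hx⟩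
    | succ a ih =>
      obtain ⟨K, hK, hc, hs⟩ := ih
      obtain ⟨M, hM, hMc, hMs⟩ := step hK hI
      exact ⟨M, hM, by rw [hMc, hc]; simp [pow_succ], fun x hx => hMs x (hs x hx)⟩
  | succ b ih =>
    obtain ⟨K, hK, hc, hs⟩ := ih
    obtain ⟨M, hM, hMc, hMs⟩ := step hK hJ
    exact ⟨M, hM, by rw [hMc, hc, pow_succ (cls _) b, _root_.mul_assoc], fun x hx => hMs x (hs x hx)⟩

end Ideals

omit [GrpObj A] in
/-- A morphism from a proper integral scheme with image in an affine open is constant. -/
theorem subsingleton_range_of_subset {Z : Over (Spec (CommRingCat.of k))} [IsProper Z.hom]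
    [IsIntegral Z.left] {W : A.left.Opens} (hW : IsAffineOpen W) (i : Z ⟶ A)
    (h : ∀ z, i.left z ∈ W) : (Set.range i.left.base).Subsingleton := by
  let g := IsOpenImmersion.lift W.ι i.left (by
    rw [W.range_ι]; rintro _ ⟨z, rfl⟩; exact h z)
  have hg : g ≫ W.ι = i.left := IsOpenImmersion.lift_fac _ _ _
  have : IsAffine (W : Scheme.{u}) := hW
  have hf := isField_of_universallyClosed k Z.hom
  have : Subsingleton ↥(Spec Γ(Z.left, ⊤)) := by
    let := hf.toField
    exact inferInstanceAs (Subsingleton (PrimeSpectrum Γ(Z.left, ⊤)))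
  have e : i.left = Z.left.toSpecΓ ≫ Spec.map g.appTop ≫ (W : Scheme.{u}).isoSpec.inv ≫ W.ι := by
    rw [← Scheme.toSpecΓ_naturality_assoc, ← Scheme.isoSpec_hom, Iso.hom_inv_id_assoc, hg]
  rintro _ ⟨a, rfl⟩ _ ⟨b, rfl⟩
  rw [e]
  simp only [Scheme.Hom.comp_base, TopCat.coe_comp, Function.comp_apply]
  rw [Subsingleton.elim (Z.left.toSpecΓ.base a) (Z.left.toSpecΓ.base b)]

/-- Around the origin there is a symmetric affine open. -/
theorem exists_symmetric_affine [IsSeparated A.hom] :
    ∃ W : A.left.Opens, IsAffineOpen W ∧ η[A].left.base (IsLocalRing.closedPoint k) ∈ W ∧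
      (ι[A] : A ⟶ A).left ⁻¹ᵁ W = W := by
  obtain ⟨U, hU, heU, -⟩ := exists_isAffineOpen_mem_and_subset
    (X := A.left) (U := (⊤ : A.left.Opens)) (x := η[A].left.base (IsLocalRing.closedPoint k)) trivial
  have hιι : (ι[A] : A ⟶ A) ≫ ι[A] = 𝟙 A := by
    rw [GrpObj.inv_eq_inv, GrpObj.comp_inv, Category.comp_id, _root_.inv_inv]
  have hι : IsIso (ι[A] : A ⟶ A) := ⟨ι[A], hιι, hιι⟩
  have : IsIso (ι[A] : A ⟶ A).left := inferInstanceAs (IsIso ((Over.forget _).map (ι[A] : A ⟶ A)))
  have : A.left.IsSeparated := ⟨by rw [← terminal.comp_from A.hom]; infer_instance⟩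
  refine ⟨U ⊓ (ι[A] : A ⟶ A).left ⁻¹ᵁ U, hU.inf (hU.preimage_of_isIso _), ⟨heU, ?_⟩, ?_⟩
  · have h : η[A] ≫ (ι[A] : A ⟶ A) = η[A] := by
      rw [MonObj.one_eq_one, GrpObj.inv_eq_inv, GrpObj.comp_inv, Category.comp_id, inv_one]
    have := congrArg (fun f => f.left.base (IsLocalRing.closedPoint k)) h
    simp only [Over.comp_left, Scheme.Hom.comp_base, TopCat.coe_comp, Function.comp_apply] at this
    show (ι[A] : A ⟶ A).left.base (η[A].left.base _) ∈ U
    rwa [this]
  · rw [Scheme.Hom.preimage_inf, ← Scheme.Hom.comp_preimage, ← Over.comp_left, hιι, Over.id_left,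
      inf_comm]
    rfl

/-- A complete variety on which the `n`-th power of a morphism through the origin is trivial is
contracted to a point. -/
theorem subsingleton_range_of_pow_eq_one [IsProper A.hom] [GeometricallyIntegral A.hom]
    {Z : Over (Spec (CommRingCat.of k))} [IsProper Z.hom] [IsIntegral Z.left] (j : Z ⟶ A)
    (z₀ : Z.left) (hz₀ : j.left z₀ = η[A].left.base (IsLocalRing.closedPoint k))
    {n : ℕ} (hn : n ≠ 0) (hj : j ^ n = 1) : (Set.range j.left.base).Subsingleton := by
  obtain ⟨W, hW, heW, hWι⟩ := exists_symmetric_affine (A := A)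
  refine subsingleton_range_of_subset hW j fun z => ?_
  by_contra hz
  have := Groth.Abvar.isIntegral_left A
  have : Smooth A.hom := GrpschAbsch.smooth_of_geometricallyReduced A
  have : IsLocallyNoetherian A.left := LocallyOfFiniteType.isLocallyNoetherian A.hom
  have : IsSeparated A.hom := inferInstance
  have : A.left.IsSeparated := ⟨by rw [← terminal.comp_from A.hom]; infer_instance⟩
  have hI : IsEffCartierIdeal (Scheme.IdealSheafData.vanishingIdeal W.compl) := by
    refine FlatmorThree.AffineCompl.isEffCartierIdeal_compl (fun x => ?_) (fun U V hU hV => hU.inf hV) hW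
      (IsOpen.dense W.2 ⟨_, heW⟩)
    have hfld : IsField ((Spec (CommRingCat.of k)).presheaf.stalk (A.hom x)) :=
      by
      obtain ⟨p, hp⟩ := Groth.GrpschAbsch.FibreFlat.exists_isField_stalk
        (Spec (CommRingCat.of k)) (A.hom x)
      have : Subsingleton ↥(Spec (CommRingCat.of k)) := inferInstanceAs (Subsingleton (PrimeSpectrum k))
      rwa [Subsingleton.elim (A.hom x) p]
    have : IsRegularLocalRing ((Spec (CommRingCat.of k)).presheaf.stalk (A.hom x)) := by
      let := hfld.toField
      infer_instance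
    have := Groth.NeronArea.Weil.isRegularLocalRing_of_smooth A.hom x this
    exact ⟨inferInstance, Groth.PicAux.ufd_of_isRegularLocalRing _⟩
  set I := Scheme.IdealSheafData.vanishingIdeal W.compl with hIdef
  have hsupp : ∀ x : A.left, x ∈ I.support ↔ x ∉ W := fun x => by
    rw [hIdef, ← SetLike.mem_coe, Scheme.IdealSheafData.coe_support_vanishingIdeal]; rfl
  have hgen : ∀ ξ : Z.left, (∀ y, y ⤳ ξ → y = ξ) → j.left ξ ∈ W := by
    intro ξ hξ
    have : genericPoint Z.left = ξ := hξ _ (genericPoint_specializes ξ)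
    subst this
    exact ((genericPoint_specializes z₀).map j.left.continuous).mem_open W.2 (hz₀ ▸ heW)
  have hinv : ∀ x : A.left, (ι[A] : A ⟶ A).left x ∈ W ↔ x ∈ W := fun x => by
    conv_rhs => rw [← hWι]
    rfl
  have hI₁ : IsEffCartierIdeal (I.comap j.left) :=
    Divisors.isEffCartierIdeal_comap_reduced j.left hI fun ξ hξ h => (hsupp _).1 h (hgen ξ hξ)
  have hj' : j⁻¹ = j ≫ ι[A] := by rw [GrpObj.inv_eq_inv, GrpObj.comp_inv, Category.comp_id]
  have hI₂ : IsEffCartierIdeal (I.comap j⁻¹.left) :=
    Divisors.isEffCartierIdeal_comap_reduced _ hI fun ξ hξ h => (hsupp _).1 h (by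
      rw [hj']; exact (hinv _).2 (hgen ξ hξ))
  have hc : ∀ (f : Z ⟶ A) (hf : IsEffCartierIdeal (I.comap f.left)),
      opull f (cls (PicAux.isInvertible_idealMod hI)) = cls (PicAux.isInvertible_idealMod hf) := by
    intro f hf
    rw [show opull f = pull f.left from rfl, pull_cls, ← nonempty_iso_iff]
    exact PicAux.pullback_idealMod f.left hI hf
  have h := opull_pow (cls (PicAux.isInvertible_idealMod hI)) j n
  rw [hj, opull_one, hc j hI₁, hc j⁻¹ hI₂] at h
  obtain ⟨a, ha⟩ : ∃ a, (n + 1).choose 2 = a + 1 :=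
    Nat.exists_eq_succ_of_ne_zero (Nat.choose_pos (by omega)).ne'
  obtain ⟨K, hK, hKc, hKs⟩ := exists_cls_eq hI₁ hI₂ a (n.choose 2)
  rw [← ha, ← h, ← nonempty_iso_structure_iff] at hKc
  refine support_eq_empty_of_iso (isField_of_universallyClosed k Z.hom) hK hKc z (hKs z ?_)
  rw [Scheme.IdealSheafData.support_comap]
  exact (hsupp _).2 hz

end Groth.AbVarMul
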