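import Mathlib.RingTheory.SimpleModule.Basic
import Mathlib.FieldTheory.Perfect
import Mathlib.RingTheory.Artinian.Module
import Mathlib.FieldTheory.Minpoly.Field
import Groth.Agent.CSA.SemisimpleBC

/-!
# The centre of a semisimple algebra over a perfect field is separable
-/

namespace Groth.AbVarMul

open Polynomial
open scoped TensorProduct

theorem isSeparable_center (k : Type*) [Field k] [PerfectField k] (A : Type*) [Ring A] [Algebra k A]
    [Module.Finite k A] [IsSemisimpleRing A] :
    Algebra.IsSeparable k (Subalgebra.center k A) := by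
  have hred : ∀ w : Subalgebra.center k A, w * w = 0 → w = 0 := fun w hw => by
    obtain ⟨e, he, hI⟩ := IsSemisimpleRing.ideal_eq_span_idempotent (Ideal.span {(w : A)})
    obtain ⟨y, hy⟩ := Ideal.mem_span_singleton'.1
      (show e ∈ Ideal.span {(w : A)} from hI.symm ▸ Ideal.mem_span_singleton_self e)
    obtain ⟨a, ha⟩ := Ideal.mem_span_singleton'.1
      (show (w : A) ∈ Ideal.span {e} from hI ▸ Ideal.mem_span_singleton_self _)
    have hc : ∀ x, x * (w : A) = (w : A) * x := fun x => Subalgebra.mem_center_iff.1 w.2 x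
    have he0 : e = 0 := by
      rw [← he.eq, ← hy, mul_assoc, ← mul_assoc (w : A), ← hc y, mul_assoc y,
        show (w : A) * (w : A) = 0 from congrArg Subtype.val hw, mul_zero, mul_zero]
    exact Subtype.ext (by rw [← ha, he0, mul_zero]; rfl)
  refine ⟨fun z => PerfectField.separable_iff_squarefree.2 fun x hx => ?_⟩
  obtain ⟨q, hq⟩ := hx
  have hint : IsIntegral k z := Algebra.IsIntegral.isIntegral z
  have h0 : aeval z (x * q) = 0 := hred _ (by
    rw [← map_mul, show x * q * (x * q) = x * x * q * q by ring, ← hq, map_mul, minpoly.aeval,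
      zero_mul])
  have hxq : x * q ≠ 0 := fun h => minpoly.ne_zero hint (by rw [hq, mul_assoc, h, mul_zero])
  obtain ⟨c, hc⟩ := minpoly.dvd k z h0
  rw [hq] at hc
  have h1 : x * c = 1 := mul_left_cancel₀ hxq (by rw [mul_one]; exact (hc.trans (by ring)).symm)
  exact IsUnit.of_mul_eq_one _ h1

theorem isSemisimpleRing_range {K A B : Type*} [CommRing K] [Ring A] [Ring B] [Algebra K A]
    [Algebra K B] [IsSemisimpleRing A] (f : A →ₐ[K] B) : IsSemisimpleRing f.range :=
  f.rangeRestrict.toRingHom.isSemisimpleRing_of_surjective f.rangeRestrict_surjective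

/-- The `L`-span of the image of a semisimple `k`-algebra is a semisimple algebra. -/
theorem exists_semisimple_span {k : Type*} [Field k] [PerfectField k] {E : Type*} [Ring E]
    [Algebra k E] [Module.Finite k E] [IsSemisimpleRing E] {L : Type*} [Field L] [Algebra k L]
    {M : Type*} [Ring M] [Algebra k M] [Algebra L M] [IsScalarTower k L M] (f : E →ₐ[k] M) :
    ∃ R : Subalgebra L M, IsSemisimpleRing R ∧
      ∀ u, u ∈ R ↔ u ∈ Submodule.span L (Set.range f) := by
  have := isSeparable_center k E
  have := Groth.CSA.isSemisimpleRing_baseChange k E L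
  let Ψ : L ⊗[k] E →ₐ[L] M :=
    Algebra.TensorProduct.lift (Algebra.ofId L M) f fun c a => Algebra.commutes c (f a)
  have hΨ : ∀ (c : L) (a : E), Ψ (c ⊗ₜ[k] a) = c • f a := fun c a => by
    rw [Algebra.TensorProduct.lift_tmul, Algebra.smul_def]
    rfl
  refine ⟨Ψ.range, isSemisimpleRing_range Ψ, fun u => ⟨?_, fun hu => ?_⟩⟩
  · rintro ⟨x, rfl⟩
    show Ψ x ∈ _
    induction x using TensorProduct.induction_on with
    | zero => rw [map_zero]; exact Submodule.zero_mem _
    | add x y hx hy => rw [map_add]; exact Submodule.add_mem _ hx hy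
    | tmul c v => rw [hΨ]; exact Submodule.smul_mem _ c (Submodule.subset_span ⟨v, rfl⟩)
  · refine Submodule.span_le (p := Subalgebra.toSubmodule Ψ.range).2 ?_ hu
    rintro _ ⟨v, rfl⟩
    exact ⟨(1 : L) ⊗ₜ[k] v, by
      show Ψ _ = _
      rw [hΨ, one_smul]⟩

end Groth.AbVarMul
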