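import Mathlib.RingTheory.SimpleModule.Basic
import Mathlib.LinearAlgebra.Projection
import Mathlib.Algebra.Algebra.Subalgebra.Basic
import Mathlib.LinearAlgebra.FreeModule.Finite.Basic
import Mathlib.LinearAlgebra.Dimension.Finrank
import Mathlib.LinearAlgebra.FiniteDimensional.Basic

/-!
# Semisimple algebras of endomorphisms
-/

namespace Groth.AbVarMul.Commutant

variable {F V : Type*} [Field F] [AddCommGroup V] [Module F V] (R : Subalgebra F (Module.End F V))
  [IsSemisimpleRing R]

/-- The range of an element is the range of an idempotent of the algebra. -/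
theorem exists_idempotent_range {u : Module.End F V} (hu : u ∈ R) :
    ∃ e ∈ R, e * e = e ∧ LinearMap.range e = LinearMap.range u := by
  obtain ⟨f, hf, hfI⟩ := IsSemisimpleRing.ideal_eq_span_idempotent (Ideal.span {(⟨u, hu⟩ : R)})
  obtain ⟨g, hg⟩ := Ideal.mem_span_singleton'.1
    (show f ∈ Ideal.span {(⟨u, hu⟩ : R)} from hfI.symm ▸ Ideal.mem_span_singleton_self f)
  obtain ⟨a, ha⟩ := Ideal.mem_span_singleton'.1
    (show (⟨u, hu⟩ : R) ∈ Ideal.span {f} from hfI ▸ Ideal.mem_span_singleton_self _)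
  have huf : u * (f : Module.End F V) = u := by
    have : (⟨u, hu⟩ : R) * f = ⟨u, hu⟩ := by rw [← ha, mul_assoc, hf.eq]
    exact congrArg Subtype.val this
  have hgu : (g : Module.End F V) * u = f := congrArg Subtype.val hg
  refine ⟨u * g, R.mul_mem hu g.2, ?_, ?_⟩
  · rw [mul_assoc, ← mul_assoc (g : Module.End F V), hgu, ← mul_assoc, huf]
  · refine le_antisymm ?_ ?_
    · rintro _ ⟨x, rfl⟩; exact ⟨(g : Module.End F V) x, rfl⟩
    · rintro _ ⟨x, rfl⟩
      refine ⟨u x, ?_⟩
      show u ((g : Module.End F V) (u x)) = u x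
      have : (u * ((g : Module.End F V) * u)) x = u x := by rw [hgu, huf]
      exact this

/-- **The double centralizer theorem.** -/
theorem mem_of_commute [FiniteDimensional F V] (φ : Module.End F V)
    (h : ∀ c : Module.End F V, (∀ r ∈ R, c * r = r * c) → c * φ = φ * c) : φ ∈ R := by
  have hc : ∀ (c : Module.End R V) (m : V), φ (c m) = c (φ m) := fun c m => by
    have hcR : ∀ (r : R) (x : V), c ((r : Module.End F V) x) = (r : Module.End F V) (c x) :=
      fun r x => c.map_smul r x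
    let c' : Module.End F V :=
      { toFun := c
        map_add' := c.map_add
        map_smul' := fun a x => hcR (algebraMap F R a) x }
    exact (congrArg (fun y : Module.End F V => y m)
      (h c' fun r hr => LinearMap.ext fun x => hcR ⟨r, hr⟩ x)).symm
  let f : Module.End (Module.End R V) V :=
    { toFun := φ, map_add' := φ.map_add, map_smul' := fun c m => hc c m }
  let b := Module.finBasis F V
  classical
  obtain ⟨r, hr⟩ := jacobson_density f (Finset.univ.image b)
  have : φ = (r : Module.End F V) := b.ext fun i => hr (b i) (Finset.mem_image_of_mem _ (Finset.mem_univ i))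
  exact this ▸ r.2

omit [IsSemisimpleRing R] in
/-- An endomorphism whose graph is the range of a map with blocks commuting with `c` commutes
with `c`. -/
theorem commute_of_graph {V₂ : Type*} [AddCommGroup V₂] [Module F V₂] (P₁ P₂ : V₂ →ₗ[F] V)
    (I₁ I₂ : V →ₗ[F] V₂) (h11 : P₁ ∘ₗ I₁ = LinearMap.id) (h22 : P₂ ∘ₗ I₂ = LinearMap.id)
    (h12 : P₁ ∘ₗ I₂ = 0) (h21 : P₂ ∘ₗ I₁ = 0) (hsum : I₁ ∘ₗ P₁ + I₂ ∘ₗ P₂ = LinearMap.id)
    (U : Module.End F V₂) (φ c : Module.End F V)
    (hU : LinearMap.range U = LinearMap.ker (P₂ - φ ∘ₗ P₁))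
    (hb : ∀ x, P₁ (U (I₁ (c x))) = c (P₁ (U (I₁ x))) ∧ P₂ (U (I₁ (c x))) = c (P₂ (U (I₁ x))) ∧
      P₁ (U (I₂ (c x))) = c (P₁ (U (I₂ x))) ∧ P₂ (U (I₂ (c x))) = c (P₂ (U (I₂ x)))) :
    c * φ = φ * c := by
  have hdec : ∀ y, I₁ (P₁ y) + I₂ (P₂ y) = y := fun y =>
    congrArg (fun g : Module.End F V₂ => g y) hsum
  have a11 : ∀ x, P₁ (I₁ x) = x := fun x => congrArg (fun g : Module.End F V => g x) h11
  have a22 : ∀ x, P₂ (I₂ x) = x := fun x => congrArg (fun g : Module.End F V => g x) h22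
  have a12 : ∀ x, P₁ (I₂ x) = 0 := fun x => congrArg (fun g : Module.End F V => g x) h12
  have a21 : ∀ x, P₂ (I₁ x) = 0 := fun x => congrArg (fun g : Module.End F V => g x) h21
  refine LinearMap.ext fun v => ?_
  have hv : I₁ v + I₂ (φ v) ∈ LinearMap.range U := by
    rw [hU, LinearMap.mem_ker, LinearMap.sub_apply, LinearMap.comp_apply, map_add, map_add, a11,
      a12, a21, a22]
    simp
  obtain ⟨w, hw⟩ := hv
  have hv' : I₁ (c v) + I₂ (c (φ v)) ∈ LinearMap.range U := by
    refine ⟨I₁ (c (P₁ w)) + I₂ (c (P₂ w)), ?_⟩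
    have e1 : P₁ (U (I₁ (c (P₁ w)) + I₂ (c (P₂ w)))) = c v := by
      rw [map_add, map_add, (hb _).1, (hb _).2.2.1, ← map_add, ← map_add, ← map_add, hdec, hw,
        map_add, a11, a12, add_zero]
    have e2 : P₂ (U (I₁ (c (P₁ w)) + I₂ (c (P₂ w)))) = c (φ v) := by
      rw [map_add, map_add, (hb _).2.1, (hb _).2.2.2, ← map_add, ← map_add, ← map_add, hdec, hw,
        map_add, a21, a22, zero_add]
    rw [← e1, ← e2, hdec]
  rw [hU, LinearMap.mem_ker, LinearMap.sub_apply, LinearMap.comp_apply, map_add, map_add, a11, a12,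
    a21, a22, sub_eq_zero] at hv'
  simpa using hv'

end Groth.AbVarMul.Commutant
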