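import Groth.Agent.AbVarMul.Isogeny
import Groth.Agent.AlgGrp1.Geom
import Groth.Agent.AlgGrp1.Points
import Mathlib.AlgebraicGeometry.Sites.Representability

/-!
# Consequences of `[n]` being an isogeny
-/

universe u

open CategoryTheory Limits MonoidalCategory CartesianMonoidalCategory MonObj GrpObj AlgebraicGeometry
  TopologicalSpace

namespace Groth.AbVarMul

variable {k : Type u} [Field k] {A B : Over (Spec (CommRingCat.of k))} [GrpObj A]

/-- A smooth connected proper group over a field is geometrically integral. -/
theorem geometricallyIntegral_of_smooth [Smooth A.hom] [IsProper A.hom]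
    [GeometricallyConnected A.hom] : GeometricallyIntegral A.hom := by
  haveI : ConnectedSpace A.left :=
    GeometricallyConnected.connectedSpace A.hom A.hom.isOpenMap
  have := Groth.AlgGrp1.geometricallyIrreducible_of_connected A
  have := Groth.AlgGrp1.geometricallyReduced_of_smooth_hom A
  exact GeometricallyIntegral.of_geometricallyReduced_of_geometricallyIrreducible A.hom

/-- A flat surjective quasi-compact morphism is an epimorphism over the base. -/
theorem epi_of_flat_surjective {S : Scheme.{u}} {X Y : Over S} (f : X ⟶ Y) [Flat f.left]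
    [Surjective f.left] [QuasiCompact f.left] : Epi f := by
  have : Epi f.left := Flat.epi_of_flat_of_surjective f.left
  exact (Over.forget _).epi_of_epi_map this

/-- Finite surjective morphisms preserve the dimension. -/
theorem topologicalKrullDim_eq_of_finite_surjective {X Y : Scheme.{u}} (f : X ⟶ Y) [IsIntegralHom f]
    [Surjective f] : topologicalKrullDim X = topologicalKrullDim Y := by
  rw [Variety2.Dim.dim_eq_iSup_height, Variety2.Dim.dim_eq_iSup_height]
  exact f.surjective.iSup_congr _ fun x => by rw [GrpschAbsch.height_eq_of_isIntegralHom f x]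

variable [IsProper A.hom] [GeometricallyIntegral A.hom] [GrpObj B]

/-- The group of homomorphisms out of an abelian variety is torsion free. -/
theorem eq_one_of_zpow_eq_one (f : A ⟶ B) [IsMonHom f] {d : ℤ} (hd : d ≠ 0) (h : f ^ d = 1) :
    f = 1 := by
  obtain ⟨h1, h2, h3⟩ := isogeny_zpow (A := A) hd
  have := epi_of_flat_surjective (𝟙 A ^ d : A ⟶ A)
  rw [← cancel_epi (𝟙 A ^ d : A ⟶ A), MonObj.comp_one]
  rw [GrpObj.zpow_comp, Category.id_comp, h]

omit [GrpObj B] in
/-- A homomorphism which composed with an isogeny back is `[d]` is itself an isogeny. -/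
theorem isogeny_of_comp_eq_zpow [GrpObj B] [IsProper B.hom] [GeometricallyIntegral B.hom]
    (f : A ⟶ B) [IsMonHom f] (g : B ⟶ A) [IsMonHom g] [IsFinite g.left] [Surjective g.left]
    {d : ℤ} (hd : d ≠ 0) (h : f ≫ g = 𝟙 A ^ d) :
    IsFinite f.left ∧ Flat f.left ∧ Surjective f.left ∧ g ≫ f = 𝟙 B ^ d := by
  have := Groth.Abvar.isIntegral_left B
  have hdim : topologicalKrullDim A.left = topologicalKrullDim B.left :=
    (topologicalKrullDim_eq_of_finite_surjective g.left).symm
  have : IsFinite (f.left ≫ g.left) := by
    rw [← Over.comp_left, h]; exact (isogeny_zpow hd).1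
  have : IsFinite f.left := IsFinite.of_comp f.left g.left
  have hs := Groth.Abvar.Hom.surjective_of_isFinite f hdim
  have hf := Groth.Abvar.Hom.flat_of_surjective f
  have := epi_of_flat_surjective f
  refine ⟨‹_›, hf, hs, ?_⟩
  rw [← cancel_epi f, ← Category.assoc, h, GrpObj.zpow_comp, Category.id_comp, GrpObj.comp_zpow,
    Category.comp_id]

end Groth.AbVarMul
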