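import Groth.Agent.CurveNorm.Main
import Mathlib.RingTheory.IntegralClosure.GoingDown
import Mathlib.RingTheory.DedekindDomain.IntegralClosure
import Mathlib.RingTheory.NoetherNormalization

/-!
# Joining a rational point of an affine variety to a finite set by smooth affine curves
-/

universe u

namespace Groth.AbVarMul

open MvPolynomial

variable {k : Type u} [Field k] [IsAlgClosed k]

/-- Algebra maps to an algebraically closed field extend along integral extensions of finite type. -/
theorem exists_algHom_extend {R S : Type u} [CommRing R] [CommRing S] [Algebra k R] [Algebra k S]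
    [Algebra R S] [IsScalarTower k R S] [Algebra.IsIntegral R S] [Algebra.FiniteType k S]
    (hinj : Function.Injective (algebraMap R S)) (b : R →ₐ[k] k) :
    ∃ c : S →ₐ[k] k, ∀ r, c (algebraMap R S r) = b r := by
  have hP : (RingHom.ker b.toRingHom).IsMaximal :=
    RingHom.ker_isMaximal_of_surjective b.toRingHom fun a => ⟨algebraMap k R a, b.commutes a⟩
  obtain ⟨M, hM, hMP⟩ := Ideal.exists_ideal_over_maximal_of_isIntegral (S := S) (RingHom.ker b.toRingHom)
    (by rw [(RingHom.injective_iff_ker_eq_bot _).1 hinj]; exact bot_le)
  let := Ideal.Quotient.field M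
  have : Module.Finite k (S ⧸ M) := finite_of_finite_type_of_isJacobsonRing k (S ⧸ M)
  let e : k ≃ₐ[k] S ⧸ M := AlgEquiv.ofBijective (Algebra.ofId k _)
    (IsAlgClosed.algebraMap_bijective_of_isIntegral (k := k) (K := S ⧸ M))
  refine ⟨e.symm.toAlgHom.comp (Ideal.Quotient.mkₐ k M), fun r => ?_⟩
  have h : r - algebraMap k R (b r) ∈ (M.comap (algebraMap R S)) := by
    rw [hMP]
    show b _ = 0
    simp
  rw [Ideal.mem_comap, map_sub, ← IsScalarTower.algebraMap_apply] at h
  show e.symm (Ideal.Quotient.mk M (algebraMap R S r)) = b r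
  rw [AlgEquiv.symm_apply_eq, Ideal.Quotient.eq.2 h]
  rfl

/-- A point of an affine variety is joined by a smooth affine curve to a point in a prescribed fibre
of a Noether normalization. -/
theorem exists_curve_link {B : Type u} [CommRing B] [IsDomain B] [Algebra k B] {d : ℕ}
    (g : MvPolynomial (Fin d) k →ₐ[k] B) (hg : Function.Injective g) (hgf : g.Finite)
    (b : B →ₐ[k] k) (t0 : Fin d → k) (hne : (fun i => b (g (X i))) ≠ t0) :
    ∃ (D : Type u) (_ : CommRing D) (_ : Algebra k D) (φ : B →ₐ[k] D) (c c' : D →ₐ[k] k),
      IsDedekindDomain D ∧ ¬ IsField D ∧ Algebra.FiniteType k D ∧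
      c.comp φ = b ∧ ∀ i, c' (φ (g (X i))) = t0 i := by
  let aPB : Algebra (MvPolynomial (Fin d) k) B := g.toRingHom.toAlgebra
  have : IsScalarTower k (MvPolynomial (Fin d) k) B := IsScalarTower.of_algebraMap_eq fun a => (g.commutes a).symm
  have : FaithfulSMul (MvPolynomial (Fin d) k) B := (faithfulSMul_iff_algebraMap_injective _ _).2 hg
  have : Module.Finite (MvPolynomial (Fin d) k) B := hgf
  have : Algebra.HasGoingDown (MvPolynomial (Fin d) k) B := inferInstance
  have : Algebra.FiniteType k B := Algebra.FiniteType.trans (S := MvPolynomial (Fin d) k) inferInstance inferInstance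
  set a : Fin d → k := fun i => b (g (X i)) with ha
  obtain ⟨i₀, hi₀⟩ := Function.ne_iff.1 hne
  let π : MvPolynomial (Fin d) k →ₐ[k] Polynomial k :=
    aeval fun i => Polynomial.C (t0 i) + Polynomial.C (a i - t0 i) * Polynomial.X
  have hπ1 : ∀ p, Polynomial.eval 1 (π p) = b (g p) := by
    intro p
    have : (Polynomial.aeval (1 : k)).comp π = b.comp g := MvPolynomial.algHom_ext fun i => by
      simp [π, ha]
    simpa using congr($this p)
  have hπ0 : ∀ i, Polynomial.eval 0 (π (X i)) = t0 i := fun i => by simp [π]
  have hπs : Function.Surjective π := by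
    have hX : Polynomial.X ∈ π.range := by
      refine ⟨C (a i₀ - t0 i₀)⁻¹ * (X i₀ - C (t0 i₀)), ?_⟩
      show π (C (a i₀ - t0 i₀)⁻¹ * (X i₀ - C (t0 i₀))) = Polynomial.X
      simp only [π, map_mul, map_sub, aeval_X, aeval_C, Polynomial.algebraMap_eq]
      rw [add_sub_cancel_left, ← mul_assoc, ← map_sub Polynomial.C, ← map_mul, inv_mul_cancel₀ (sub_ne_zero.2 hi₀), map_one, one_mul]
    intro q
    have : q ∈ π.range := by
      induction q using Polynomial.induction_on' with
      | add p q hp hq => exact add_mem hp hq
      | monomial n c =>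
        rw [← Polynomial.C_mul_X_pow_eq_monomial]
        exact mul_mem ⟨C c, by simp [π]⟩ (pow_mem hX n)
    exact this
  let P : Ideal (MvPolynomial (Fin d) k) := RingHom.ker π.toRingHom
  have : P.IsPrime := RingHom.ker_isPrime _
  let m : Ideal B := RingHom.ker b.toRingHom
  have : m.IsPrime := RingHom.ker_isPrime _
  have hle : P ≤ m.under _ := fun p hp => by
    show b (g p) = 0
    rw [← hπ1, show π p = 0 from hp, Polynomial.eval_zero]
  obtain ⟨Q, hQm, hQp, hQo⟩ := Ideal.exists_ideal_le_liesOver_of_le m (p := P) (q := m.under _) hle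
  -- the curve
  let R := B ⧸ Q
  have hker : ∀ p, g p ∈ Q ↔ π p = 0 := fun p => by
    have h := hQo.over
    exact (Iff.of_eq (congrArg (fun I : Ideal _ => p ∈ I) h)).symm
  let ψ : Polynomial k →ₐ[k] R := (Ideal.Quotient.liftₐ (RingHom.ker π)
    ((Ideal.Quotient.mkₐ k Q).comp g) (fun p hp => Ideal.Quotient.eq_zero_iff_mem.2 ((hker p).2 hp))).comp
      (Ideal.quotientKerAlgEquivOfSurjective hπs).symm.toAlgHom
  have hψ : ∀ p, ψ (π p) = Ideal.Quotient.mk Q (g p) := fun p => by
    have : (Ideal.quotientKerAlgEquivOfSurjective hπs).symm (π p) = Ideal.Quotient.mk _ p := by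
      rw [AlgEquiv.symm_apply_eq]; rfl
    simp only [ψ, AlgHom.comp_apply, AlgEquiv.coe_toAlgHom, this]
    rfl
  have hψi : Function.Injective ψ := by
    rw [injective_iff_map_eq_zero]
    intro q hq
    obtain ⟨p, rfl⟩ := hπs q
    rw [hψ, Ideal.Quotient.eq_zero_iff_mem, hker] at hq
    exact hq
  have hψf : ψ.toRingHom.Finite := by
    refine RingHom.Finite.of_comp_finite (f := π.toRingHom) ?_
    rw [show ψ.toRingHom.comp π.toRingHom = (Ideal.Quotient.mk Q).comp g.toRingHom from RingHom.ext hψ]
    exact RingHom.Finite.comp (RingHom.Finite.of_surjective _ Ideal.Quotient.mk_surjective) hgf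
  let aPR : Algebra (Polynomial k) R := ψ.toRingHom.toAlgebra
  have : IsScalarTower k (Polynomial k) R := IsScalarTower.of_algebraMap_eq fun a => (ψ.commutes a).symm
  have : Module.Finite (Polynomial k) R := hψf
  have : FaithfulSMul (Polynomial k) R := (faithfulSMul_iff_algebraMap_injective _ _).2 hψi
  let L := FractionRing R
  let F := FractionRing (Polynomial k)
  let : Algebra F L := FractionRing.liftAlgebra (Polynomial k) L
  have : IsScalarTower (Polynomial k) F L := FractionRing.isScalarTower_liftAlgebra _ _
  have hLF : Module.Finite F L := by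
    obtain ⟨S, hS⟩ := Module.Finite.fg_top (R := Polynomial k) (M := R)
    let G : Set L := algebraMap R L '' (S : Set R)
    have hfd : FiniteDimensional F (IntermediateField.adjoin F G) := by
      have : Finite G := (S.finite_toSet.image _).to_subtype
      refine IntermediateField.finiteDimensional_adjoin fun x hx => ?_
      obtain ⟨r, -, rfl⟩ := hx
      exact ((Algebra.IsIntegral.isIntegral (R := Polynomial k) r).map
        (IsScalarTower.toAlgHom (Polynomial k) R L)).tower_top
    have htop : IntermediateField.adjoin F G = ⊤ := by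
      have hR : ∀ r : R, algebraMap R L r ∈ IntermediateField.adjoin F G := fun r => by
        have hr : r ∈ Submodule.span (Polynomial k) (S : Set R) := hS ▸ Submodule.mem_top
        induction hr using Submodule.span_induction with
        | mem x hx => exact IntermediateField.subset_adjoin F G ⟨x, hx, rfl⟩
        | zero => rw [map_zero]; exact zero_mem _
        | add x y _ _ hx hy => rw [map_add]; exact add_mem hx hy
        | smul q x _ hx =>
          rw [Algebra.smul_def, map_mul, ← IsScalarTower.algebraMap_apply,
            IsScalarTower.algebraMap_apply (Polynomial k) F L]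
          exact mul_mem (IntermediateField.algebraMap_mem _ _) hx
      refine eq_top_iff.2 fun z _ => ?_
      obtain ⟨x, y, -, rfl⟩ := IsFractionRing.div_surjective (A := R) z
      exact div_mem (hR x) (hR y)
    rw [htop] at hfd
    exact Module.Finite.equiv (IntermediateField.topEquiv (F := F) (E := L)).toLinearEquiv
  have hN2 : CAlg.IsN2 (Polynomial k) :=
    Groth.Calg1.isN2_self_of_isNagata (Groth.Calg1.isNagata_of_finiteType (CurveNorm.isNagata_field k))
  let D := integralClosure (Polynomial k) L
  have hDfin : Module.Finite (Polynomial k) D := Groth.Calg4.finite_ic_of_isN2 hN2 F L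
  have : IsIntegrallyClosed D := integralClosure.isIntegrallyClosedOfFiniteExtension F
  have : IsNoetherianRing D := isNoetherian_of_tower (Polynomial k)
    (inferInstance : IsNoetherian (Polynomial k) D)
  have hDed : IsDedekindDomain D :=
    { (isDedekindRing_iff D (FractionRing D)).2 ⟨‹_›, inferInstance,
        fun {x} hx => IsIntegrallyClosed.isIntegral_iff.1 hx⟩ with }
  have hinjD : Function.Injective (algebraMap (Polynomial k) D) := fun x y h => by
    have h' := congrArg (algebraMap D L) h
    rw [← IsScalarTower.algebraMap_apply, ← IsScalarTower.algebraMap_apply,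
      IsScalarTower.algebraMap_apply (Polynomial k) R L, IsScalarTower.algebraMap_apply (Polynomial k) R L] at h'
    exact hψi (IsFractionRing.injective R L h')
  have hDnf : ¬ IsField D := fun hF =>
    Polynomial.not_isField k (isField_of_isIntegral_of_isField hinjD hF)
  have : Algebra.FiniteType k D := Algebra.FiniteType.trans (S := Polynomial k) inferInstance inferInstance
  let ρ : R →ₐ[k] D :=
    { toFun := fun r => ⟨algebraMap R L r, (Algebra.IsIntegral.isIntegral (R := Polynomial k) r).map
        (IsScalarTower.toAlgHom (Polynomial k) R L)⟩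
      map_one' := Subtype.ext (map_one _)
      map_mul' := fun x y => Subtype.ext (map_mul _ x y)
      map_zero' := Subtype.ext (map_zero _)
      map_add' := fun x y => Subtype.ext (map_add _ x y)
      commutes' := fun r => Subtype.ext (by
        show algebraMap R L (algebraMap k R r) = algebraMap k L r
        rw [← IsScalarTower.algebraMap_apply]) }
  have hρ : ∀ q, ρ (ψ q) = algebraMap (Polynomial k) D q := fun q => Subtype.ext (by
    show algebraMap R L (algebraMap (Polynomial k) R q) = algebraMap (Polynomial k) L q
    rw [← IsScalarTower.algebraMap_apply])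
  let aRD : Algebra R D := ρ.toRingHom.toAlgebra
  have : IsScalarTower k R D := IsScalarTower.of_algebraMap_eq fun a => (ρ.commutes a).symm
  have : IsScalarTower (Polynomial k) R D := IsScalarTower.of_algebraMap_eq fun q => (hρ q).symm
  have : Module.Finite R D := Module.Finite.of_restrictScalars_finite (Polynomial k) R D
  obtain ⟨c, hc⟩ := exists_algHom_extend (R := R) (S := D)
    (fun x y h => IsFractionRing.injective R L (congrArg Subtype.val h))
    (Ideal.Quotient.liftₐ Q b fun x hx => hQm hx)
  obtain ⟨c', hc'⟩ := exists_algHom_extend (R := Polynomial k) (S := D) hinjD (Polynomial.aeval (0 : k))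
  refine ⟨D, inferInstance, inferInstance, ρ.comp (Ideal.Quotient.mkₐ k Q), c, c', hDed, hDnf, ‹_›,
    AlgHom.ext fun x => hc (Ideal.Quotient.mk Q x), fun i => ?_⟩
  show c' (ρ (Ideal.Quotient.mk Q (g (X i)))) = t0 i
  rw [← hψ, hρ, hc']
  simpa using hπ0 i

end Groth.AbVarMul
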