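import Groth.Agent.AlgGrp1.AffineCrit
import Groth.Agent.NeronArea.FieldComponents
import Groth.Agent.DescentBase.TopDescent
import Groth.Agent.AlgGrp1.Geom
import Groth.Agent.Abvar.Rigidity

/-!
# The reduced identity component of the kernel of a homomorphism of abelian varieties
-/

universe u

open CategoryTheory Limits MonoidalCategory CartesianMonoidalCategory MonObj GrpObj AlgebraicGeometry
  TopologicalSpace

namespace Groth.AbVarMul

open Groth.NeronArea Groth.NeronArea.FieldComponents

theorem pow_comp' {S : Scheme.{u}} {G H T : Over S} [GrpObj G] [GrpObj H] (f : G ⟶ H) [IsMonHom f]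
    (x : T ⟶ G) (n : ℕ) : (x ^ n) ≫ f = (x ≫ f) ^ n := by
  induction n with
  | zero => rw [pow_zero, pow_zero, MonObj.one_comp]
  | succ n ih => rw [pow_succ, pow_succ, MonObj.mul_comp, ih]

/-- A subgroup of a commutative group is commutative. -/
theorem isCommMonObj_of_mono {S : Scheme.{u}} {G H : Over S} [GrpObj G] [GrpObj H] [IsCommMonObj H]
    (f : G ⟶ H) [IsMonHom f] [Mono f] : IsCommMonObj G where
  mul_comm := by
    rw [← cancel_mono f, Category.assoc, IsMonHom.mul_hom f,
      ← BraidedCategory.braiding_naturality_assoc, IsCommMonObj.mul_comm]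

variable {k : Type u} [Field k] [IsAlgClosed k]

theorem exists_point' {X : Over (Spec (CommRingCat.of k))} [LocallyOfFiniteType X.hom] (x : X.left)
    (hx : IsClosed {x}) : ∃ z : 𝟙_ (Over (Spec (CommRingCat.of k))) ⟶ X, pp z = x :=
  ⟨Over.homMk (pointOfClosedPoint X.hom x hx) (pointOfClosedPoint_comp X.hom x hx),
    pointOfClosedPoint_apply X.hom x hx _⟩

theorem point_ext' {X : Over (Spec (CommRingCat.of k))} [LocallyOfFiniteType X.hom]
    {x y : 𝟙_ (Over (Spec (CommRingCat.of k))) ⟶ X} (h : pp x = pp y) : x = y := by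
  ext1
  exact ext_of_apply_closedPoint_eq X.hom (Over.w x) (Over.w y) h

/-- Morphisms of a reduced finite type scheme into a separated one agree if they agree on rational
points. -/
theorem eq_of_points {X Y : Over (Spec (CommRingCat.of k))} [IsReduced X.left] [LocallyOfFiniteType X.hom]
    [LocallyOfFiniteType Y.hom] [IsSeparated Y.hom] {f g : X ⟶ Y}
    (h : ∀ z : 𝟙_ (Over (Spec (CommRingCat.of k))) ⟶ X, z ≫ f = z ≫ g) : f = g := by
  have := LocallyOfFiniteType.jacobsonSpace X.hom
  have : LocallyOfFiniteType (f.left ≫ Y.hom) := by rw [Over.w]; infer_instance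
  refine Over.OverMorphism.ext (ext_of_apply_eq Y.hom Set.univ isOpen_univ.isLocallyClosed dense_univ
    (fun x _ hx => ?_) ((Over.w f).trans (Over.w g).symm))
  obtain ⟨z, rfl⟩ := exists_point' x hx
  exact congrArg pp (h z)

local notation "pt" => (𝟙_ (Over (Spec (CommRingCat.of k))))

/-- A closed subset of a group scheme over an algebraically closed field whose rational points form
a subgroup is the underlying set of a smooth closed subgroup scheme. -/
theorem exists_subgroup_of_closed (G : Over (Spec (CommRingCat.of k))) [GrpObj G]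
    [LocallyOfFiniteType G.hom] {F : Set G.left} (hF : IsClosed F)
    (h1 : pp (1 : pt ⟶ G) ∈ F)
    (hmul : ∀ x y : pt ⟶ G, pp x ∈ F → pp y ∈ F → pp (x * y) ∈ F)
    (hinv : ∀ x : pt ⟶ G, pp x ∈ F → pp x⁻¹ ∈ F) :
    ∃ (Z : Over (Spec (CommRingCat.of k))) (_ : GrpObj Z) (c : Z ⟶ G), IsMonHom c ∧
      IsClosedImmersion c.left ∧ Set.range c.left.base = F ∧ Smooth Z.hom ∧
      ∀ x : pt ⟶ G, (∃ z : pt ⟶ Z, z ≫ c = x) ↔ pp x ∈ F := by
  obtain ⟨Z₀, i₀, hi₀, hr₀⟩ := Groth.DescentBase.exists_closedImmersion_range hF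
  obtain ⟨Z, c', hc', hs', hred⟩ := Groth.AlgGrp1.exists_reduced (Over.mk (i₀ ≫ G.hom))
  let c : Z ⟶ G := c' ≫ (Over.homMk i₀ rfl : Over.mk (i₀ ≫ G.hom) ⟶ G)
  have hc : IsClosedImmersion c.left := inferInstanceAs (IsClosedImmersion (c'.left ≫ i₀))
  have hr : Set.range c.left.base = F := by
    show Set.range (i₀.base ∘ c'.left.base) = F
    rw [Set.range_comp, c'.left.surjective.range_eq, Set.image_univ, hr₀]
  have : LocallyOfFiniteType Z.hom := by rw [← Over.w c]; infer_instance
  have := LocallyOfFiniteType.jacobsonSpace Z.hom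
  have : GeometricallyReduced Z.hom := by
    refine Groth.Agf.geometricallyReduced_of_dense_points Z ?_
    rw [dense_iff_closure_eq, ← Set.univ_subset_iff, ← closure_closedPoints (X := Z.left)]
    refine closure_mono fun p hp => ?_
    exact ⟨Over.homMk _ ((pointEquivClosedPoint Z.hom).symm ⟨p, hp⟩).2, IsLocalRing.closedPoint k,
      pointOfClosedPoint_apply Z.hom p hp _⟩
  have : IsReduced (pt).left := inferInstanceAs (IsReduced (Spec (CommRingCat.of k)))
  have := Groth.AlgGrp1.isReduced_tensorObj Z Z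
  have hZ : ∀ z : pt ⟶ Z, pp (z ≫ c) ∈ F := fun z => hr ▸ ⟨pp z, rfl⟩
  -- a morphism from a reduced scheme factors when its rational points land in `F`
  have hfac : ∀ {T : Over (Spec (CommRingCat.of k))} [IsReduced T.left] [LocallyOfFiniteType T.hom]
      (f : T ⟶ G), (∀ t : pt ⟶ T, pp (t ≫ f) ∈ F) → ∃ z : T ⟶ Z, z ≫ c = f := fun {T} _ _ f hf => by
    have := LocallyOfFiniteType.jacobsonSpace T.hom
    refine Groth.AlgGrp1.exists_factor_of_range_subset c f ?_
    rw [hr]
    rintro _ ⟨p, rfl⟩
    have hcl : closedPoints T.left ⊆ f.left.base ⁻¹' F := fun q hq => by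
      obtain ⟨t, rfl⟩ := exists_point' q hq
      exact hf t
    exact (hF.preimage f.left.continuous).closure_subset_iff.2 hcl
      (by rw [closure_closedPoints]; trivial)
  have : LocallyOfFiniteType (pt).hom := inferInstanceAs (LocallyOfFiniteType (𝟙 _))
  have : LocallyOfFiniteType (Z ⊗ Z).hom :=
    inferInstanceAs (LocallyOfFiniteType (pullback.fst Z.hom Z.hom ≫ Z.hom))
  obtain ⟨o, ho⟩ := hfac (1 : pt ⟶ G) (fun t => by rw [MonObj.comp_one]; exact h1)
  obtain ⟨m, hm⟩ := hfac ((fst Z Z ≫ c) * (snd Z Z ≫ c)) (fun t => by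
    rw [MonObj.comp_mul, ← Category.assoc, ← Category.assoc]
    exact hmul ((t ≫ fst Z Z) ≫ c) ((t ≫ snd Z Z) ≫ c) (hZ (t ≫ fst Z Z)) (hZ (t ≫ snd Z Z)))
  obtain ⟨v, hv⟩ := hfac (c ≫ ι[G]) (fun t => by
    rw [← Category.assoc, ← Hom.inv_def]
    exact hinv _ (hZ t))
  have : Mono c := Over.mono_of_mono_left c
  obtain ⟨inst, hcm⟩ := Groth.Agf.exists_grpObj_of_subgroup c
    (fun T g => ∃ z : T ⟶ Z, z ≫ c = g) (fun _ _ => Iff.rfl)
    (fun T => ⟨toUnit T ≫ o, by rw [Category.assoc, ho, MonObj.comp_one]⟩)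
    (fun T a b ⟨x, hx⟩ ⟨y, hy⟩ => ⟨lift x y ≫ m, by
      rw [Category.assoc, hm, MonObj.comp_mul, lift_fst_assoc, lift_snd_assoc, hx, hy]⟩)
    (fun T a ⟨x, hx⟩ => ⟨x ≫ v, by rw [Category.assoc, hv, ← hx, Hom.inv_def]; exact (Category.assoc _ _ _).symm⟩)
  have : GrpObj (Over.mk Z.hom) := inst
  refine ⟨Z, inst, c, hcm, hc, hr, Groth.GrpschAbsch.smooth_of_perfectField_of_isReduced Z.hom,
    fun x => ⟨?_, fun hx => hfac x fun t => ?_⟩⟩
  · rintro ⟨z, rfl⟩
    exact hZ z
  · rw [toUnit_unique t (𝟙 _), Category.id_comp]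
    exact hx

/-- The unit component of a closed subgroup of a proper commutative group: a proper geometrically
integral closed subgroup inside it, containing a bounded power of each of its points. -/
theorem exists_component_of_closed {A : Over (Spec (CommRingCat.of k))} [GrpObj A] [IsCommMonObj A]
    [IsProper A.hom] {F : Set A.left} (hF : IsClosed F) (h1 : pp (1 : pt ⟶ A) ∈ F)
    (hmul : ∀ x y : pt ⟶ A, pp x ∈ F → pp y ∈ F → pp (x * y) ∈ F)
    (hinv : ∀ x : pt ⟶ A, pp x ∈ F → pp x⁻¹ ∈ F) :
    ∃ (C : Over (Spec (CommRingCat.of k))) (_ : GrpObj C) (i : C ⟶ A),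
      IsMonHom i ∧ IsClosedImmersion i.left ∧ IsProper C.hom ∧ GeometricallyIntegral C.hom ∧
      IsCommMonObj C ∧ (∀ z : pt ⟶ C, pp (z ≫ i) ∈ F) ∧
      (∃ c : ℕ, 0 < c ∧ ∀ a : pt ⟶ A, pp a ∈ F → ∃ z : pt ⟶ C, z ≫ i = a ^ c) ∧
      (Subsingleton C.left → {a : pt ⟶ A | pp a ∈ F}.Finite) := by
  obtain ⟨K, _, j, _, _, hjr, _, hK⟩ := exists_subgroup_of_closed A hF h1 hmul hinv
  have : Mono j := Over.mono_of_mono_left j
  have : IsProper K.hom := by rw [← Over.w j]; infer_instance
  have := LocallyOfFiniteType.jacobsonSpace K.hom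
  have : IsCommMonObj K := Groth.AbVarMul.isCommMonObj_of_mono j
  have hnoeth := Groth.SGA7.ComponentGroup.noetherianSpace K
  obtain ⟨C, _, i, _, _, hir, _, hC⟩ := exists_subgroup_of_closed K
    (F := connectedComponent (η[K].left (IsLocalRing.closedPoint k))) isClosed_connectedComponent
    ((mem_neutral_iff _).1 (neutral K).one_mem)
    (fun x y hx hy => (mem_neutral_iff _).1
      ((neutral K).mul_mem ((mem_neutral_iff _).2 hx) ((mem_neutral_iff _).2 hy)))
    (fun x hx => (mem_neutral_iff _).1 ((neutral K).inv_mem ((mem_neutral_iff _).2 hx)))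
  have : Mono i := Over.mono_of_mono_left i
  have : IsClosedImmersion (i ≫ j).left :=
    inferInstanceAs (IsClosedImmersion (i.left ≫ j.left))
  have : IsProper C.hom := by rw [← Over.w i]; infer_instance
  have : ConnectedSpace C.left := by
    rw [connectedSpace_iff_univ]
    have h := isConnected_connectedComponent (x := η[K].left (IsLocalRing.closedPoint k))
    rw [← hir, ← Set.image_univ] at h
    exact ⟨h.1.of_image, i.left.isEmbedding.isInducing.isPreconnected_image.1 h.2⟩
  have hCint : GeometricallyIntegral C.hom := Groth.AlgGrp1.geometricallyIntegral_of_smooth C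
  have hfin := Groth.SGA7.ComponentGroup.finite_components (Set.univ : Set K.left)
  have := hfin.to_subtype
  let N := Nat.card (connectedComponentIn (Set.univ : Set K.left) '' Set.univ)
  have hpow : ∀ x : pt ⟶ K, x ^ N.factorial ∈ neutral K := fun x => by
    obtain ⟨a, b, hab, hC'⟩ : ∃ a b : Fin (N + 1), a < b ∧
        connectedComponentIn Set.univ (pp (x ^ (a : ℕ))) = connectedComponentIn Set.univ (pp (x ^ (b : ℕ))) := by
      by_contra h
      push Not at h
      have hinj : Function.Injective fun a : Fin (N + 1) =>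
          (⟨connectedComponentIn Set.univ (pp (x ^ (a : ℕ))), Set.mem_image_of_mem _ trivial⟩ :
            ↥(connectedComponentIn (Set.univ : Set K.left) '' Set.univ)) := fun a b hab => by
        rcases lt_trichotomy a b with h' | h' | h'
        · exact absurd (congrArg Subtype.val hab) (h a b h')
        · exact h'
        · exact absurd (congrArg Subtype.val hab).symm (h b a h')
      have := Nat.card_le_card_of_injective _ hinj
      rw [Nat.card_fin] at this
      exact Nat.not_succ_le_self N this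
    have hab' : (a : ℕ) ≤ b := hab.le
    have hr : FieldComponents.Rel (x ^ (a : ℕ)) (x ^ (b : ℕ)) := by
      simp only [connectedComponentIn_univ] at hC'
      rw [FieldComponents.Rel, hC']
      exact mem_connectedComponent
    rw [rel_iff, ← pow_sub x hab'] at hr
    obtain ⟨d, hd⟩ : ((b : ℕ) - a) ∣ N.factorial :=
      Nat.dvd_factorial (Nat.sub_pos_of_lt hab) (by have := b.isLt; omega)
    rw [hd, pow_mul]
    exact pow_mem hr d
  refine ⟨C, inferInstance, i ≫ j, inferInstance, ‹_›, ‹_›, hCint,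
    Groth.AbVarMul.isCommMonObj_of_mono (i ≫ j), ?_, ⟨N.factorial, Nat.factorial_pos N, ?_⟩, ?_⟩
  · intro z
    rw [← Category.assoc]
    exact (hK _).1 ⟨_, rfl⟩
  · intro a ha
    obtain ⟨x, rfl⟩ := (hK a).2 ha
    obtain ⟨z, hz⟩ := (hC _).2 ((mem_neutral_iff _).1 (hpow x))
    exact ⟨z, by rw [← Category.assoc, hz, Groth.AbVarMul.pow_comp']⟩
  · intro hsub
    have hsing : (connectedComponent (η[K].left (IsLocalRing.closedPoint k))).Subsingleton := by
      rw [← hir]
      exact Set.subsingleton_range _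
    have hneutral : ∀ x : pt ⟶ K, x ∈ neutral K → x = 1 := fun x hx => point_ext'
      (hsing ((mem_neutral_iff x).1 hx) ((mem_neutral_iff 1).1 (neutral K).one_mem))
    have : Finite (pt ⟶ K) := Finite.of_injective
      (fun x => (⟨connectedComponentIn Set.univ (pp x), Set.mem_image_of_mem _ trivial⟩ :
        ↥(connectedComponentIn (Set.univ : Set K.left) '' Set.univ))) fun x y hxy => by
        have h := congrArg Subtype.val hxy
        simp only [connectedComponentIn_univ] at h
        have hr : FieldComponents.Rel x y := by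
          rw [FieldComponents.Rel, h]
          exact mem_connectedComponent
        exact (mul_inv_eq_one.1 (hneutral _ ((rel_iff _ _).1 hr))).symm
    refine (Set.finite_range fun x : pt ⟶ K => x ≫ j).subset fun a ha => ?_
    exact (hK a).2 ha

/-- The unit component of the reduced kernel of a homomorphism of proper groups: a proper
geometrically integral closed subgroup killed by the homomorphism, containing a bounded power of
every point of the kernel. -/
theorem exists_kernel_component {A B : Over (Spec (CommRingCat.of k))} [GrpObj A] [IsCommMonObj A]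
    [IsProper A.hom] [GrpObj B] [IsSeparated B.hom] [LocallyOfFiniteType B.hom]
    (α : A ⟶ B) [IsMonHom α] :
    ∃ (C : Over (Spec (CommRingCat.of k))) (_ : GrpObj C) (i : C ⟶ A),
      IsMonHom i ∧ IsClosedImmersion i.left ∧ IsProper C.hom ∧ GeometricallyIntegral C.hom ∧
      IsCommMonObj C ∧ i ≫ α = 1 ∧
      (∃ c : ℕ, 0 < c ∧ ∀ a : pt ⟶ A, a ≫ α = 1 → ∃ z : pt ⟶ C, z ≫ i = a ^ c) ∧
      (Subsingleton C.left → {a : pt ⟶ A | a ≫ α = 1}.Finite) := by
  have hcl : IsClosed ({pp (1 : pt ⟶ B)} : Set B.left) :=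
    (pointEquivClosedPoint B.hom ⟨(1 : pt ⟶ B).left, Over.w _⟩).2
  set F := α.left.base ⁻¹' {pp (1 : pt ⟶ B)} with hFdef
  have hker : ∀ a : pt ⟶ A, pp a ∈ F ↔ a ≫ α = 1 := fun a =>
    ⟨fun h => point_ext' (by rw [pp_comp]; exact h), fun h => by
      show α.left (pp a) = pp (1 : pt ⟶ B)
      rw [← pp_comp, h]⟩
  obtain ⟨C, _, i, hi, hic, hCp, hCg, hCc, hCF, ⟨c, hc, hcC⟩, hsub⟩ :=
    exists_component_of_closed (hcl.preimage α.left.continuous)
    ((hker 1).2 (MonObj.one_comp α))
    (fun x y hx hy => (hker _).2 (by rw [MonObj.mul_comp, (hker x).1 hx, (hker y).1 hy, _root_.one_mul]))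
    (fun x hx => (hker _).2 (by rw [GrpObj.inv_comp, (hker x).1 hx, inv_one]))
  refine ⟨C, inferInstance, i, hi, hic, hCp, hCg, hCc, ?_,
    ⟨c, hc, fun a ha => hcC a ((hker a).2 ha)⟩, fun h => ?_⟩
  · have : IsReduced C.left := haveI := Groth.Abvar.isIntegral_left C; inferInstance
    refine Groth.AbVarMul.eq_of_points (fun z => ?_)
    rw [← Category.assoc, (hker _).1 (hCF z), MonObj.comp_one]
  · convert hsub h using 1
    ext a
    exact (hker a).symm

end Groth.AbVarMul
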