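import Groth.Agent.AbVarMul.TateDiv
import Groth.Agent.AbVarMul.BCPoints

/-!
# Divisibility detected on Tate modules over an arbitrary field
-/

universe u

open CategoryTheory Limits MonoidalCategory CartesianMonoidalCategory MonObj GrpObj AlgebraicGeometry
open AbDual

namespace Groth.AbVarMul

variable {k : Type u} [Field k] (K : Type u) [Field K] [Algebra k K]

local notation "ptK" => (𝟙_ (Over (Spec (CommRingCat.of K))))

theorem isProper_bcF (A : Over (Spec (CommRingCat.of k))) [IsProper A.hom] :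
    IsProper ((bcF K).obj A).hom :=
  inferInstanceAs (IsProper (pullback.snd A.hom _))

theorem geometricallyIntegral_bcF (A : Over (Spec (CommRingCat.of k))) [GeometricallyIntegral A.hom] :
    GeometricallyIntegral ((bcF K).obj A).hom :=
  inferInstanceAs (GeometricallyIntegral (pullback.snd A.hom _))

noncomputable local instance grpObjBcF' (A : Over (Spec (CommRingCat.of k))) [GrpObj A] :
    GrpObj ((bcF K).obj A) := Functor.grpObjObj

variable [IsAlgClosed K]

theorem kills_ker_of_bc_points {A B C : Over (Spec (CommRingCat.of k))} [GrpObj A] [GrpObj B]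
    [GrpObj C] (f : A ⟶ B) [Etale f.left] (h : A ⟶ C) [LocallyOfFiniteType A.hom]
    [IsProper C.hom]
    (hpts : ∀ z : ptK ⟶ (bcF K).obj A, z ≫ (bcF K).map f = 1 → z ≫ (bcF K).map h = 1)
    (T : Over (Spec (CommRingCat.of k))) (t : T ⟶ A) (ht : t ≫ f = 1) : t ≫ h = 1 := by
  let N : Over (Spec (CommRingCat.of k)) := Over.mk (pullback.snd f.left η[B].left)
  let i : N ⟶ A := Over.homMk (pullback.fst f.left η[B].left) (by
    show pullback.fst f.left η[B].left ≫ A.hom = pullback.snd f.left η[B].left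
    rw [← Over.w f, ← Category.assoc, pullback.condition, Category.assoc]
    exact (congrArg (pullback.snd f.left η[B].left ≫ ·) (Over.w η[B])).trans (Category.comp_id _))
  have hif : i ≫ f = 1 := Over.OverMorphism.ext pullback.condition
  have : Etale N.hom := inferInstanceAs (Etale (pullback.snd f.left η[B].left))
  have : Etale ((bcF K).obj N).hom := inferInstanceAs (Etale (pullback.snd N.hom _))
  have : Smooth ((bcF K).obj N).hom := inferInstance
  have : IsReduced ((bcF K).obj N).left := Groth.AlgGrp1.isReduced_of_smooth ((bcF K).obj N).hom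
  have := isProper_bcF K C
  have h1 : ∀ {X Y : Over (Spec (CommRingCat.of k))} [GrpObj Y],
      (bcF K).map (1 : X ⟶ Y) = 1 := fun {X Y} _ =>
    ((bcF K).homMonoidHom (X := X) (M := Y)).map_one
  have hi : i ≫ h = 1 := bcMap_injective K (by
    refine eq_of_points fun z => ?_
    rw [h1, MonObj.comp_one, Functor.map_comp, ← Category.assoc]
    refine hpts _ ?_
    rw [Category.assoc, ← Functor.map_comp, hif, h1, MonObj.comp_one])
  obtain ⟨z, rfl⟩ : ∃ z : T ⟶ N, z ≫ i = t :=
    ⟨Over.homMk (pullback.lift t.left T.hom (congrArg Over.Hom.left ht)) (pullback.lift_snd _ _ _),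
      Over.OverMorphism.ext (pullback.lift_fst _ _ _)⟩
  rw [Category.assoc, hi, MonObj.comp_one]

/-- Divisibility by `l ^ n` of a homomorphism is detected on Tate modules of points in an
algebraically closed extension field. -/
theorem exists_eq_pow_comp_bc {A B : Over (Spec (CommRingCat.of k))} [GrpObj A] [IsCommMonObj A]
    [IsProper A.hom] [GeometricallyIntegral A.hom] [GrpObj B] [IsCommMonObj B] [IsProper B.hom]
    [GeometricallyIntegral B.hom] {l : ℕ} [Fact l.Prime] (hl : (l : k) ≠ 0) (φ : A ⟶ B) [IsMonHom φ]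
    (n : ℕ) (u : TateMod A l (SGA7.pt (K := k) K) →ₗ[ℤ_[l]] TateMod B l (SGA7.pt (K := k) K))
    (hu : tateMapₗ (l := l) (T := SGA7.pt (K := k) K) φ = ((l : ℤ_[l]) ^ n) • u) :
    ∃ φ' : A ⟶ B, IsMonHom φ' ∧ φ = (𝟙 A ^ (l ^ n) : A ⟶ A) ≫ φ' := by
  have hlp := (Fact.out : l.Prime)
  have := isProper_bcF K A
  have := geometricallyIntegral_bcF K A
  have := isProper_bcF K B
  have := geometricallyIntegral_bcF K B
  have := GrpschAbsch.isCommMonObj_of_isProper ((bcF K).obj A)
  have := GrpschAbsch.isCommMonObj_of_isProper ((bcF K).obj B)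
  have : IsMonHom ((bcF K).map φ) := Groth.Abvar.isMonHom_map φ
  have hd : ((l ^ n : ℕ) : ℤ) ≠ 0 := by exact_mod_cast pow_ne_zero n hlp.ne_zero
  have hdk : (((l ^ n : ℕ) : ℤ) : k) ≠ 0 := by push_cast; exact pow_ne_zero n hl
  obtain ⟨h1, h2, h3⟩ := isogeny_zpow (A := A) hd
  have he := GrpschAbsch.etale_zpow (G := A) ((l ^ n : ℕ) : ℤ) hdk
  set f := (𝟙 A ^ ((l ^ n : ℕ) : ℤ) : A ⟶ A) with hf
  have : IsMonHom f := inferInstance
  have hFf : (bcF K).map f = (𝟙 ((bcF K).obj A) ^ (l ^ n) : (bcF K).obj A ⟶ (bcF K).obj A) := by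
    have := ((bcF K).homMonoidHom (X := A) (M := A)).map_pow (𝟙 A) (l ^ n)
    rw [hf, zpow_natCast]
    simpa using this
  obtain ⟨g, hg, hfg⟩ := exists_factor_of_flat f φ (kills_ker_of_bc_points K f φ fun z hz => by
    rw [hFf, MonObj.comp_pow, Category.comp_id] at hz
    obtain ⟨x, hx⟩ := exists_tateMod_component
      (fun a => exists_pow_eq (A := (bcF K).obj A) hlp.ne_zero a) n z hz
    have e : tateMapₗ ((bcF K).map φ) x =
        ((l : ℤ_[l]) ^ n) • bcTate K B l (u ((bcTate K A l).symm x)) := by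
      conv_lhs => rw [← (bcTate K A l).apply_symm_apply x]
      rw [← bcTate_tateMap, hu, LinearMap.smul_apply, map_smul]
    have h := congrArg (fun y : TateMod ((bcF K).obj B) l ptK =>
      (y : ℕ → Additive (ptK ⟶ (bcF K).obj B)) n) e
    rw [← Nat.cast_pow, component_natCast_smul, TateMod.torsion] at h
    exact congrArg Additive.toMul ((congrArg (fun b : Additive (ptK ⟶ (bcF K).obj A) =>
      Additive.ofMul (b.toMul ≫ (bcF K).map φ)) hx).symm.trans h))
  exact ⟨g, hg, by rw [← hfg, hf, zpow_natCast]⟩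

end Groth.AbVarMul
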