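import Groth.Agent.AbVarMul.CurveLink
import Groth.Agent.AbVarMul.TateDivBC
import Groth.Agent.AbVarMul.KernelComp
import Groth.Agent.GrpschAbsch.Cartier
import Groth.Agent.Ega2Proj.CurveCompletion
import Groth.Agent.Curves1.CurveMor.Smooth
import Groth.Agent.NeronArea.AbelianGlobal
import Groth.Agent.NeronArea.WeilExtensionBase
import Groth.Agent.NeronArea.FiniteEtaleClosure
import Groth.Agent.SmoothWeil.Geom
import Groth.Agent.Abvar.AlgClosedAux
import Groth.Agent.FibreDim.DimStalk

/-!
# Morphisms from products of varieties to abelian varieties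
-/

universe u

open CategoryTheory Limits MonoidalCategory CartesianMonoidalCategory MonObj GrpObj AlgebraicGeometry
open Groth.GrpschAbsch (specOver specOverMap)
open Groth.NeronArea.FieldComponents (pp pp_comp)

namespace Groth.AbVarMul.Decompose

variable {k : Type u} [Field k]

local notation "pt" => (𝟙_ (Over (Spec (CommRingCat.of k))))

/-- The point of an affine scheme given by an algebra map to the base field. -/
noncomputable def algPt {B : Type u} [CommRing B] [Algebra k B] (b : B →ₐ[k] k) : pt ⟶ specOver k B :=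
  Over.homMk (Spec.map (CommRingCat.ofHom b.toRingHom)) (by
    show Spec.map _ ≫ Spec.map _ = _
    rw [← Spec.map_comp, ← CommRingCat.ofHom_comp]
    exact (congrArg (fun r => Spec.map (CommRingCat.ofHom r)) b.comp_algebraMap).trans (Spec.map_id _))

theorem algPt_comp {B B' : Type u} [CommRing B] [Algebra k B] [CommRing B'] [Algebra k B']
    (c : B' →ₐ[k] k) (φ : B →ₐ[k] B') : algPt c ≫ specOverMap φ = algPt (c.comp φ) :=
  Over.OverMorphism.ext (Spec.map_comp _ _).symm

theorem exists_eq_algPt {B : Type u} [CommRing B] [Algebra k B] (x : pt ⟶ specOver k B) :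
    ∃ b : B →ₐ[k] k, x = algPt b := by
  obtain ⟨r, hr⟩ := Spec.map_surjective (x.left : Spec (CommRingCat.of k) ⟶ Spec (CommRingCat.of B))
  have hc : CommRingCat.ofHom (algebraMap k B) ≫ r = 𝟙 _ := Spec.map_injective (by
    rw [Spec.map_comp, hr, Spec.map_id]
    exact Over.w x)
  exact ⟨{ r.hom with commutes' := fun a => congr(($hc).hom a) }, Over.OverMorphism.ext hr.symm⟩

/-- An affine chart. -/
theorem exists_chart (X : Over (Spec (CommRingCat.of k))) [LocallyOfFiniteType X.hom]
    [IsIntegral X.left] (p : X.left) :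
    ∃ (B : Type u) (_ : CommRing B) (_ : IsDomain B) (_ : Algebra k B) (j : specOver k B ⟶ X),
      IsOpenImmersion j.left ∧ Algebra.FiniteType k B ∧ p ∈ Set.range j.left.base := by
  suffices key : ∀ (A : Type u) [CommRing A] (h : Spec (CommRingCat.of A) ⟶ X.left),
      IsOpenImmersion h → IsDomain A →
      p ∈ Set.range h.base → ∃ (B : Type u) (_ : CommRing B) (_ : IsDomain B) (_ : Algebra k B)
        (j : specOver k B ⟶ X), IsOpenImmersion j.left ∧ Algebra.FiniteType k B ∧
          p ∈ Set.range j.left.base by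
    obtain ⟨U, hU, hpU, -⟩ :=
      exists_isAffineOpen_mem_and_subset (x := p) (U := (⊤ : X.left.Opens)) trivial
    have : Nonempty U := ⟨⟨p, hpU⟩⟩
    exact key ↑Γ(X.left, U) hU.fromSpec inferInstance inferInstance (hU.range_fromSpec.ge hpU)
  intro A _ h hopen hdom hp
  let ι₀ : CommRingCat.of k ⟶ CommRingCat.of A := Spec.preimage (h ≫ X.hom)
  let : Algebra k A := ι₀.hom.toAlgebra
  have hι : Spec.map (CommRingCat.ofHom (algebraMap k A)) = h ≫ X.hom := Spec.map_preimage _
  have : LocallyOfFiniteType (Spec.map (CommRingCat.ofHom (algebraMap k A))) := by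
    rw [hι]; infer_instance
  have hft : Algebra.FiniteType k A :=
    (HasRingHomProperty.Spec_iff (P := @LocallyOfFiniteType)).mp this
  obtain ⟨j, hj⟩ : ∃ j : specOver k A ⟶ X, j.left = h :=
    ⟨Over.homMk (U := specOver k A) h hι.symm, rfl⟩
  refine ⟨A, ‹CommRing A›, hdom, ‹Algebra k A›, ?_⟩
  refine ⟨j, ?_, hft, ?_⟩
  · rw [hj]; exact hopen
  · rw [hj]; exact hp

/-- Points in the range of an open immersion factor through it. -/
theorem exists_lift_point {X Y : Over (Spec (CommRingCat.of k))} (j : X ⟶ Y) [IsOpenImmersion j.left]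
    (y : pt ⟶ Y) (hy : pp y ∈ Set.range j.left.base) : ∃ x : pt ⟶ X, x ≫ j = y := by
  have hr : Set.range y.left.base ⊆ Set.range j.left.base := by
    rintro _ ⟨s, rfl⟩
    rw [Subsingleton.elim (α := ↥(Spec (CommRingCat.of k))) s (IsLocalRing.closedPoint k)]
    exact hy
  refine ⟨Over.homMk (IsOpenImmersion.lift j.left y.left hr) ?_,
    Over.OverMorphism.ext (IsOpenImmersion.lift_fac _ _ _)⟩
  rw [← Over.w j, ← Category.assoc, IsOpenImmersion.lift_fac]
  exact Over.w y

variable [IsAlgClosed k]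

theorem ringKrullDim_stalk_of_dedekind {D : Type u} [CommRing D] [IsDedekindDomain D] (hD : ¬ IsField D)
    (x : ↥(Spec (CommRingCat.of D))) (hx : IsClosed ({x} : Set ↥(Spec (CommRingCat.of D)))) :
    ringKrullDim ((Spec (CommRingCat.of D)).presheaf.stalk x) = 1 := by
  have hm : x.asIdeal.IsMaximal := (PrimeSpectrum.isClosed_singleton_iff_isMaximal x).1 hx
  have hne : x.asIdeal ≠ ⊥ := Ring.ne_bot_of_isMaximal_of_not_isField hm hD
  let S := (Spec.structureSheaf D).presheaf.stalk x
  have : IsDiscreteValuationRing (Localization.AtPrime x.asIdeal) :=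
    IsLocalization.AtPrime.isDiscreteValuationRing_of_dedekind_domain D hne _
  have e : S ≃+* Localization.AtPrime x.asIdeal :=
    (IsLocalization.algEquiv x.asIdeal.primeCompl S (Localization.AtPrime x.asIdeal)).toRingEquiv
  show ringKrullDim S = 1
  rw [ringKrullDim_eq_of_ringEquiv e, IsPrincipalIdealRing.ringKrullDim_eq_one _
    (IsDiscreteValuationRing.not_isField _)]

/-- The smooth completion of an affine smooth curve. -/
theorem exists_smooth_completion (D : Type u) [CommRing D] [IsDedekindDomain D] [Algebra k D]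
    (hD : ¬ IsField D) [Algebra.FiniteType k D] :
    ∃ (P : Over (Spec (CommRingCat.of k))) (j : specOver k D ⟶ P),
      IsOpenImmersion j.left ∧ IsProper P.hom ∧ Smooth P.hom ∧ GeometricallyIntegral P.hom := by
  let str : Spec (CommRingCat.of D) ⟶ Spec (CommRingCat.of k) :=
    Spec.map (CommRingCat.ofHom (algebraMap k D))
  let : (Spec (CommRingCat.of D)).Over (Spec (CommRingCat.of k)) := ⟨str⟩
  have : LocallyOfFiniteType (Spec (CommRingCat.of D) ↘ Spec (CommRingCat.of k)) :=
    (HasRingHomProperty.Spec_iff (P := @LocallyOfFiniteType)).2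
      (RingHom.finiteType_algebraMap.2 ‹Algebra.FiniteType k D›)
  have : QuasiCompact (Spec (CommRingCat.of D) ↘ Spec (CommRingCat.of k)) :=
    inferInstanceAs (QuasiCompact str)
  have : IsSeparated (Spec (CommRingCat.of D) ↘ Spec (CommRingCat.of k)) :=
    inferInstanceAs (IsSeparated str)
  obtain ⟨Xc, sc, j, hj, hd, hjs, hp, hn, hcurve⟩ := Ega2Proj.CurveCompl.exists_completion k
    (Spec (CommRingCat.of D)) (fun x hx => ringKrullDim_stalk_of_dedekind hD x hx)
    (NeronArea.isNormalScheme_Spec (NeronArea.isNormalRing_of_isIntegrallyClosed D))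
  let : Xc.Over (Spec (CommRingCat.of k)) := ⟨sc⟩
  have := Ega2Proj.isReduced_of_isNormalScheme hn
  have : IrreducibleSpace Xc := by
    rw [irreducibleSpace_def]
    have h := ((IrreducibleSpace.isIrreducible_univ (Spec (CommRingCat.of D))).image j.base
      j.continuous.continuousOn).closure
    rwa [Set.image_univ, hd.closure_eq] at h
  have : IsIntegral Xc := isIntegral_of_irreducibleSpace_of_isReduced Xc
  have : LocallyOfFiniteType (Xc ↘ Spec (CommRingCat.of k)) := inferInstanceAs (LocallyOfFiniteType sc)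
  have : LocallyOfFinitePresentation (Xc ↘ Spec (CommRingCat.of k)) :=
    inferInstanceAs (LocallyOfFinitePresentation sc)
  have : IsLocallyNoetherian Xc := LocallyOfFiniteType.isLocallyNoetherian sc
  have : JacobsonSpace Xc := LocallyOfFiniteType.jacobsonSpace sc
  have hdim : topologicalKrullDim Xc ≤ 1 := by
    rw [Groth.FibreDim.dim_eq_iSup_stalk Xc]
    refine iSup_le fun x => ?_
    by_cases hx : IsClosed ({x} : Set Xc)
    · exact (hcurve x hx).le
    · rw [ringKrullDim_stalk_eq_coheight,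
        Order.coheight_eq_zero.2 (Ega2Proj.CurveCompl.isMax_of_not_isClosed hcurve hx)]
      exact_mod_cast zero_le_one
  have hsm : Smooth sc := Curves1.CurveMor.smooth_of_forall_closed (k := k) fun x hx => by
    have := (hn x).2
    have := Curves1.CurveMor.finite_residueField_of_isClosed (k := k) hx
    exact Curves1.CurveMor.mem_smoothLocus_of_normal hdim x inferInstance
  let P : Over (Spec (CommRingCat.of k)) := Over.mk sc
  have : LocallyOfFiniteType P.hom := inferInstanceAs (LocallyOfFiniteType sc)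
  have : Smooth P.hom := hsm
  have := Groth.AlgGrp1.geometricallyReduced_of_smooth_hom P
  obtain ⟨x, -, hx⟩ := nonempty_inter_closedPoints (Z := (Set.univ : Set Xc))
    Set.univ_nonempty isOpen_univ.isLocallyClosed
  obtain ⟨s, -⟩ := Groth.Abvar.exists_rationalPoint P hx
  have : ConnectedSpace P.left := inferInstanceAs (ConnectedSpace Xc)
  have := Groth.AlgGrp1.geometricallyConnected_of_point P.hom s.left (Over.w s)
  have := Groth.SmoothWeil.geometricallyIrreducible_of_connected P.hom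
  exact ⟨P, Over.homMk j hjs, hj, hp, hsm,
    GeometricallyIntegral.of_geometricallyReduced_of_geometricallyIrreducible P.hom⟩

variable {A : Over (Spec (CommRingCat.of k))} [GrpObj A] [IsCommMonObj A] [IsProper A.hom]
  [Smooth A.hom] [GeometricallyIntegral A.hom]

omit [IsAlgClosed k] [Smooth A.hom] [IsProper A.hom] [GeometricallyIntegral A.hom] in
/-- The rectangle identity for products of proper varieties. -/
theorem rectangle_of_proper {X Y : Over (Spec (CommRingCat.of k))} [IsProper X.hom]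
    [GeometricallyIntegral X.hom] [LocallyOfFiniteType Y.hom] [PreconnectedSpace Y.left]
    (g : X ⊗ Y ⟶ A) (x x' : pt ⟶ X) (y y' : pt ⟶ Y) :
    (lift x y ≫ g) * (lift x' y' ≫ g) = (lift x y' ≫ g) * (lift x' y ≫ g) := by
  set c := lift x' y' ≫ g
  have hc : ∀ {T : Over (Spec (CommRingCat.of k))} (t : T ⟶ X ⊗ Y),
      t ≫ (g * (toUnit _ ≫ c)⁻¹) = (t ≫ g) * (toUnit T ≫ c)⁻¹ := fun t => by
    rw [MonObj.comp_mul, GrpObj.comp_inv, ← Category.assoc, toUnit_unique (t ≫ toUnit _) (toUnit _)]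
  have hu : ∀ (a : pt ⟶ X) (b : pt ⟶ Y), lift a b ≫ (g * (toUnit _ ≫ c)⁻¹) = (lift a b ≫ g) * c⁻¹ :=
    fun a b => by rw [hc, toUnit_unique (toUnit pt) (𝟙 _), Category.id_comp]
  have key := congrArg (fun h => lift x y ≫ h) (Groth.Abvar.eq_mul_of_pointed x' y' (g * (toUnit _ ≫ c)⁻¹)
    (by rw [hu, mul_inv_cancel]; exact (MonObj.one_eq_one A).symm))
  have e1 : lift x y ≫ snd X Y ≫ lift (toUnit Y ≫ x') (𝟙 Y) = lift x' y := by
    rw [← Category.assoc, lift_snd, comp_lift, Category.comp_id, ← Category.assoc,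
      toUnit_unique (y ≫ toUnit Y) (𝟙 _), Category.id_comp]
  have e2 : lift x y ≫ fst X Y ≫ lift (𝟙 X) (toUnit X ≫ y') = lift x y' := by
    rw [← Category.assoc, lift_fst, comp_lift, Category.comp_id, ← Category.assoc,
      toUnit_unique (x ≫ toUnit X) (𝟙 _), Category.id_comp]
  simp only [MonObj.comp_mul (lift x y), reassoc_of% e1, reassoc_of% e2] at key
  rw [← MonObj.comp_mul, hu, hu, hu] at key
  rw [mul_inv_eq_iff_eq_mul] at key
  rw [key]
  simp [mul_comm, mul_left_comm]

/-- The rectangle identity for smooth affine curves. -/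
theorem rectangle_of_curves {D₁ D₂ : Type u} [CommRing D₁] [IsDedekindDomain D₁] [Algebra k D₁]
    [Algebra.FiniteType k D₁] (h₁ : ¬ IsField D₁) [CommRing D₂] [IsDedekindDomain D₂] [Algebra k D₂]
    [Algebra.FiniteType k D₂] (h₂ : ¬ IsField D₂) (f : specOver k D₁ ⊗ specOver k D₂ ⟶ A)
    (x x' : pt ⟶ specOver k D₁) (y y' : pt ⟶ specOver k D₂) :
    (lift x y ≫ f) * (lift x' y' ≫ f) = (lift x y' ≫ f) * (lift x' y ≫ f) := by
  obtain ⟨P, j₁, hj₁, _, _, _⟩ := exists_smooth_completion (k := k) D₁ h₁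
  obtain ⟨Q, j₂, hj₂, _, _, _⟩ := exists_smooth_completion (k := k) D₂ h₂
  have hopen : IsOpenImmersion (j₁ ⊗ₘ j₂).left := by
    rw [Over.tensorHom_left]
    exact MorphismProperty.pullbackMap (P := @IsOpenImmersion) hj₁ hj₂ (Over.w j₁).symm (Over.w j₂).symm
  have hsm : Smooth (P ⊗ Q).hom := inferInstanceAs (Smooth (pullback.fst P.hom Q.hom ≫ P.hom))
  have := Groth.NeronArea.Weil.isLocallyNoetherian_of_smooth (P ⊗ Q).hom
  have hreg := Groth.NeronArea.Weil.isRegularLocalRing_of_smooth_dedekind (R := k) (P ⊗ Q).hom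
  have := Groth.Abvar.isIntegral_left Q
  have := Groth.Abvar.isIntegral_left P
  have : GeometricallyIntegral (P ⊗ Q).hom := by
    have := AlgGrp1.geometricallyReduced_tensorObj P Q
    have : GeometricallyIrreducible (P ⊗ Q).hom :=
      GeometricallyIrreducible.comp (pullback.fst P.hom Q.hom) P.hom
    exact GeometricallyIntegral.of_geometricallyReduced_of_geometricallyIrreducible _
  have := Groth.Abvar.isIntegral_left (P ⊗ Q)
  let U : (P ⊗ Q).left.Opens := (j₁ ⊗ₘ j₂).left.opensRange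
  have hU : Dense (U : Set (P ⊗ Q).left) :=
    U.isOpen.dense ⟨_, (lift x y).left (IsLocalRing.closedPoint k), rfl⟩
  have := Groth.Abvar.isIntegral_left A
  have : GeometricallyConnected A.hom :=
    Groth.AlgGrp1.geometricallyConnected_of_point A.hom η[A].left (Over.w η[A])
  obtain ⟨g, ⟨hg1, hg2⟩, -⟩ := Groth.NeronArea.existsUnique_extension_of_regular A (P ⊗ Q).left
    (P ⊗ Q).hom hreg U hU ((j₁ ⊗ₘ j₂).left.isoOpensRange.inv ≫ f.left) (by
      rw [Category.assoc, Over.w f, ← Over.w (j₁ ⊗ₘ j₂), ← Category.assoc,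
        Scheme.Hom.isoOpensRange_inv_comp])
  let G : P ⊗ Q ⟶ A := Over.homMk g hg1
  have hG : (j₁ ⊗ₘ j₂) ≫ G = f := by
    refine Over.OverMorphism.ext ?_
    show (j₁ ⊗ₘ j₂).left ≫ g = f.left
    rw [← Scheme.Hom.isoOpensRange_hom_ι (j₁ ⊗ₘ j₂).left, Category.assoc, hg2, Iso.hom_inv_id_assoc]
  have e : ∀ (a : pt ⟶ specOver k D₁) (b : pt ⟶ specOver k D₂), lift a b ≫ f = lift (a ≫ j₁) (b ≫ j₂) ≫ G := fun a b => by
    rw [← hG, ← Category.assoc, lift_map]
  rw [e, e, e, e]
  exact rectangle_of_proper G _ _ _ _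

omit [GrpObj A] [IsCommMonObj A] [Smooth A.hom] [GeometricallyIntegral A.hom] in
/-- A morphism from an affine variety which is constant along every smooth affine curve is
constant on points. -/
theorem const_of_curves {B : Type u} [CommRing B] [IsDomain B] [Algebra k B] [Algebra.FiniteType k B]
    (G : specOver k B ⟶ A)
    (h : ∀ (D : Type u) [CommRing D] [IsDedekindDomain D] [Algebra k D] [Algebra.FiniteType k D],
      ¬ IsField D → ∀ (φ : B →ₐ[k] D) (c c' : D →ₐ[k] k),
        algPt (c.comp φ) ≫ G = algPt (c'.comp φ) ≫ G)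
    (b b' : pt ⟶ specOver k B) : b ≫ G = b' ≫ G := by
  obtain ⟨d, g, hg, hgf⟩ := exists_finite_inj_algHom_of_fg k B
  have : LocallyOfFiniteType (specOver k B).hom :=
    (HasRingHomProperty.Spec_iff (P := @LocallyOfFiniteType)).2
      (RingHom.finiteType_algebraMap.2 ‹Algebra.FiniteType k B›)
  have := LocallyOfFiniteType.jacobsonSpace (specOver k B).hom
  have : IsIntegral (specOver k B).left := inferInstanceAs (IsIntegral (Spec (CommRingCat.of B)))
  let o : MvPolynomial (Fin d) k →ₐ[k] k := MvPolynomial.aeval fun _ => 0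
  let F0 : Set (specOver k B).left :=
    (specOverMap g).left.base ⁻¹' {(algPt o).left (IsLocalRing.closedPoint k)}
  have hfin : IsFinite (specOverMap g).left := (IsFinite.SpecMap_iff _).2 hgf
  have hF0 : F0.Finite := (specOverMap g).left.finite_preimage_singleton _
  let S : Set A.left := G.left.base '' (F0 ∩ closedPoints _)
  have hSfin : S.Finite := (hF0.subset Set.inter_subset_left).image _
  have hScl : ∀ s ∈ S, IsClosed ({s} : Set A.left) := by
    rintro _ ⟨q, ⟨-, hq⟩, rfl⟩
    obtain ⟨w, rfl⟩ := exists_point' q hq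
    exact (pointEquivClosedPoint A.hom ⟨(w ≫ G).left, Over.w _⟩).2
  have hcl : closedPoints (specOver k B).left ⊆ ⋃ s ∈ S, G.left.base ⁻¹' {s} := by
    intro q hq
    obtain ⟨w, rfl⟩ := exists_point' q hq
    obtain ⟨a, rfl⟩ := exists_eq_algPt w
    suffices ∃ c₀ : B →ₐ[k] k, (∀ i, c₀ (g (MvPolynomial.X i)) = 0) ∧ algPt a ≫ G = algPt c₀ ≫ G by
      obtain ⟨c₀, hc₀, he⟩ := this
      refine Set.mem_biUnion (x := G.left (pp (algPt c₀))) ⟨pp (algPt c₀), ⟨?_, ?_⟩, rfl⟩ ?_
      · have : algPt c₀ ≫ specOverMap g = algPt o := by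
          rw [algPt_comp]
          congr 1
          exact MvPolynomial.algHom_ext fun i => by simp [o, hc₀]
        exact congrArg pp this
      · exact (pointEquivClosedPoint (specOver k B).hom ⟨(algPt c₀).left, Over.w _⟩).2
      · exact congrArg pp he
    by_cases hne : (fun i => a (g (MvPolynomial.X i))) = fun _ => 0
    · exact ⟨a, congrFun hne, rfl⟩
    obtain ⟨D, _, _, φ, c, c', hDD, hDf, _, hcφ, hc'⟩ := exists_curve_link g hg hgf a (fun _ => 0) hne
    exact ⟨c'.comp φ, hc', hcφ ▸ h D hDf φ c c'⟩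
  have huniv : (Set.univ : Set (specOver k B).left) ⊆ ⋃ s ∈ S, G.left.base ⁻¹' {s} := by
    rw [← closure_closedPoints (X := (specOver k B).left)]
    exact closure_minimal hcl (hSfin.isClosed_biUnion fun s hs => (hScl s hs).preimage G.left.continuous)
  obtain ⟨z, hz, hsub⟩ := isIrreducible_iff_sUnion_isClosed.1
    (IrreducibleSpace.isIrreducible_univ (specOver k B).left)
    (hSfin.toFinset.image fun s => G.left.base ⁻¹' {s})
    (fun z hz => by
      obtain ⟨s, hs, rfl⟩ := Finset.mem_image.1 hz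
      exact (hScl s (hSfin.mem_toFinset.1 hs)).preimage G.left.continuous)
    (by simpa [Set.sUnion_image] using huniv)
  obtain ⟨s, hs, rfl⟩ := Finset.mem_image.1 hz
  exact point_ext' ((hsub (Set.mem_univ (pp b))).trans (hsub (Set.mem_univ (pp b'))).symm)

/-- The rectangle identity for affine varieties. -/
theorem rectangle_of_affine {B₁ B₂ : Type u} [CommRing B₁] [IsDomain B₁] [Algebra k B₁]
    [Algebra.FiniteType k B₁] [CommRing B₂] [IsDomain B₂] [Algebra k B₂]
    [Algebra.FiniteType k B₂] (f : specOver k B₁ ⊗ specOver k B₂ ⟶ A)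
    (x x' : pt ⟶ specOver k B₁) (y y' : pt ⟶ specOver k B₂) :
    (lift x y ≫ f) * (lift x' y' ≫ f) = (lift x y' ≫ f) * (lift x' y ≫ f) := by
  have hconst : ∀ {T : Over (Spec (CommRingCat.of k))} (a : pt ⟶ T) (z : pt ⟶ specOver k B₂),
      a ≫ toUnit T ≫ z = z := fun a z => by
    rw [← Category.assoc, toUnit_unique (a ≫ toUnit _) (𝟙 _), Category.id_comp]
  let G : specOver k B₁ ⟶ A :=
    (lift (𝟙 _) (toUnit _ ≫ y) ≫ f) * (lift (𝟙 _) (toUnit _ ≫ y') ≫ f)⁻¹
  have hG : ∀ a : pt ⟶ specOver k B₁, a ≫ G = (lift a y ≫ f) * (lift a y' ≫ f)⁻¹ := fun a => by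
    simp only [G, MonObj.comp_mul, GrpObj.comp_inv, comp_lift_assoc, Category.comp_id, hconst]
  have key : x ≫ G = x' ≫ G := const_of_curves G (fun D _ _ _ _ hD φ c c' => by
    rw [hG, hG, mul_inv_eq_iff_eq_mul, mul_right_comm, eq_mul_inv_iff_mul_eq]
    let H : specOver k B₂ ⟶ A :=
      (lift (toUnit _ ≫ algPt (c.comp φ)) (𝟙 _) ≫ f) * (lift (toUnit _ ≫ algPt (c'.comp φ)) (𝟙 _) ≫ f)⁻¹
    have hH : ∀ z : pt ⟶ specOver k B₂, z ≫ H =
        (lift (algPt (c.comp φ)) z ≫ f) * (lift (algPt (c'.comp φ)) z ≫ f)⁻¹ := fun z => by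
      have e : ∀ a : pt ⟶ specOver k B₁, z ≫ toUnit _ ≫ a = a := fun a => by
        rw [← Category.assoc, toUnit_unique (z ≫ toUnit _) (𝟙 _), Category.id_comp]
      simp only [H, MonObj.comp_mul, GrpObj.comp_inv, comp_lift_assoc, Category.comp_id, e]
    have k2 : y ≫ H = y' ≫ H := const_of_curves H (fun D' _ _ _ _ hD' ψ d d' => by
      rw [hH, hH, mul_inv_eq_iff_eq_mul, mul_right_comm, eq_mul_inv_iff_mul_eq]
      have r := rectangle_of_curves hD hD' ((specOverMap φ ⊗ₘ specOverMap ψ) ≫ f)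
        (algPt c) (algPt c') (algPt d) (algPt d')
      simp only [← Category.assoc, lift_map, algPt_comp] at r
      exact r) y y'
    rw [hH, hH, mul_inv_eq_iff_eq_mul, mul_right_comm, eq_mul_inv_iff_mul_eq] at k2
    rw [k2, mul_comm]) x x'
  rw [hG, hG, mul_inv_eq_iff_eq_mul, mul_right_comm, eq_mul_inv_iff_mul_eq] at key
  rw [key, mul_comm]

/-- The rectangle identity inside a pair of affine charts. -/
theorem rectangle_chart {X Y : Over (Spec (CommRingCat.of k))} (f : X ⊗ Y ⟶ A)
    {B₁ B₂ : Type u} [CommRing B₁] [IsDomain B₁] [Algebra k B₁] [Algebra.FiniteType k B₁]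
    [CommRing B₂] [IsDomain B₂] [Algebra k B₂] [Algebra.FiniteType k B₂]
    (i : specOver k B₁ ⟶ X) (j : specOver k B₂ ⟶ Y) [IsOpenImmersion i.left] [IsOpenImmersion j.left]
    (a a' : pt ⟶ X) (b b' : pt ⟶ Y) (ha : pp a ∈ Set.range i.left.base)
    (ha' : pp a' ∈ Set.range i.left.base) (hb : pp b ∈ Set.range j.left.base)
    (hb' : pp b' ∈ Set.range j.left.base) :
    (lift a b ≫ f) * (lift a b' ≫ f)⁻¹ = (lift a' b ≫ f) * (lift a' b' ≫ f)⁻¹ := by
  obtain ⟨a, rfl⟩ := exists_lift_point i a ha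
  obtain ⟨a', rfl⟩ := exists_lift_point i a' ha'
  obtain ⟨b, rfl⟩ := exists_lift_point j b hb
  obtain ⟨b', rfl⟩ := exists_lift_point j b' hb'
  have h := rectangle_of_affine ((i ⊗ₘ j) ≫ f) a a' b b'
  simp only [← Category.assoc, lift_map] at h
  rw [mul_inv_eq_iff_eq_mul, mul_right_comm, eq_mul_inv_iff_mul_eq, h, mul_comm]

/-- The rectangle identity for varieties over an algebraically closed field. -/
theorem rectangle {X Y : Over (Spec (CommRingCat.of k))} [LocallyOfFiniteType X.hom]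
    [IsIntegral X.left] [LocallyOfFiniteType Y.hom] [IsIntegral Y.left]
    (f : X ⊗ Y ⟶ A) (x x' : pt ⟶ X) (y y' : pt ⟶ Y) :
    (lift x y ≫ f) * (lift x' y' ≫ f) = (lift x y' ≫ f) * (lift x' y ≫ f) := by
  have hmid : ∀ {Z : Over (Spec (CommRingCat.of k))} [LocallyOfFiniteType Z.hom] [IsIntegral Z.left]
      (U V : Set Z.left), IsOpen U → U.Nonempty → IsOpen V → V.Nonempty →
      ∃ z : pt ⟶ Z, pp z ∈ U ∧ pp z ∈ V := by
    intro Z _ _ U V hU hU' hV hV'
    have := LocallyOfFiniteType.jacobsonSpace Z.hom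
    obtain ⟨q, hq, hqc⟩ := nonempty_inter_closedPoints (nonempty_preirreducible_inter hU hV hU' hV')
      (hU.inter hV).isLocallyClosed
    obtain ⟨z, rfl⟩ := exists_point' q hqc
    exact ⟨z, hq.1, hq.2⟩
  -- charts
  obtain ⟨B₁, _, _, _, i, _, _, hx⟩ := exists_chart X (pp x)
  obtain ⟨B₁', _, _, _, i', _, _, hx'⟩ := exists_chart X (pp x')
  obtain ⟨B₂, _, _, _, j, _, _, hy⟩ := exists_chart Y (pp y)
  obtain ⟨B₂', _, _, _, j', _, _, hy'⟩ := exists_chart Y (pp y')
  obtain ⟨a, ha, ha'⟩ := hmid _ _ i.left.isOpenEmbedding.isOpen_range ⟨_, hx⟩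
    i'.left.isOpenEmbedding.isOpen_range ⟨_, hx'⟩
  obtain ⟨b, hb, hb'⟩ := hmid _ _ j.left.isOpenEmbedding.isOpen_range ⟨_, hy⟩
    j'.left.isOpenEmbedding.isOpen_range ⟨_, hy'⟩
  have h1 := (rectangle_chart f i j x a y b hx ha hy hb).trans (rectangle_chart f i' j a x' y b ha' hx' hy hb)
  have h2 := (rectangle_chart f i j' x a b y' hx ha hb' hy').trans
    (rectangle_chart f i' j' a x' b y' ha' hx' hb' hy')
  have h3 := congrArg₂ (· * ·) h1 h2
  beta_reduce at h3
  rw [_root_.mul_assoc, _root_.inv_mul_cancel_left, _root_.mul_assoc (lift x' y ≫ f),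
    _root_.inv_mul_cancel_left] at h3
  rwa [mul_inv_eq_iff_eq_mul, mul_right_comm, eq_mul_inv_iff_mul_eq, mul_comm (lift x' y ≫ f)] at h3

end Groth.AbVarMul.Decompose
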