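import Mathlib.LinearAlgebra.Matrix.Charpoly.Coeff
import Mathlib.Algebra.MvPolynomial.Funext
import Mathlib.RingTheory.MvPolynomial.Homogeneous
import Mathlib.FieldTheory.IsAlgClosed.Basic
import Mathlib.Algebra.Algebra.Rat

/-!
# Resultants as determinants and as values of multiplicative forms
-/

open Polynomial

namespace Groth.AbVarMul

variable {K : Type*} [Field K] [IsAlgClosed K]

/-- Interchanging the two products of a resultant when one degree is even. -/
theorem prod_roots_comm {P F : K[X]} (hP : P.Monic) (hF : F.Monic) (hev : Even P.natDegree) :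
    (F.roots.map P.eval).prod = (P.roots.map F.eval).prod := by
  have hPs := (IsAlgClosed.splits P).eq_prod_roots_of_monic hP
  have hFs := (IsAlgClosed.splits F).eq_prod_roots_of_monic hF
  have hc : Even (Multiset.card P.roots) := by
    rwa [← (IsAlgClosed.splits P).natDegree_eq_card_roots]
  have e1 : ∀ u, P.eval u = (P.roots.map fun a => a - u).prod := by
    intro u
    conv_lhs => rw [hPs]
    rw [eval_multiset_prod, Multiset.map_map]
    have : (P.roots.map fun a => a - u) = (P.roots.map fun a => (-1) * (u - a)) :=
      Multiset.map_congr rfl fun a _ => by ring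
    rw [this, Multiset.prod_map_mul, Multiset.map_const', Multiset.prod_replicate, hc.neg_one_pow,
      one_mul]
    exact congrArg Multiset.prod (Multiset.map_congr rfl fun a _ => by simp)
  have e2 : ∀ a, F.eval a = (F.roots.map fun u => a - u).prod := by
    intro a
    conv_lhs => rw [hFs]
    rw [eval_multiset_prod, Multiset.map_map]
    exact congrArg Multiset.prod (Multiset.map_congr rfl fun u _ => by simp)
  rw [Multiset.map_congr rfl (fun u _ => e1 u), Multiset.map_congr rfl (fun a _ => e2 a)]
  exact Multiset.prod_map_prod_map F.roots P.roots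

/-- The determinant of a polynomial in a matrix of even size. -/
theorem det_aeval_matrix {n : Type*} [Fintype n] [DecidableEq n] (M : Matrix n n K)
    (hn : Even (Fintype.card n)) {F : K[X]} (hF : F.Monic) :
    (aeval M F).det = (M.charpoly.roots.map F.eval).prod := by
  rw [← prod_roots_comm (M.charpoly_monic) hF (by rw [M.charpoly_natDegree_eq_dim]; exact hn)]
  have hdet : ∀ u : K, (M - algebraMap K (Matrix n n K) u).det = M.charpoly.eval u := by
    intro u
    rw [Matrix.eval_charpoly, ← neg_sub (algebraMap K (Matrix n n K) u) M, Matrix.det_neg,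
      hn.neg_one_pow, one_mul]
    rfl
  have hl : ∀ us : List K, (aeval M ((us.map fun u => X - C u).prod)).det =
      (us.map M.charpoly.eval).prod := by
    intro us
    induction us with
    | nil => simp
    | cons u us ih =>
      rw [List.map_cons, List.prod_cons, map_mul, Matrix.det_mul, ih, List.map_cons, List.prod_cons,
        map_sub, aeval_X, aeval_C, hdet]
  conv_lhs => rw [(IsAlgClosed.splits F).eq_prod_roots_of_monic hF]
  rw [← Multiset.coe_toList F.roots, Multiset.map_coe, Multiset.prod_coe, hl, Multiset.map_coe,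
    Multiset.prod_coe]

variable [CharZero K]

/-- A multiplicative form takes at `F(α)` the resultant of `F` and its characteristic polynomial. -/
theorem eval₂_eq_prod_roots {E : Type*} [Ring E] (Nm : E →* ℤ) (α : E) (P : ℚ[X]) (hPm : P.Monic)
    (hev : Even P.natDegree) (hP : ∀ n : ℤ, P.eval (n : ℚ) = Nm (α - (n : E)))
    (hform : ∀ s : ℕ, ∃ G : MvPolynomial (Fin s) ℚ, ∀ a : Fin s → ℤ,
      MvPolynomial.eval (fun i => (a i : ℚ)) G = Nm (∑ i : Fin s, a i • α ^ (i : ℕ)))
    {F : ℤ[X]} (hF : F.Monic) :
    (Nm (F.eval₂ (Int.castRingHom E) α) : K) =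
      ((P.aroots K).map fun a => F.eval₂ (Int.castRingHom K) a).prod := by
  classical
  set s := F.natDegree
  obtain ⟨G, hG⟩ := hform (s + 1)
  have hval : ∀ H : ℤ[X], H.natDegree ≤ s →
      (Nm (H.eval₂ (Int.castRingHom E) α) : K) =
        MvPolynomial.eval (fun j : Fin (s + 1) => (H.coeff j : K))
          (MvPolynomial.map (algebraMap ℚ K) G) := by
    intro H hH
    have h1 := congrArg (algebraMap ℚ K) (hG fun j => H.coeff j)
    rw [MvPolynomial.map_eval, map_intCast] at h1
    simp only [Function.comp_def, map_intCast] at h1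
    rw [h1]
    congr 2
    rw [eval₂_eq_sum_range' _ (Nat.lt_succ_of_le hH),
      ← Fin.sum_univ_eq_sum_range (fun j => (Int.castRingHom E) (H.coeff j) * α ^ j)]
    exact Finset.sum_congr rfl fun j _ => by rw [zsmul_eq_mul]; rfl
  -- the generic monic polynomial with the given roots
  let Z : Polynomial (MvPolynomial (Fin s) K) := ∏ i, (X - C (MvPolynomial.X i))
  have hZ : ∀ u : Fin s → K, Z.map (MvPolynomial.eval u) = ∏ i, (X - C (u i)) := fun u => by
    simp [Z, Polynomial.map_prod]
  let G₁ : MvPolynomial (Fin s) K :=
    MvPolynomial.aeval (fun j : Fin (s + 1) => Z.coeff j) (MvPolynomial.map (algebraMap ℚ K) G)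
  let H₁ : MvPolynomial (Fin s) K :=
    ((P.aroots K).map fun a => ∏ i, (MvPolynomial.C a - MvPolynomial.X i)).prod
  have hG₁ : ∀ u : Fin s → K, MvPolynomial.eval u G₁ =
      MvPolynomial.eval (fun j : Fin (s + 1) => (∏ i, (X - C (u i))).coeff j)
        (MvPolynomial.map (algebraMap ℚ K) G) := fun u => by
    simp only [G₁, ← hZ u, coeff_map]
    rw [← MvPolynomial.aeval_eq_eval, ← MvPolynomial.aeval_eq_eval, ← AlgHom.comp_apply,
      MvPolynomial.comp_aeval]
  have hH₁ : ∀ u : Fin s → K, MvPolynomial.eval u H₁ =
      ((P.aroots K).map fun a => ∏ i, (a - u i)).prod := fun u => by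
    simp only [H₁, map_multiset_prod, Multiset.map_map]
    exact congrArg Multiset.prod (Multiset.map_congr rfl fun a _ => by simp)
  have hcard : Even (Multiset.card (P.aroots K)) := by
    rwa [IsAlgClosed.card_aroots_eq_natDegree]
  have hsame : G₁ = H₁ := by
    refine MvPolynomial.funext_set (fun _ => Set.range (Int.cast : ℤ → K))
      (fun _ => Set.infinite_range_of_injective Int.cast_injective) fun u hu => ?_
    choose v hv using fun i => hu i (Set.mem_univ i)
    obtain rfl : u = fun i => (v i : K) := funext fun i => (hv i).symm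
    let H : ℤ[X] := ∏ i, (X - C (v i))
    have hHd : H.natDegree ≤ s := by
      rw [natDegree_finsetProd_X_sub_C_eq_card, Finset.card_fin]
    have hmap : H.map (Int.castRingHom K) = ∏ i, (X - C ((v i : K))) := by
      simp [H, Polynomial.map_prod]
    rw [hG₁, hH₁, ← hmap]
    simp only [coeff_map, eq_intCast]
    rw [← hval H hHd]
    have hN : ∀ t : Finset (Fin s), (Nm ((∏ i ∈ t, (X - C (v i))).eval₂ (Int.castRingHom E) α) : K) =
        ∏ i ∈ t, (P.eval (v i : ℚ) : ℚ) := by
      intro t
      induction t using Finset.induction_on with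
      | empty => simp
      | @insert i t hi ih =>
        rw [Finset.prod_insert hi, Finset.prod_insert hi,
          eval₂_mul_noncomm _ _ (fun _ => Int.cast_commute _ _), map_mul, Int.cast_mul, ih, hP,
          Rat.cast_mul, eval₂_sub, eval₂_X, eval₂_C, eq_intCast, Rat.cast_intCast]
    rw [hN Finset.univ, Rat.cast_prod]
    rw [Multiset.prod_map_prod]
    refine Finset.prod_congr rfl fun i _ => ?_
    have h2 : ((P.eval (v i : ℚ) : ℚ) : K) = (P.map (algebraMap ℚ K)).eval (v i : K) := by
      rw [eval_map, ← map_intCast (algebraMap ℚ K), eval₂_at_apply, eq_ratCast]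
    rw [h2]
    conv_lhs => rw [(IsAlgClosed.splits _).eq_prod_roots_of_monic (hPm.map (algebraMap ℚ K))]
    rw [eval_multiset_prod, Multiset.map_map]
    have : ((P.aroots K).map fun a => a - (v i : K)) =
        (P.aroots K).map fun a => (-1) * ((v i : K) - a) :=
      Multiset.map_congr rfl fun a _ => by ring
    rw [this, Multiset.prod_map_mul, Multiset.map_const', Multiset.prod_replicate, hcard.neg_one_pow,
      one_mul]
    exact congrArg Multiset.prod (Multiset.map_congr rfl fun a _ => by simp)
  -- specialise at the roots of `F`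
  set FK := F.map (Int.castRingHom K)
  have hFKm : FK.Monic := hF.map _
  have hFKd : FK.natDegree = s := hF.natDegree_map _
  obtain ⟨u, hu⟩ : ∃ u : Fin s → K, FK.roots = (List.ofFn u : Multiset K) := by
    have hlen : FK.roots.toList.length = s := by
      rw [Multiset.length_toList, ← (IsAlgClosed.splits FK).natDegree_eq_card_roots, hFKd]
    refine ⟨fun i => FK.roots.toList.get (i.cast hlen.symm), ?_⟩
    rw [show List.ofFn (fun i : Fin s => FK.roots.toList.get (i.cast hlen.symm)) = FK.roots.toList by
      apply List.ext_getElem <;> simp [hlen], Multiset.coe_toList]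
  have hprod : (∏ i, (X - C (u i))) = FK := by
    conv_rhs => rw [(IsAlgClosed.splits FK).eq_prod_roots_of_monic hFKm, hu]
    rw [Multiset.map_coe, List.map_ofFn, Multiset.prod_coe, List.prod_ofFn]
    rfl
  rw [hval F le_rfl]
  have h1 : MvPolynomial.eval u G₁ = MvPolynomial.eval (fun j : Fin (s + 1) => (F.coeff j : K))
      (MvPolynomial.map (algebraMap ℚ K) G) := by
    rw [hG₁, hprod]
    simp only [FK, coeff_map, eq_intCast]
  rw [← h1, hsame, hH₁]
  refine congrArg Multiset.prod (Multiset.map_congr rfl fun a _ => ?_)
  rw [← eval_map]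
  change _ = FK.eval a
  rw [← hprod, eval_prod]
  simp

end Groth.AbVarMul
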