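import Groth.Agent.AbVarMul.HomLattice
import Mathlib.RingTheory.IntegralClosure.IntegrallyClosed
import Mathlib.RingTheory.Flat.Basic
import Mathlib.FieldTheory.Minpoly.Basic
import Mathlib.RingTheory.Polynomial.GaussLemma

/-!
# Minimal polynomials of endomorphisms on Tate modules
-/

universe u

open CategoryTheory MonoidalCategory CartesianMonoidalCategory MonObj AlgebraicGeometry
open Polynomial
open scoped TensorProduct

namespace Groth.AbVarMul

/-- Elements of a ring which is free and finite over `ℤ` have a monic minimal polynomial with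
integer coefficients. -/
theorem exists_int_minpoly {E : Type*} [Ring E] [Module.Free ℤ E] [Module.Finite ℤ E] (α : E) :
    ∃ P : ℤ[X], P.Monic ∧ P.eval₂ (Int.castRingHom E) α = 0 ∧
      LinearIndependent ℤ (fun i : Fin P.natDegree => α ^ (i : ℕ)) := by
  let incl : E →ₐ[ℤ] ℚ ⊗[ℤ] E := Algebra.TensorProduct.includeRight
  have hinj : Function.Injective incl :=
    Algebra.TensorProduct.includeRight_injective (Int.cast_injective (α := ℚ))
  obtain ⟨P₀, hP₀, hP₀α⟩ := IsIntegral.of_finite ℤ α
  have hdvd : minpoly ℚ (incl α) ∣ P₀.map (algebraMap ℤ ℚ) := minpoly.dvd ℚ _ (by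
    rw [aeval_map_algebraMap, aeval_algHom_apply, aeval_def, hP₀α, map_zero])
  have hint : IsIntegral ℚ (incl α) := IsIntegral.of_finite ℚ _
  obtain ⟨P, hP⟩ := IsIntegrallyClosed.eq_map_mul_C_of_dvd (R := ℤ) ℚ hP₀ hdvd
  rw [(minpoly.monic hint).leadingCoeff, C_1, _root_.mul_one] at hP
  have hPm : P.Monic :=
    monic_of_injective (Int.cast_injective (α := ℚ)) (hP.symm ▸ minpoly.monic hint)
  refine ⟨P, hPm, hinj ?_, ?_⟩
  · rw [← RingHom.ext_int (algebraMap ℤ E) (Int.castRingHom E), ← aeval_def, map_zero,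
      ← aeval_algHom_apply, ← aeval_map_algebraMap ℚ, hP, minpoly.aeval]
  · rw [Fintype.linearIndependent_iff]
    intro a ha i
    obtain ⟨q, hq⟩ : ∃ q : ℤ[X], q = ∑ j : Fin P.natDegree, C (a j) * X ^ (j : ℕ) := ⟨_, rfl⟩
    have hqα : aeval (incl α) (q.map (algebraMap ℤ ℚ)) = 0 := by
      rw [aeval_map_algebraMap, aeval_algHom_apply, hq, map_sum]
      simp only [map_mul, map_pow, aeval_C, aeval_X, ← Algebra.smul_def]
      rw [ha, map_zero]
    have hqdeg : (q.map (algebraMap ℤ ℚ)).degree < (minpoly ℚ (incl α)).degree := by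
      rw [← hP]
      refine degree_map_le.trans_lt ?_
      rw [hPm.degree_map, hq]
      exact (degree_sum_fin_lt _).trans_eq (degree_eq_natDegree hPm.ne_zero).symm
    have h0 : q.map (algebraMap ℤ ℚ) = 0 := by
      by_contra hne
      exact absurd (minpoly.degree_le_of_ne_zero ℚ (incl α) hne hqα) (not_le.2 hqdeg)
    have := congrArg (fun r => r.coeff i) ((Polynomial.map_eq_zero_iff (Int.cast_injective (α := ℚ))).1 h0)
    simp only [hq, finsetSum_coeff, coeff_C_mul, coeff_X_pow, coeff_zero, mul_ite, _root_.mul_one,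
      mul_zero] at this
    rwa [Finset.sum_eq_single i (fun j _ hj => if_neg (fun h => hj (Fin.ext h.symm)))
      (fun h => absurd (Finset.mem_univ i) h), if_pos rfl] at this

variable {k : Type u} [Field k] {A : Over (Spec (CommRingCat.of k))} [GrpObj A]
  [IsCommMonObj A] [IsProper A.hom] [GeometricallyIntegral A.hom]

/-- The minimal polynomial of an endomorphism on the Tate module has integer coefficients. -/
theorem exists_int_minpoly_tate (K : Type u) [Field K] [Algebra k K] [IsAlgClosed K] {l : ℕ}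
    [Fact l.Prime] (hl : (l : k) ≠ 0) (α : EndAV.End A) :
    ∃ P : ℤ[X], P.Monic ∧
      minpoly ℤ_[l] (EndAV.End.tateRep (A := A) l (SGA7.pt (K := k) K) α) =
        P.map (Int.castRingHom ℤ_[l]) := by
  obtain ⟨g, hg⟩ := Groth.FibreDim.exists_dim_eq_nat A
  obtain ⟨hfree, hfin, -⟩ := free_finite_hom (A := A) (B := A) hg hg
  have : Module.Free ℤ (EndAV.End A) := hfree
  have : Module.Finite ℤ (EndAV.End A) := hfin
  obtain ⟨P, hPm, hP0, hli⟩ := exists_int_minpoly α
  refine ⟨P, hPm, ?_⟩
  set τ := EndAV.End.tateRep (A := A) l (SGA7.pt (K := k) K) with hτ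
  have hind := linearIndependent_tateMap_bc (A := A) (B := A) K hl
    (fun i : Fin P.natDegree => α ^ (i : ℕ)) hli
  refine (minpoly.unique' ℤ_[l] _ (hPm.map _) ?_ fun q hq => ?_).symm
  · rw [aeval_def, eval₂_map]
    have h := congrArg τ hP0
    rw [hom_eval₂, map_zero] at h
    rw [RingHom.ext_int (τ.comp _) (Int.castRingHom _)] at h
    rwa [RingHom.ext_int ((algebraMap ℤ_[l] _).comp (Int.castRingHom ℤ_[l])) (Int.castRingHom _)]
  · rcases eq_or_ne q 0 with h0 | h0
    · exact Or.inl h0
    refine Or.inr fun h => h0 ?_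
    have hd : q.natDegree < P.natDegree := by
      rwa [degree_eq_natDegree h0, hPm.degree_map, degree_eq_natDegree hPm.ne_zero,
        Nat.cast_lt] at hq
    rw [aeval_eq_sum_range' hd, ← Fin.sum_univ_eq_sum_range (fun i => q.coeff i • τ α ^ i)] at h
    refine Polynomial.ext fun n => ?_
    rw [coeff_zero]
    by_cases hn : n < P.natDegree
    · refine Fintype.linearIndependent_iff.1 hind (fun i => q.coeff i) ?_ ⟨n, hn⟩
      refine Eq.trans (Finset.sum_congr rfl fun i _ => ?_) h
      rw [← map_pow]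
      rfl
    · exact coeff_eq_zero_of_natDegree_lt (by omega)

end Groth.AbVarMul
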