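import Mathlib.NumberTheory.Padics.Complex
import Mathlib.NumberTheory.Padics.RingHoms
import Mathlib.LinearAlgebra.Matrix.Charpoly.Coeff
import Mathlib.Analysis.Normed.Group.Ultra
import Mathlib.Analysis.SpecificLimits.Normed
import Mathlib.FieldTheory.Minpoly.IsIntegrallyClosed
import Mathlib.FieldTheory.Normal.Basic
import Mathlib.RingTheory.Polynomial.RationalRoot
import Mathlib.RingTheory.DedekindDomain.Dvr

/-!
# Weil's lemma: a polynomial is determined by the absolute values of its resultants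

Two monic polynomials of the same degree over `ℚ_l`, the second with `l`-integral coefficients,
coincide if their resultants with every monic integral polynomial have equal `l`-adic absolute
values, at most one.
-/

open Polynomial

namespace Groth.AbVarMul

variable {l : ℕ} [Fact l.Prime]

local notation "K" => PadicAlgCl l

omit [Fact l.Prime] in
theorem norm_prod_eq {R : Type*} [NormedField R] (s : Multiset R) :
    ‖s.prod‖ = (s.map norm).prod :=
  map_multiset_prod (normHom : R →*₀ ℝ) s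

theorem norm_natCast_prime : ‖(l : K)‖ = (l : ℝ)⁻¹ := by
  rw [← map_natCast (algebraMap ℚ_[l] K), norm_algebraMap', Padic.norm_p]

/-- Bounded resultants force integral roots. -/
theorem norm_le_one_of_bounded (s : Multiset K)
    (h : ∀ F : ℤ[X], F.Monic → ‖(s.map fun a => F.eval₂ (Int.castRingHom K) a).prod‖ ≤ 1) :
    ∀ a ∈ s, ‖a‖ ≤ 1 := by
  classical
  intro a ha
  by_contra hgt
  push Not at hgt
  have hl1 : (1 : ℝ) < l := by exact_mod_cast (Fact.out : l.Prime).one_lt
  -- large exponents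
  have hex : ∀ b : K, ∃ k₀ : ℕ, ∀ k, k₀ ≤ k → (l : ℝ)⁻¹ ≤ ‖b ^ k + (l : K)‖ ∧
      (1 < ‖b‖ → ‖b ^ k + (l : K)‖ = ‖b‖ ^ k) := by
    intro b
    rcases le_or_gt 1 ‖b‖ with hb | hb
    · refine ⟨0, fun k _ => ?_⟩
      have hk : ‖(l : K)‖ < ‖b ^ k‖ := by
        rw [norm_natCast_prime, norm_pow]
        exact (inv_lt_one_of_one_lt₀ hl1).trans_le (one_le_pow₀ hb)
      rw [IsUltrametricDist.norm_add_eq_max_of_norm_ne_norm hk.ne', max_eq_left hk.le]
      exact ⟨by rw [← norm_natCast_prime]; exact hk.le, fun _ => norm_pow b k⟩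
    · obtain ⟨k₀, hk₀⟩ := exists_pow_lt_of_lt_one (inv_pos.2 (zero_lt_one.trans hl1)) hb
      refine ⟨k₀, fun k hk => ⟨?_, fun h1 => absurd h1 hb.not_gt⟩⟩
      have hk' : ‖b ^ k‖ < ‖(l : K)‖ := by
        rw [norm_natCast_prime, norm_pow]
        exact (pow_le_pow_of_le_one (norm_nonneg b) hb.le hk).trans_lt hk₀
      rw [IsUltrametricDist.norm_add_eq_max_of_norm_ne_norm hk'.ne, max_eq_right hk'.le,
        norm_natCast_prime]
  choose k₀ hk₀ using hex
  obtain ⟨m, hm⟩ := pow_unbounded_of_one_lt ((l : ℝ) ^ Multiset.card s) hgt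
  let k := (s.map k₀).sum + m + 1
  have hk : ∀ b ∈ s, k₀ b ≤ k := fun b hb =>
    (Multiset.le_sum_of_mem (Multiset.mem_map_of_mem k₀ hb)).trans (by omega)
  have hFm : (X ^ k + C (l : ℤ) : ℤ[X]).Monic := monic_X_pow_add_C _ (by omega)
  have hb := h _ hFm
  obtain ⟨s', rfl⟩ := Multiset.exists_cons_of_mem ha
  simp only [Multiset.map_cons, Multiset.prod_cons, eval₂_add, eval₂_pow, eval₂_X, eval₂_C,
    eval₂_natCast, map_natCast, norm_mul] at hb
  rw [(hk₀ a k (hk a (Multiset.mem_cons_self _ _))).2 hgt, norm_prod_eq, Multiset.map_map] at hb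
  have hlow : ∀ t : Multiset K, (∀ b ∈ t, k₀ b ≤ k) →
      ((l : ℝ)⁻¹) ^ Multiset.card t ≤ (t.map ((fun b => ‖b‖) ∘ fun b => b ^ k + (l : K))).prod := by
    intro t ht
    induction t using Multiset.induction with
    | empty => simp
    | cons b t ih =>
      rw [Multiset.map_cons, Multiset.prod_cons, Multiset.card_cons, pow_succ']
      exact mul_le_mul (hk₀ b k (ht b (Multiset.mem_cons_self _ _))).1
        (ih fun c hc => ht c (Multiset.mem_cons_of_mem hc)) (by positivity) (norm_nonneg _)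
  have h1 : ‖a‖ ^ k * ((l : ℝ)⁻¹) ^ Multiset.card s' ≤ 1 :=
    le_trans (mul_le_mul_of_nonneg_left (hlow s' fun b hb => hk b (Multiset.mem_cons_of_mem hb))
      (by positivity)) hb
  have h2 : (l : ℝ) ^ (Multiset.card s' + 1) < ‖a‖ ^ k := by
    rw [Multiset.card_cons] at hm
    exact hm.trans_le (pow_le_pow_right₀ hgt.le (by omega))
  rw [inv_pow, ← div_eq_mul_inv, div_le_one (by positivity)] at h1
  have := pow_lt_pow_right₀ hl1 (Nat.lt_add_one (Multiset.card s'))
  linarith

theorem norm_eval₂_le_one (G : ℤ_[l][X]) {z : K} (hz : ‖z‖ ≤ 1) :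
    ‖G.eval₂ ((algebraMap ℚ_[l] K).comp (algebraMap ℤ_[l] ℚ_[l])) z‖ ≤ 1 := by
  induction G using Polynomial.induction_on' with
  | add p q hp hq =>
    rw [eval₂_add]
    exact (IsUltrametricDist.norm_add_le_max _ _).trans (max_le hp hq)
  | monomial n a =>
    rw [eval₂_monomial, norm_mul, norm_pow, RingHom.comp_apply, norm_algebraMap']
    exact mul_le_one₀ a.2 (by positivity) (pow_le_one₀ (norm_nonneg z) hz)

/-- Monic integral approximations of a monic polynomial over `ℤ_l`. -/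
theorem exists_int_approx {μ : ℤ_[l][X]} (hμ : μ.Monic) (hd : 0 < μ.natDegree) (N : ℕ) :
    ∃ F : ℤ[X], F.Monic ∧ ∃ G : ℤ_[l][X],
      F.map (Int.castRingHom ℤ_[l]) = μ + C ((l : ℤ_[l]) ^ N) + C ((l : ℤ_[l]) ^ (N + 1)) * G := by
  set ν := μ + C ((l : ℤ_[l]) ^ N) with hν
  let F : ℤ[X] := X ^ μ.natDegree + ∑ j : Fin μ.natDegree, C ((ν.coeff j).appr (N + 1) : ℤ) * X ^ (j : ℕ)
  have hdeg : (∑ j : Fin μ.natDegree, C ((ν.coeff j).appr (N + 1) : ℤ) * X ^ (j : ℕ)).degree <
      (μ.natDegree : WithBot ℕ) := degree_sum_fin_lt _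
  refine ⟨F, monic_X_pow_add hdeg, ?_⟩
  have hdvd : C ((l : ℤ_[l]) ^ (N + 1)) ∣ F.map (Int.castRingHom ℤ_[l]) - ν := by
    rw [C_dvd_iff_dvd_coeff]
    intro i
    simp only [F, coeff_sub, Polynomial.map_add, Polynomial.map_pow, map_X, Polynomial.map_sum,
      Polynomial.map_mul, map_C, coeff_add, finsetSum_coeff, coeff_C_mul, coeff_X_pow]
    simp only [map_natCast]
    rcases lt_trichotomy i μ.natDegree with hi | rfl | hi
    · rw [if_neg hi.ne, zero_add, Finset.sum_eq_single ⟨i, hi⟩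
        (fun j _ hj => by rw [if_neg fun h => hj (Fin.ext h.symm), mul_zero]) (by simp), if_pos rfl,
        mul_one]
      have := Ideal.mem_span_singleton.1 (PadicInt.appr_spec (N + 1) (ν.coeff i))
      exact (dvd_neg.2 this).trans (dvd_of_eq (neg_sub _ _))
    · rw [if_pos rfl, Finset.sum_eq_zero fun j _ => by rw [if_neg j.2.ne', mul_zero]]
      rw [hν, coeff_add, hμ.coeff_natDegree, coeff_C, if_neg hd.ne', add_zero, sub_self]
      exact dvd_zero _
    · rw [if_neg hi.ne', Finset.sum_eq_zero fun j _ => by rw [if_neg (by omega), mul_zero]]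
      rw [hν, coeff_add, coeff_eq_zero_of_natDegree_lt hi, coeff_C, if_neg (by omega)]
      simp
  obtain ⟨G, hG⟩ := hdvd
  exact ⟨G, by rw [← hG]; ring⟩

open scoped Classical in
/-- Roots of a polynomial over `ℚ_l` are permuted by Galois automorphisms. -/
theorem count_aroots_eq (P : ℚ_[l][X]) (σ : K ≃ₐ[ℚ_[l]] K) (x : K) :
    (P.aroots K).count (σ x) = (P.aroots K).count x := by
  classical
  rcases eq_or_ne P 0 with rfl | hP
  · simp
  have h : (P.aroots K).map σ = P.aroots K := by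
    have e := (IsAlgClosed.splits (P.map (algebraMap ℚ_[l] K))).roots_map (σ : K →+* K)
    rw [Polynomial.map_map] at e
    rw [show (σ : K →+* K).comp (algebraMap ℚ_[l] K) = algebraMap ℚ_[l] K from
      RingHom.ext σ.commutes] at e
    exact e.symm
  conv_lhs => rw [← h]
  exact Multiset.count_map_eq_count' _ _ σ.injective x

/-- **Weil's lemma.** -/
theorem eq_of_norm_resultant {P : ℚ_[l][X]} {Q : ℤ_[l][X]} (hP : P.Monic) (hQ : Q.Monic)
    (hd : P.natDegree = Q.natDegree)
    (hle : ∀ F : ℤ[X], F.Monic →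
      ‖((P.aroots K).map fun a => F.eval₂ (Int.castRingHom K) a).prod‖ ≤ 1)
    (heq : ∀ F : ℤ[X], F.Monic →
      ‖((P.aroots K).map fun a => F.eval₂ (Int.castRingHom K) a).prod‖ =
      ‖(((Q.map (algebraMap ℤ_[l] ℚ_[l])).aroots K).map fun b =>
        F.eval₂ (Int.castRingHom K) b).prod‖) :
    P = Q.map (algebraMap ℤ_[l] ℚ_[l]) := by
  classical
  set Q' := Q.map (algebraMap ℤ_[l] ℚ_[l]) with hQ'
  have hQ'm : Q'.Monic := hQ.map _
  set s := P.aroots K
  set t := Q'.aroots K
  have hs := norm_le_one_of_bounded s hle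
  have ht := norm_le_one_of_bounded t fun F hF => (heq F hF).symm ▸ hle F hF
  let φ := (algebraMap ℚ_[l] K).comp (algebraMap ℤ_[l] ℚ_[l])
  have hcard : Multiset.card s = Multiset.card t := by
    rw [IsAlgClosed.card_aroots_eq_natDegree, IsAlgClosed.card_aroots_eq_natDegree, hd, hQ',
      hQ.natDegree_map]
  have hl1 : (1 : ℝ) < l := by exact_mod_cast (Fact.out : l.Prime).one_lt
  -- multiplicities of integral roots agree
  have key : ∀ μ : ℤ_[l][X], μ.Monic → 0 < μ.natDegree →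
      s.countP (fun z => μ.eval₂ φ z = 0) = t.countP (fun z => μ.eval₂ φ z = 0) := by
    intro μ hμ hμd
    -- the norm at a point, for large `N`
    have hval : ∀ z : K, ‖z‖ ≤ 1 → ∃ N₀ : ℕ, ∀ N, N₀ ≤ N → ∀ (F : ℤ[X]) (G : ℤ_[l][X]),
        F.map (Int.castRingHom ℤ_[l]) = μ + C ((l : ℤ_[l]) ^ N) + C ((l : ℤ_[l]) ^ (N + 1)) * G →
        ‖F.eval₂ (Int.castRingHom K) z‖ =
          if μ.eval₂ φ z = 0 then ((l : ℝ)⁻¹) ^ N else ‖μ.eval₂ φ z‖ := by
      intro z hz
      have hexp : ∀ N (F : ℤ[X]) (G : ℤ_[l][X]),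
          F.map (Int.castRingHom ℤ_[l]) = μ + C ((l : ℤ_[l]) ^ N) + C ((l : ℤ_[l]) ^ (N + 1)) * G →
          F.eval₂ (Int.castRingHom K) z =
            μ.eval₂ φ z + (l : K) ^ N + (l : K) ^ (N + 1) * G.eval₂ φ z := by
        intro N F G h
        have h' := congrArg (Polynomial.eval₂ φ z) h
        rw [eval₂_map, RingHom.ext_int (φ.comp (Int.castRingHom ℤ_[l])) (Int.castRingHom K)] at h'
        simp only [eval₂_add, eval₂_mul, eval₂_C, eval₂_pow, eval₂_natCast, map_pow, map_natCast] at h'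
        exact h'
      have hsmall : ∀ N (G : ℤ_[l][X]), ‖(l : K) ^ (N + 1) * G.eval₂ φ z‖ < ((l : ℝ)⁻¹) ^ N := by
        intro N G
        rw [norm_mul, norm_pow, norm_natCast_prime]
        refine lt_of_le_of_lt (mul_le_of_le_one_right (by positivity) (norm_eval₂_le_one G hz)) ?_
        exact pow_lt_pow_right_of_lt_one₀ (inv_pos.2 (zero_lt_one.trans hl1))
          (inv_lt_one_of_one_lt₀ hl1) (Nat.lt_succ_self N)
      have hlN : ∀ N, ‖(l : K) ^ N‖ = ((l : ℝ)⁻¹) ^ N := fun N => by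
        rw [norm_pow, norm_natCast_prime]
      by_cases h0 : μ.eval₂ φ z = 0
      · refine ⟨0, fun N _ F G h => ?_⟩
        rw [if_pos h0, hexp N F G h, h0, zero_add,
          IsUltrametricDist.norm_add_eq_max_of_norm_ne_norm (by rw [hlN]; exact (hsmall N G).ne'),
          max_eq_left (by rw [hlN]; exact (hsmall N G).le), hlN]
      · obtain ⟨N₀, hN₀⟩ := exists_pow_lt_of_lt_one (norm_pos_iff.2 h0) (inv_lt_one_of_one_lt₀ hl1)
        refine ⟨N₀, fun N hN F G h => ?_⟩
        have hb : ((l : ℝ)⁻¹) ^ N < ‖μ.eval₂ φ z‖ :=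
          (pow_le_pow_of_le_one (by positivity) (inv_lt_one_of_one_lt₀ hl1).le hN).trans_lt hN₀
        have hx : ‖(l : K) ^ N + (l : K) ^ (N + 1) * G.eval₂ φ z‖ < ‖μ.eval₂ φ z‖ :=
          (IsUltrametricDist.norm_add_le_max _ _).trans_lt
            (max_lt (by rw [hlN]; exact hb) ((hsmall N G).trans hb))
        rw [if_neg h0, hexp N F G h, add_assoc,
          IsUltrametricDist.norm_add_eq_max_of_norm_ne_norm hx.ne', max_eq_left hx.le]
    -- the product over a multiset
    have hprod : ∀ u : Multiset K, (∀ z ∈ u, ‖z‖ ≤ 1) → ∃ (C₀ : ℝ) (N₀ : ℕ), 0 < C₀ ∧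
        ∀ N, N₀ ≤ N → ∀ (F : ℤ[X]) (G : ℤ_[l][X]),
        F.map (Int.castRingHom ℤ_[l]) = μ + C ((l : ℤ_[l]) ^ N) + C ((l : ℤ_[l]) ^ (N + 1)) * G →
        ‖(u.map fun z => F.eval₂ (Int.castRingHom K) z).prod‖ =
          C₀ * (((l : ℝ)⁻¹) ^ N) ^ u.countP (fun z => μ.eval₂ φ z = 0) := by
      intro u hu
      induction u using Multiset.induction with
      | empty => exact ⟨1, 0, one_pos, fun N _ F G _ => by simp⟩
      | cons b u ih =>
        obtain ⟨C₀, N₀, hC₀, hN₀⟩ := ih fun z hz => hu z (Multiset.mem_cons_of_mem hz)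
        obtain ⟨N₁, hN₁⟩ := hval b (hu b (Multiset.mem_cons_self _ _))
        refine ⟨if μ.eval₂ φ b = 0 then C₀ else ‖μ.eval₂ φ b‖ * C₀, max N₀ N₁, ?_,
          fun N hN F G h => ?_⟩
        · split_ifs with h0
          · exact hC₀
          · exact mul_pos (norm_pos_iff.2 h0) hC₀
        · rw [Multiset.map_cons, Multiset.prod_cons, norm_mul,
            hN₀ N (le_of_max_le_left hN) F G h, hN₁ N (le_of_max_le_right hN) F G h,
            Multiset.countP_cons]
          split_ifs with h0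
          · rw [pow_succ]; ring
          · rw [add_zero]; ring
    obtain ⟨Cs, N₀, hCs, hNs⟩ := hprod s hs
    obtain ⟨Ct, N₁, hCt, hNt⟩ := hprod t ht
    have hN : ∀ N, max N₀ N₁ ≤ N →
        Cs * (((l : ℝ)⁻¹) ^ N) ^ s.countP (fun z => μ.eval₂ φ z = 0) =
        Ct * (((l : ℝ)⁻¹) ^ N) ^ t.countP (fun z => μ.eval₂ φ z = 0) := by
      intro N hN
      obtain ⟨F, hF, G, hG⟩ := exists_int_approx hμ hμd N
      rw [← hNs N (le_of_max_le_left hN) F G hG, ← hNt N (le_of_max_le_right hN) F G hG]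
      exact heq F hF
    have e₁ := hN _ le_rfl
    have e₂ := hN _ (Nat.le_succ _)
    rw [pow_succ, mul_pow, mul_pow, ← mul_assoc, ← mul_assoc, e₁] at e₂
    have hx : (0 : ℝ) < (l : ℝ)⁻¹ := inv_pos.2 (zero_lt_one.trans hl1)
    exact (pow_right_injective₀ hx (inv_lt_one_of_one_lt₀ hl1).ne)
      (mul_left_cancel₀ (by positivity) e₂)
  -- roots of `Q` are roots of `P` with the same multiplicity
  have hcount : ∀ x ∈ t, t.count x = s.count x := by
    intro x hx
    have hxi : IsIntegral ℤ_[l] x := by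
      refine ⟨Q, hQ, ?_⟩
      have h := (mem_aroots.1 hx).2
      rw [hQ', aeval_map_algebraMap] at h
      rwa [← aeval_def]
    set μ := minpoly ℤ_[l] x
    have hμK : μ.map (algebraMap ℤ_[l] ℚ_[l]) = minpoly ℚ_[l] x :=
      (minpoly.isIntegrallyClosed_eq_field_fractions' ℚ_[l] hxi).symm
    have hφ : ∀ z : K, μ.eval₂ φ z = aeval z (minpoly ℚ_[l] x) := fun z => by
      rw [← hμK, aeval_def, eval₂_map]
    have hroot : ∀ z : K, μ.eval₂ φ z = 0 ↔ ∃ σ : K ≃ₐ[ℚ_[l]] K, σ x = z := fun z => by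
      rw [hφ]
      refine ⟨fun h => minpoly.exists_algEquiv_of_root' (Algebra.IsAlgebraic.isAlgebraic x) h, ?_⟩
      rintro ⟨σ, rfl⟩
      rw [aeval_algEquiv, AlgHom.comp_apply, minpoly.aeval, map_zero]
    have hsum : ∀ (p : ℚ_[l][X]), (p.aroots K).countP (fun z => μ.eval₂ φ z = 0) =
        (((minpoly ℚ_[l] x).aroots K).toFinset).card * (p.aroots K).count x := by
      intro p
      rw [Multiset.countP_eq_card_filter, ← Multiset.toFinset_sum_count_eq,
        ← smul_eq_mul, ← Finset.sum_const]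
      symm
      refine Finset.sum_bij_ne_zero (fun z _ _ => z) (fun z hz hne => ?_) (fun _ _ _ _ _ _ h => h)
        (fun z hz hne => ⟨z, ?_, ?_, rfl⟩) fun z hz hne => ?_
      · rw [Multiset.mem_toFinset, Multiset.mem_filter, hφ]
        have hz' := (mem_aroots.1 (Multiset.mem_toFinset.1 hz)).2
        obtain ⟨σ, rfl⟩ := (hroot z).1 ((hφ z).trans hz')
        refine ⟨Multiset.count_pos.1 ?_, hz'⟩
        rw [count_aroots_eq]
        omega
      · rw [Multiset.mem_toFinset, Multiset.mem_filter] at hz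
        rw [Multiset.mem_toFinset, mem_aroots]
        exact ⟨minpoly.ne_zero (Algebra.IsIntegral.isIntegral x), (hφ z).symm.trans hz.2⟩
      · rw [Multiset.mem_toFinset, Multiset.mem_filter] at hz
        obtain ⟨σ, rfl⟩ := (hroot z).1 hz.2
        rw [Multiset.count_filter_of_pos (p := fun z => μ.eval₂ φ z = 0) hz.2, count_aroots_eq] at hne
        exact hne
      · have hz' := (mem_aroots.1 (Multiset.mem_toFinset.1 hz)).2
        have hμz := (hφ z).trans hz'
        obtain ⟨σ, rfl⟩ := (hroot z).1 hμz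
        rw [Multiset.count_filter_of_pos (p := fun z => μ.eval₂ φ z = 0) hμz, count_aroots_eq]
    have h := key μ (minpoly.monic hxi) (minpoly.natDegree_pos hxi)
    rw [hsum P, hsum Q'] at h
    have hpos : 0 < (((minpoly ℚ_[l] x).aroots K).toFinset).card := Finset.card_pos.2 ⟨x,
      Multiset.mem_toFinset.2 (mem_aroots.2
        ⟨minpoly.ne_zero (Algebra.IsIntegral.isIntegral x), minpoly.aeval _ _⟩)⟩
    exact (Nat.eq_of_mul_eq_mul_left hpos h).symm
  have hts : t = s := by
    refine Multiset.eq_of_le_of_card_le (Multiset.le_iff_count.2 fun x => ?_) hcard.le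
    by_cases hx : x ∈ t
    · exact (hcount x hx).le
    · rw [Multiset.count_eq_zero_of_notMem hx]; exact Nat.zero_le _
  apply Polynomial.map_injective _ (algebraMap ℚ_[l] K).injective
  rw [(IsAlgClosed.splits (P.map (algebraMap ℚ_[l] K))).eq_prod_roots,
    (IsAlgClosed.splits (Q'.map (algebraMap ℚ_[l] K))).eq_prod_roots,
    (hP.map _).leadingCoeff, (hQ'm.map _).leadingCoeff]
  show C 1 * (s.map _).prod = C 1 * (t.map _).prod
  rw [hts]

end Groth.AbVarMul
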