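import Groth.Agent.AbVarMul.DegVal
import Groth.Agent.AbVarMul.DegRes
import Groth.Agent.AbVarMul.LangLemma
import Groth.Agent.AbVarMul.HomMinpoly
import Groth.Agent.FBaseGeom.Dim
import Mathlib.LinearAlgebra.Charpoly.ToMatrix
import Mathlib.RingTheory.Polynomial.GaussLemma

/-!
# The degree of an endomorphism is the determinant of its action on the Tate module

The characteristic polynomial `deg (n - α)` of an endomorphism has integral coefficients and is the
characteristic polynomial of `T_l α` for every `l` prime to the characteristic.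
-/

universe u

open CategoryTheory MonoidalCategory CartesianMonoidalCategory MonObj GrpObj AlgebraicGeometry
open Polynomial
open AbDual
open CategoryTheory.Limits (pullback)

namespace Groth.AbVarMul

variable {k : Type u} [Field k]

section Basis

variable [IsAlgClosed k] {A : Over (Spec (CommRingCat.of k))} [GrpObj A] [IsCommMonObj A]
  [IsProper A.hom] [GeometricallyIntegral A.hom]

/-- The Tate module over an algebraically closed field is free of rank `2 g`. -/
theorem nonempty_tateMod_basis {g l : ℕ} [Fact l.Prime] (hg : topologicalKrullDim A.left = g)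
    (hl : (l : k) ≠ 0) :
    Nonempty (Module.Basis (Fin (2 * g)) ℤ_[l]
      (TateMod A l (𝟙_ (Over (Spec (CommRingCat.of k)))))) := by
  obtain ⟨e⟩ := nonempty_torsPts_mulEquiv (A := A) hg hl
  obtain ⟨E⟩ := nonempty_tateMod_linearEquiv
    (fun a => exists_pow_eq (A := A) (Fact.out : l.Prime).ne_zero a) e
  exact ⟨(Pi.basisFun ℤ_[l] (Fin (2 * g))).map E⟩

/-- **The degree form is the determinant of the Tate representation.** -/
theorem exists_charpoly {g l : ℕ} [Fact l.Prime] (hg : topologicalKrullDim A.left = g)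
    (hl : (l : k) ≠ 0) (b : Module.Basis (Fin (2 * g)) ℤ_[l]
      (TateMod A l (𝟙_ (Over (Spec (CommRingCat.of k)))))) (α : EndAV.End A) :
    ∃ P : ℤ[X], P.Monic ∧ P.natDegree = 2 * g ∧
      (∀ n : ℤ, P.eval n = homDeg (α - (n : EndAV.End A)).toHom) ∧
      (LinearMap.toMatrix b b (EndAV.End.tateRep (A := A) l
        (𝟙_ (Over (Spec (CommRingCat.of k)))) α)).charpoly = P.map (Int.castRingHom ℤ_[l]) := by
  classical
  set τ := EndAV.End.tateRep (A := A) l (𝟙_ (Over (Spec (CommRingCat.of k)))) with hτ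
  let Nm : EndAV.End A →* ℤ :=
    { toFun := fun β => (homDeg β.toHom : ℤ)
      map_one' := by
        show ((homDeg (𝟙 A) : ℕ) : ℤ) = 1
        rw [homDeg_id hg, Nat.cast_one]
      map_mul' := fun β δ => by
        show ((homDeg (δ.toHom ≫ β.toHom) : ℕ) : ℤ) = _
        rw [homDeg_comp δ.toHom β.toHom hg hg hg, Nat.cast_mul, mul_comm] }
  -- the characteristic polynomial over `ℚ`
  obtain ⟨G₂, hG₂, hG₂e⟩ := exists_degree_form (A := A) (B := A) hg hg
    (![(α : EndAV.Hom A A), EndAV.Hom.of (𝟙 A)])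
  have h01 : MvPolynomial.eval ![(0 : ℚ), 1] G₂ = 1 := by
    have h := hG₂e ![0, 1]
    rw [show (fun i => ((![0, 1] i : ℤ) : ℚ)) = ![(0 : ℚ), 1] by funext i; fin_cases i <;> simp,
      Fin.sum_univ_two] at h
    rw [h]
    simp only [Matrix.cons_val_zero, Matrix.cons_val_one, zero_smul, one_smul, zero_add]
    exact_mod_cast homDeg_id hg
  obtain ⟨hRm, hRd⟩ := monic_dehomogenise hG₂ h01
  set R : ℚ[X] := MvPolynomial.aeval ![1, Polynomial.X] G₂ with hR
  have hReval : ∀ n : ℤ, R.eval (n : ℚ) = Nm (α + (n : EndAV.End A)) := by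
    intro n
    have e : (∑ i, ![1, n] i • ![(α : EndAV.Hom A A), EndAV.Hom.of (𝟙 A)] i).toHom =
        (α + (n : EndAV.End A)).toHom := by
      rw [Fin.sum_univ_two]
      simp only [Matrix.cons_val_zero, Matrix.cons_val_one, one_smul]
      show α.toHom * (n • EndAV.Hom.of (𝟙 A)).toHom = α.toHom * (n : EndAV.End A).toHom
      rw [EndAV.Hom.toHom_zsmul, EndAV.End.toHom_intCast]
      rfl
    have hev : R.eval (n : ℚ) = MvPolynomial.eval (fun i => ((![1, n] i : ℤ) : ℚ)) G₂ := by
      rw [hR, ← Polynomial.coe_aeval_eq_eval, ← AlgHom.comp_apply, MvPolynomial.comp_aeval,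
        MvPolynomial.aeval_eq_eval]
      congr 2
      funext i; fin_cases i <;> simp
    rw [hev, hG₂e]
    refine (congrArg (fun f => ((homDeg f : ℕ) : ℚ)) e).trans ?_
    show _ = (((homDeg (α + (n : EndAV.End A)).toHom : ℕ) : ℤ) : ℚ)
    push_cast
    rfl
  set P : ℚ[X] := R.comp (-X) with hPdef
  have hX : (-X : ℚ[X]).natDegree = 1 := by rw [natDegree_neg, natDegree_X]
  have hPd : P.natDegree = 2 * g := by rw [hPdef, natDegree_comp, hRd, hX, _root_.mul_one]
  have hPm : P.Monic := by
    rw [Monic, hPdef, leadingCoeff_comp (by rw [hX]; exact one_ne_zero), hRm, leadingCoeff_neg,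
      leadingCoeff_X, _root_.one_mul, hRd, (even_two_mul g).neg_one_pow]
  have hP : ∀ n : ℤ, P.eval (n : ℚ) = Nm (α - (n : EndAV.End A)) := fun n => by
    rw [hPdef, eval_comp, eval_neg, eval_X, sub_eq_add_neg, ← Int.cast_neg, hReval, Int.cast_neg]
  have hform : ∀ s : ℕ, ∃ G : MvPolynomial (Fin s) ℚ, ∀ a : Fin s → ℤ,
      MvPolynomial.eval (fun i => (a i : ℚ)) G = Nm (∑ i : Fin s, a i • α ^ (i : ℕ)) := fun s => by
    obtain ⟨G, -, hG⟩ := exists_degree_form (A := A) (B := A) hg hg
      (fun i : Fin s => (α ^ (i : ℕ) : EndAV.End A))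
    refine ⟨G, fun a => (hG a).trans ?_⟩
    show _ = (((homDeg (∑ i : Fin s, a i • α ^ (i : ℕ)).toHom : ℕ) : ℤ) : ℚ)
    push_cast
    rfl
  -- the determinant on the Tate module
  set M := LinearMap.toMatrix b b (τ α)
  have hcardFin : Even (Fintype.card (Fin (2 * g))) := by rw [Fintype.card_fin]; exact even_two_mul g
  let φ := (algebraMap ℚ_[l] (PadicAlgCl l)).comp (algebraMap ℤ_[l] ℚ_[l])
  have hnorm : ∀ β : EndAV.End A,
      ‖((Nm β : ℤ) : PadicAlgCl l)‖ = ‖φ (LinearMap.toMatrix b b (τ β)).det‖ := by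
    intro β
    rw [← map_intCast φ]
    show ‖algebraMap ℚ_[l] (PadicAlgCl l) _‖ = ‖algebraMap ℚ_[l] (PadicAlgCl l) _‖
    rw [norm_algebraMap', norm_algebraMap']
    show ‖((Nm β : ℤ) : ℤ_[l])‖ = ‖(LinearMap.toMatrix b b (τ β)).det‖
    show ‖(((homDeg β.toHom : ℕ) : ℤ) : ℤ_[l])‖ = _
    rw [Int.cast_natCast]
    by_cases hf : IsFinite β.toHom.left
    · obtain ⟨hv, hne⟩ := padicValNat_homDeg hg hg β.toHom b b
      have hd : homDeg β.toHom ≠ 0 := (homDeg_pos β.toHom rfl).ne'
      have hd' : ((homDeg β.toHom : ℕ) : ℤ_[l]) ≠ 0 := by exact_mod_cast hd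
      have hvd : ((homDeg β.toHom : ℕ) : ℤ_[l]).valuation = padicValNat l (homDeg β.toHom) := by
        have h := PadicInt.valuation_coe ((homDeg β.toHom : ℕ) : ℤ_[l])
        rw [PadicInt.coe_natCast, Padic.valuation_natCast] at h
        exact_mod_cast h.symm
      show _ = ‖(LinearMap.toMatrix b b (tateMapₗ β.toHom)).det‖
      rw [PadicInt.norm_eq_zpow_neg_valuation hd', PadicInt.norm_eq_zpow_neg_valuation (x := _) hne,
        hvd, hv]
    · rw [homDeg_of_not_isFinite _ hf, Nat.cast_zero, norm_zero]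
      have hinj : ¬ Function.Injective (τ β) := fun h =>
        hf ((isFinite_iff_injective_tateMap hl β.toHom).2 h)
      suffices h : (LinearMap.toMatrix b b (τ β)).det = 0 by rw [h, norm_zero]
      by_contra hne
      refine hinj ?_
      rw [← LinearMap.ker_eq_bot]
      by_contra hker
      obtain ⟨x, hx, hx0⟩ := Submodule.exists_mem_ne_zero_of_ne_bot hker
      refine hne (Matrix.exists_mulVec_eq_zero_iff.1 ⟨b.repr x, fun h => hx0 ?_, ?_⟩)
      · exact b.repr.map_eq_zero_iff.1 (Finsupp.ext fun i => congrFun h i)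
      · rw [LinearMap.toMatrix_mulVec_repr, LinearMap.mem_ker.1 hx]
        simp
  have hres : ∀ F : ℤ[X], F.Monic →
      ((Nm (F.eval₂ (Int.castRingHom (EndAV.End A)) α) : ℤ) : PadicAlgCl l) =
        ((P.aroots (PadicAlgCl l)).map fun a => F.eval₂ (Int.castRingHom (PadicAlgCl l)) a).prod :=
    fun F hF => eval₂_eq_prod_roots Nm α P hPm (hPd ▸ even_two_mul g) hP hform hF
  have hdet : ∀ F : ℤ[X], F.Monic →
      φ (LinearMap.toMatrix b b (τ (F.eval₂ (Int.castRingHom (EndAV.End A)) α))).det =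
        (((M.charpoly.map φ)).roots.map fun a => F.eval₂ (Int.castRingHom (PadicAlgCl l)) a).prod := by
    intro F hF
    let Λ : Module.End ℤ_[l] (TateMod A l (𝟙_ (Over (Spec (CommRingCat.of k))))) →+*
        Matrix (Fin (2 * g)) (Fin (2 * g)) (PadicAlgCl l) :=
      φ.mapMatrix.comp (LinearMap.toMatrixAlgEquiv b).toRingEquiv.toRingHom
    have h1 : φ (LinearMap.toMatrix b b (τ (F.eval₂ (Int.castRingHom (EndAV.End A)) α))).det =
        ((F.map (Int.castRingHom (PadicAlgCl l))).eval₂
          (algebraMap (PadicAlgCl l) (Matrix (Fin (2 * g)) (Fin (2 * g)) (PadicAlgCl l)))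
          (M.map φ)).det := by
      rw [RingHom.map_det]
      show (Λ (τ _)).det = _
      rw [← RingHom.comp_apply Λ τ, hom_eval₂, eval₂_map,
        RingHom.ext_int ((Λ.comp τ).comp (Int.castRingHom (EndAV.End A)))
          ((algebraMap (PadicAlgCl l) (Matrix (Fin (2 * g)) (Fin (2 * g)) (PadicAlgCl l))).comp
            (Int.castRingHom (PadicAlgCl l)))]
      rfl
    rw [h1, ← aeval_def, det_aeval_matrix (M.map φ) hcardFin (hF.map _), Matrix.charpoly_map]
    simp only [Polynomial.eval_map]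
  have hQd : P.natDegree = M.charpoly.natDegree := by
    rw [hPd, M.charpoly_natDegree_eq_dim, Fintype.card_fin]
  have hPq : P.map (algebraMap ℚ ℚ_[l]) = M.charpoly.map (algebraMap ℤ_[l] ℚ_[l]) := by
    refine eq_of_norm_resultant (hPm.map _) M.charpoly_monic ((natDegree_map _).trans hQd)
      (fun F hF => ?_) fun F hF => ?_
    · rw [aroots_map, ← hres F hF, ← map_intCast φ]
      show ‖algebraMap ℚ_[l] (PadicAlgCl l) _‖ ≤ 1
      rw [norm_algebraMap']
      exact ((Nm (F.eval₂ (Int.castRingHom (EndAV.End A)) α) : ℤ) : ℤ_[l]).2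
    · rw [aroots_map, ← hres F hF, hnorm, hdet F hF]
      rw [aroots, Polynomial.map_map]
  -- integrality
  have : Module.Finite ℤ (EndAV.End A) := (free_finite_hom (A := A) (B := A) hg hg).2.1
  obtain ⟨P₀, hP₀, hP₀α⟩ := IsIntegral.of_finite ℤ α
  have hroots : ∀ x ∈ (M.charpoly.map φ).roots, IsIntegral ℤ x := by
    intro x hx
    have hspec : x ∈ spectrum (PadicAlgCl l) (M.map φ) := by
      rw [Matrix.mem_spectrum_iff_isRoot_charpoly, Matrix.charpoly_map]
      exact isRoot_of_mem_roots hx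
    have : Nontrivial (Matrix (Fin (2 * g)) (Fin (2 * g)) (PadicAlgCl l)) := by
      rw [← not_subsingleton_iff_nontrivial]
      intro h
      rw [spectrum.of_subsingleton] at hspec
      exact hspec
    let Λ : Module.End ℤ_[l] (TateMod A l (𝟙_ (Over (Spec (CommRingCat.of k))))) →+*
        Matrix (Fin (2 * g)) (Fin (2 * g)) (PadicAlgCl l) :=
      φ.mapMatrix.comp (LinearMap.toMatrixAlgEquiv b).toRingEquiv.toRingHom
    have h0 : aeval (M.map φ) (P₀.map (Int.castRingHom (PadicAlgCl l))) = 0 := by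
      have h := congrArg (Λ.comp τ) hP₀α
      rw [map_zero, hom_eval₂, RingHom.ext_int ((Λ.comp τ).comp _)
        ((algebraMap (PadicAlgCl l) (Matrix (Fin (2 * g)) (Fin (2 * g)) (PadicAlgCl l))).comp
          (Int.castRingHom (PadicAlgCl l)))] at h
      rw [aeval_def, eval₂_map]
      exact h
    have hmem := spectrum.subset_polynomial_aeval (M.map φ)
      (P₀.map (Int.castRingHom (PadicAlgCl l))) ⟨x, hspec, rfl⟩
    rw [h0, spectrum.zero_eq, Set.mem_singleton_iff] at hmem
    refine ⟨P₀, hP₀, ?_⟩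
    rw [RingHom.ext_int (algebraMap ℤ (PadicAlgCl l)) (Int.castRingHom _), ← Polynomial.eval_map]
    exact hmem
  have hmap : P.map (algebraMap ℚ (PadicAlgCl l)) = M.charpoly.map φ := by
    rw [show φ = (algebraMap ℚ_[l] (PadicAlgCl l)).comp (algebraMap ℤ_[l] ℚ_[l]) from rfl,
      ← Polynomial.map_map, ← hPq, Polynomial.map_map]
    exact congrArg (fun f => P.map f) (RingHom.ext_rat _ _)
  have hcoeff : ∀ s : Multiset (PadicAlgCl l), (∀ a ∈ s, IsIntegral ℤ a) →
      ∀ i, IsIntegral ℤ ((s.map fun a => X - C a).prod.coeff i) := by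
    intro s
    induction s using Multiset.induction with
    | empty =>
      intro _ i
      rw [Multiset.map_zero, Multiset.prod_zero, coeff_one]
      split_ifs
      · exact isIntegral_one
      · exact isIntegral_zero
    | cons a s ih =>
      intro h i
      rw [Multiset.map_cons, Multiset.prod_cons, coeff_mul]
      refine IsIntegral.sum _ fun j _ => IsIntegral.mul ?_
        (ih (fun c hc => h c (Multiset.mem_cons_of_mem hc)) _)
      rw [coeff_sub, coeff_X, coeff_C]
      refine IsIntegral.sub ?_ ?_ <;> split_ifs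
      exacts [isIntegral_one, isIntegral_zero, h a (Multiset.mem_cons_self a s), isIntegral_zero]
  have hlift : P ∈ Polynomial.lifts (Int.castRingHom ℚ) := by
    rw [lifts_iff_coeff_lifts]
    intro i
    have h : IsIntegral ℤ (algebraMap ℚ (PadicAlgCl l) (P.coeff i)) := by
      rw [← coeff_map, hmap,
        (IsAlgClosed.splits _).eq_prod_roots_of_monic (M.charpoly_monic.map φ)]
      exact hcoeff _ hroots i
    obtain ⟨z, hz⟩ := IsIntegrallyClosed.isIntegral_iff.1
      ((isIntegral_algebraMap_iff (algebraMap ℚ (PadicAlgCl l)).injective).1 h)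
    exact ⟨z, hz⟩
  obtain ⟨P₁, hP₁, hP₁d, hP₁m⟩ := lifts_and_natDegree_eq_and_monic hlift hPm
  refine ⟨P₁, hP₁m, hP₁d.trans hPd, fun n => ?_, ?_⟩
  · have h := hP n
    rw [← hP₁, eval_intCast_map] at h
    exact Int.cast_injective h
  · refine Polynomial.map_injective (algebraMap ℤ_[l] ℚ_[l]) (IsFractionRing.injective _ _) ?_
    rw [← hPq, ← hP₁, Polynomial.map_map, Polynomial.map_map]
    exact congrArg (fun f => P₁.map f) (RingHom.ext_int _ _)

end Basis

end Groth.AbVarMul
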