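import Groth.Agent.AbVarMul.DegCharpoly

/-!
# Degree and Tate module over an arbitrary field

The degree of a homomorphism is unchanged by base change to an algebraically closed field, so the
polynomial `n ↦ deg (α - n)` is the characteristic polynomial of `T_l α`.
-/

universe u

open CategoryTheory MonoidalCategory CartesianMonoidalCategory MonObj GrpObj AlgebraicGeometry
open Polynomial
open AbDual
open CategoryTheory.Limits (pullback)

namespace Groth.AbVarMul

section LinAlg

/-- An integral polynomial killing a linear map kills the roots of its characteristic polynomial. -/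
theorem eval_charpoly_root_eq_zero {R L V : Type*} [CommRing R] [Field L] (φ : R →+* L)
    [AddCommGroup V] [Module R V] [Module.Free R V] [Module.Finite R V] (f : Module.End R V)
    {q : ℤ[X]} (hq : q.eval₂ (Int.castRingHom (Module.End R V)) f = 0) {x : L}
    (hx : x ∈ (f.charpoly.map φ).roots) : q.eval₂ (Int.castRingHom L) x = 0 := by
  classical
  have : Nontrivial R := φ.domain_nontrivial
  let b := Module.Free.chooseBasis R V
  let ι' := Module.Free.ChooseBasisIndex R V
  let Λ : Module.End R V →+* Matrix ι' ι' L :=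
    φ.mapMatrix.comp (LinearMap.toMatrixAlgEquiv b).toRingEquiv.toRingHom
  have hspec : x ∈ spectrum L (Λ f) := by
    rw [Matrix.mem_spectrum_iff_isRoot_charpoly]
    show ((LinearMap.toMatrix b b f).map φ).charpoly.IsRoot x
    rw [Matrix.charpoly_map, LinearMap.charpoly_toMatrix]
    exact isRoot_of_mem_roots hx
  have : Nontrivial (Matrix ι' ι' L) := by
    rw [← not_subsingleton_iff_nontrivial]
    intro h
    rw [spectrum.of_subsingleton] at hspec
    exact hspec
  have h0 : aeval (Λ f) (q.map (Int.castRingHom L)) = 0 := by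
    have h := congrArg Λ hq
    rw [map_zero, hom_eval₂, RingHom.ext_int (Λ.comp _)
      ((algebraMap L (Matrix ι' ι' L)).comp (Int.castRingHom L))] at h
    rw [aeval_def, eval₂_map]
    exact h
  have hmem := spectrum.subset_polynomial_aeval (Λ f) (q.map (Int.castRingHom L)) ⟨x, hspec, rfl⟩
  rw [h0, spectrum.zero_eq, Set.mem_singleton_iff] at hmem
  rw [← Polynomial.eval_map]
  exact hmem

/-- The determinant of an endomorphism of even rank is the constant term of its characteristic
polynomial. -/
theorem det_eq_eval_charpoly {R V : Type*} [CommRing R] [Nontrivial R] [AddCommGroup V]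
    [Module R V] [Module.Free R V] [Module.Finite R V] (f : Module.End R V)
    (h : Even (Module.finrank R V)) : LinearMap.det f = f.charpoly.eval 0 := by
  rw [← coeff_zero_eq_eval_zero, LinearMap.det_eq_sign_charpoly_coeff, h.neg_one_pow, _root_.one_mul]

/-- Polynomials with the same values at all integers are equal. -/
theorem eq_of_eval_int {R : Type*} [CommRing R] [IsDomain R] [CharZero R] {P Q : R[X]}
    (h : ∀ n : ℤ, P.eval (n : R) = Q.eval (n : R)) : P = Q :=
  eq_of_infinite_eval_eq P Q ((Set.infinite_range_of_injective Int.cast_injective).mono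
    (by rintro _ ⟨n, rfl⟩; exact h n))

end LinAlg

variable {k : Type u} [Field k] (K : Type u) [Field K] [Algebra k K]

noncomputable local instance grpObjBcFD (A : Over (Spec (CommRingCat.of k))) [GrpObj A] :
    GrpObj ((bcF K).obj A) := Functor.grpObjObj

variable {A B : Over (Spec (CommRingCat.of k))} [GrpObj A] [IsProper A.hom]
  [GeometricallyIntegral A.hom] [GrpObj B] [IsProper B.hom] [GeometricallyIntegral B.hom]

theorem dim_bcF (A : Over (Spec (CommRingCat.of k))) [IsProper A.hom] :
    topologicalKrullDim ((bcF K).obj A).left = topologicalKrullDim A.left :=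
  Groth.FBaseGeom.dim_bc A.hom K

/-- The degree of a homomorphism is unchanged by base change. -/
theorem homDeg_bcF (f : A ⟶ B) [IsMonHom f] [IsMonHom ((bcF K).map f)]
    (hdim : topologicalKrullDim A.left = topologicalKrullDim B.left) :
    homDeg ((bcF K).map f) = homDeg f := by
  have := isProper_bcF K A
  have := isProper_bcF K B
  have := geometricallyIntegral_bcF K A
  have := geometricallyIntegral_bcF K B
  have := Groth.Abvar.isIntegral_left B
  have := Groth.Abvar.isIntegral_left ((bcF K).obj B)
  have hdimK : topologicalKrullDim ((bcF K).obj A).left = topologicalKrullDim ((bcF K).obj B).left := by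
    rw [dim_bcF, dim_bcF, hdim]
  have sq := Groth.GrpschAbsch.FibreFlat.isPullback_map
    (Spec.map (CommRingCat.ofHom (algebraMap k K))) f
  by_cases hf : IsFinite f.left
  · obtain ⟨h2, -⟩ := flat_surjective_of_isFinite f hdim
    have : IsFinite ((bcF K).map f).left := MorphismProperty.of_isPullback (P := @IsFinite) sq hf
    rw [← finrank_eq_homDeg ((bcF K).map f) hdimK
        (η[(bcF K).obj B].left.base (IsLocalRing.closedPoint K)),
      Scheme.Hom.finrank_of_isPullback _ _ _ _ sq]
    exact finrank_eq_homDeg f hdim _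
  · rw [homDeg_of_not_isFinite f hf]
    refine homDeg_of_not_isFinite _ fun hK => hf ?_
    have := (flat_surjective_of_isFinite ((bcF K).map f) hdimK).2
    have : Surjective f.left := by
      refine ⟨fun b => ?_⟩
      have : Surjective (Spec.map (CommRingCat.ofHom (algebraMap k K))) :=
        ⟨fun x => ⟨IsLocalRing.closedPoint K, Subsingleton.elim (α := PrimeSpectrum k) _ _⟩⟩
      obtain ⟨w, hw⟩ := (CategoryTheory.Limits.pullback.fst B.hom
        (Spec.map (CommRingCat.ofHom (algebraMap k K)))).surjective b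
      obtain ⟨v, hv⟩ := ((bcF K).map f).left.surjective w
      refine ⟨CategoryTheory.Limits.pullback.fst A.hom
        (Spec.map (CommRingCat.ofHom (algebraMap k K))) v, ?_⟩
      rw [← Scheme.Hom.comp_apply, sq.w, Scheme.Hom.comp_apply, hv, hw]
    have := Groth.Abvar.Hom.flat_of_surjective f
    exact Groth.Abvar.Hom.isFinite_of_flat f hdim

variable [IsCommMonObj A]

set_option synthInstance.maxHeartbeats 200000 in
theorem bcF_map_sub_intCast (α : A ⟶ A) [IsMonHom α] [IsMonHom ((bcF K).map α)]
    [IsCommMonObj ((bcF K).obj A)] (n : ℤ) :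
    (bcF K).map (EndAV.End.of α - (n : EndAV.End A)).toHom =
      (EndAV.End.of ((bcF K).map α) - (n : EndAV.End ((bcF K).obj A))).toHom := by
  rw [EndAV.End.toHom_sub, EndAV.End.toHom_sub, EndAV.End.toHom_intCast, EndAV.End.toHom_intCast,
    EndAV.End.toHom_of, EndAV.End.toHom_of]
  show (bcF K).homMonoidHom (α / 𝟙 A ^ n) = _
  rw [_root_.map_div, map_zpow]
  show (bcF K).map α / (bcF K).map (𝟙 A) ^ n = _
  rw [CategoryTheory.Functor.map_id]

omit [IsCommMonObj A] in
theorem natCast_ne_zero_bc {l : ℕ} (hl : (l : k) ≠ 0) : (l : K) ≠ 0 := by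
  rw [← map_natCast (algebraMap k K)]
  exact fun h => hl ((algebraMap k K).injective (h.trans (map_zero _).symm))

variable [IsAlgClosed K]

theorem exists_degPoly_bc {g l : ℕ} [Fact l.Prime] (hg : topologicalKrullDim A.left = g)
    (hl : (l : k) ≠ 0) (α : EndAV.End A) :
    ∃ P : ℤ[X], P.Monic ∧ P.natDegree = 2 * g ∧
      (∀ n : ℤ, P.eval n = homDeg (α - (n : EndAV.End A)).toHom) ∧
      ∀ [Module.Free ℤ_[l] (TateMod A l (SGA7.pt (K := k) K))]
        [Module.Finite ℤ_[l] (TateMod A l (SGA7.pt (K := k) K))],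
        (tateMapₗ (l := l) (T := SGA7.pt (K := k) K) α.toHom).charpoly =
          P.map (Int.castRingHom ℤ_[l]) := by
  have := isProper_bcF K A
  have := geometricallyIntegral_bcF K A
  have := GrpschAbsch.isCommMonObj_of_isProper ((bcF K).obj A)
  have hgK : topologicalKrullDim ((bcF K).obj A).left = g := (dim_bcF K A).trans hg
  have hlK := natCast_ne_zero_bc K hl
  have : IsMonHom ((bcF K).map α.toHom) := Groth.Abvar.isMonHom_map α.toHom
  obtain ⟨b⟩ := nonempty_tateMod_basis (A := (bcF K).obj A) hgK hlK
  obtain ⟨P, hPm, hPd, hPn, hPc⟩ :=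
    exists_charpoly hgK hlK b (EndAV.End.of ((bcF K).map α.toHom))
  refine ⟨P, hPm, hPd, fun n => ?_, ?_⟩
  · have : IsMonHom ((bcF K).map (α - (n : EndAV.End A)).toHom) :=
      Groth.Abvar.isMonHom_map _
    rw [hPn, ← homDeg_bcF K (α - (n : EndAV.End A)).toHom rfl]
    congr 2
    exact (bcF_map_sub_intCast K α.toHom n).symm
  · intro _ _
    have := Module.Free.of_equiv (bcTate K A l)
    have := Module.Finite.equiv (bcTate K A l)
    rw [← hPc, ← LinearEquiv.charpoly_conj (bcTate K A l)]
    refine Eq.trans ?_ (LinearMap.charpoly_toMatrix _ b).symm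
    refine congrArg LinearMap.charpoly (LinearMap.ext fun y => ?_)
    rw [LinearEquiv.conj_apply_apply, bcTate_tateMap K l α.toHom, LinearEquiv.apply_symm_apply]
    rfl

omit K in
theorem exists_prime_ne_zero (k : Type u) [Field k] : ∃ l : ℕ, l.Prime ∧ (l : k) ≠ 0 := by
  obtain ⟨p, hp⟩ := CharP.exists k
  obtain ⟨l, hpl, hlp⟩ := Nat.exists_infinite_primes (p + 1)
  refine ⟨l, hlp, fun h => ?_⟩
  rcases (CharP.char_is_prime_or_zero k p) with hp' | rfl
  · have := (Nat.prime_dvd_prime_iff_eq hp' hlp).1 ((CharP.cast_eq_zero_iff k p l).1 h)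
    omega
  · exact hlp.ne_zero (Nat.eq_zero_of_zero_dvd ((CharP.cast_eq_zero_iff k 0 l).1 h))

omit K in
/-- **The characteristic polynomial of an endomorphism of an abelian variety.** -/
theorem exists_degPoly {g : ℕ} (hg : topologicalKrullDim A.left = g) (α : EndAV.End A) :
    ∃ P : ℤ[X], P.Monic ∧ P.natDegree = 2 * g ∧
      ∀ n : ℤ, P.eval n = homDeg (α - (n : EndAV.End A)).toHom := by
  obtain ⟨l, hlp, hl⟩ := exists_prime_ne_zero k
  have := Fact.mk hlp
  obtain ⟨P, h1, h2, h3, -⟩ := exists_degPoly_bc (AlgebraicClosure k) hg hl α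
  exact ⟨P, h1, h2, h3⟩

/-- **The degree polynomial is the characteristic polynomial on every Tate module.** -/
theorem charpoly_tateMap {l : ℕ} [Fact l.Prime] (hl : (l : k) ≠ 0) (α : EndAV.End A) (P : ℤ[X])
    (hP : ∀ n : ℤ, P.eval n = homDeg (α - (n : EndAV.End A)).toHom)
    [Module.Free ℤ_[l] (TateMod A l (SGA7.pt (K := k) K))]
    [Module.Finite ℤ_[l] (TateMod A l (SGA7.pt (K := k) K))] :
    (tateMapₗ (l := l) (T := SGA7.pt (K := k) K) α.toHom).charpoly =
      P.map (Int.castRingHom ℤ_[l]) := by
  obtain ⟨g, hg⟩ := Groth.FibreDim.exists_dim_eq_nat A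
  obtain ⟨P', -, -, h3, h4⟩ := exists_degPoly_bc K hg hl α
  obtain rfl : P = P' := eq_of_eval_int fun n => by
    rw [Int.cast_id, hP, h3]
  exact h4

/-- The degree is the determinant on the Tate module. -/
theorem homDeg_eq_det {l : ℕ} [Fact l.Prime] (hl : (l : k) ≠ 0) (α : EndAV.End A)
    [Module.Free ℤ_[l] (TateMod A l (SGA7.pt (K := k) K))]
    [Module.Finite ℤ_[l] (TateMod A l (SGA7.pt (K := k) K))] :
    LinearMap.det (tateMapₗ (l := l) (T := SGA7.pt (K := k) K) α.toHom) =
      (homDeg α.toHom : ℤ_[l]) := by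
  obtain ⟨g, hg⟩ := Groth.FibreDim.exists_dim_eq_nat A
  obtain ⟨P, hPm, hPd, hP, hc⟩ := exists_degPoly_bc K hg hl α
  have hc' : (tateMapₗ (l := l) (T := SGA7.pt (K := k) K) α.toHom).charpoly =
      P.map (Int.castRingHom ℤ_[l]) := hc
  rw [det_eq_eval_charpoly, hc', eval_zero_map, hP 0, Int.cast_zero, sub_zero, eq_intCast,
    Int.cast_natCast]
  rw [← LinearMap.charpoly_natDegree (tateMapₗ (l := l) (T := SGA7.pt (K := k) K) α.toHom), hc',
    natDegree_map_eq_of_injective Int.cast_injective, hPd]
  exact even_two_mul g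

end Groth.AbVarMul
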