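import Groth.Agent.AbVarMul.Ample
import Groth.Agent.Inter.NakaiCor
import Groth.Agent.Inter.Cartier
import Groth.Agent.Inter.SectionDivisor
import Groth.Agent.Variety2.DimScheme
import Groth.Agent.Abvar.Rigidity
import Groth.Agent.Divisors.AssocNzd
import Groth.Prelude.Def_EndRing

/-!
# A positive definite bilinear form on `Hom(A, B)`

For a divisor `D` on `B` with affine complement and an ample class `H` on `A` the number
`φ^* D · H ^ (g - 1)` is quadratic in `φ` by the theorem of the cube and positive for `φ ≠ 0`.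
-/

universe u

open CategoryTheory Limits MonoidalCategory CartesianMonoidalCategory MonObj GrpObj AlgebraicGeometry
  TopologicalSpace Groth.Abvar Groth.Abvar.PicCalc BlowUp

namespace Groth.AbVarMul

variable {k : Type u} [Field k]

section DimDivisor

variable {X : Scheme.{u}} [IsIntegral X]

/-- An effective Cartier divisor on an integral scheme of finite type over a field has a point of
codimension one through each of its points. -/
theorem exists_height_of_isEffCartierIdeal (f : X ⟶ Spec (CommRingCat.of k)) [LocallyOfFiniteType f]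
    {I : X.IdealSheafData} (hI : IsEffCartierIdeal I) {x : X} (hx : x ∈ I.support) :
    ∃ y ∈ I.support, topologicalKrullDim X ≤ (Order.height y : ℕ∞) + 1 := by
  have : IsLocallyNoetherian X := LocallyOfFiniteType.isLocallyNoetherian f
  obtain ⟨V, hxV, g, hg, hgI⟩ := hI x
  have hmem : ∀ (y : X) (hy : y ∈ V.1), y ∈ I.support ↔ g ∈ (V.2.primeIdealOf ⟨y, hy⟩).asIdeal := by
    intro y hy
    rw [← not_iff_not, Divisors.not_mem_support_iff hgI hy, ← X.mem_basicOpen g y hy]
    rw [show y ∈ X.basicOpen g ↔ V.2.fromSpec (V.2.primeIdealOf ⟨y, hy⟩) ∈ X.basicOpen g by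
      rw [V.2.fromSpec_primeIdealOf ⟨y, hy⟩]]
    show V.2.primeIdealOf ⟨y, hy⟩ ∈ V.2.fromSpec ⁻¹ᵁ X.basicOpen g ↔ _
    rw [V.2.fromSpec_preimage_basicOpen]
    rfl
  obtain ⟨q, hq, hqP⟩ := Ideal.exists_minimalPrimes_le (I := Ideal.span {g})
    (J := (V.2.primeIdealOf ⟨x, hxV⟩).asIdeal) ((Ideal.span_singleton_le_iff_mem _).2 ((hmem x hxV).1 hx))
  have := hq.isPrime
  have : IsNoetherianRing Γ(X, V.1) := IsLocallyNoetherian.component_noetherian V
  have hh : q.height ≤ 1 := Ideal.height_le_one_of_isPrincipal_of_mem_minimalPrimes _ q hq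
  let Q : PrimeSpectrum Γ(X, V.1) := ⟨q, inferInstance⟩
  let y : X := V.2.fromSpec Q
  have hyV : y ∈ V.1 := V.2.range_fromSpec.le ⟨Q, rfl⟩
  refine ⟨y, ?_, ?_⟩
  · rw [hmem y hyV]
    have : V.2.primeIdealOf ⟨y, hyV⟩ = Q := V.2.fromSpec.isOpenEmbedding.injective
      (by rw [V.2.fromSpec_primeIdealOf])
    rw [this]
    exact hq.1.2 (Ideal.mem_span_singleton_self g)
  · rw [← Variety2.Dim.ringKrullDim_stalk_add_height f y, add_comm]
    refine add_le_add le_rfl ?_
    letI := TopCat.Presheaf.algebra_section_stalk X.presheaf (⟨y, hyV⟩ : V.1)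
    haveI hloc : IsLocalization.AtPrime (X.presheaf.stalk y) q := V.2.isLocalization_stalk' Q hyV
    rw [IsLocalization.AtPrime.ringKrullDim_eq_height q (X.presheaf.stalk y)]
    exact WithBot.coe_le_coe.2 hh

/-- The support of a nonempty effective Cartier divisor has codimension one. -/
theorem dim_support_isEffCartierIdeal (f : X ⟶ Spec (CommRingCat.of k)) [LocallyOfFiniteType f]
    {I : X.IdealSheafData} (hI : IsEffCartierIdeal I) (hη : genericPoint X ∉ I.support) {x : X}
    (hx : x ∈ I.support) {g : ℕ} (hg : topologicalKrullDim X = g) :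
    1 ≤ g ∧ topologicalKrullDim (I.support : Set X) = (g - 1 : ℕ) := by
  rw [Variety2.Dim.dim_eq_height_genericPoint] at hg
  have hηg : Order.height (genericPoint X) = g := by exact_mod_cast hg
  have hlt : ∀ z ∈ I.support, Order.height z + 1 ≤ (g : ℕ∞) := fun z hz => by
    rw [← hηg]
    refine Order.height_add_one_le (lt_of_le_not_ge (genericPoint_specializes z) fun h => hη ?_)
    exact (Scheme.le_iff_specializes.1 h).mem_closed I.support.isClosed hz
  have h1 : 1 ≤ g := by exact_mod_cast (le_add_self.trans (hlt x hx) : (1 : ℕ∞) ≤ g)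
  refine ⟨h1, ?_⟩
  obtain ⟨n, rfl⟩ : ∃ n, g = n + 1 := Nat.exists_eq_add_of_le' h1
  obtain ⟨y, hy, hyd⟩ := exists_height_of_isEffCartierIdeal f hI hx
  rw [Variety2.Dim.dim_eq_height_genericPoint, hηg] at hyd
  rw [Variety2.Dim.dim_closed I.support.isClosed, Nat.add_sub_cancel]
  refine le_antisymm (iSup₂_le fun z hz => ?_) (le_iSup₂_of_le y hy ?_)
  · have := hlt z hz
    push_cast at this
    exact WithBot.coe_le_coe.2 ((ENat.add_le_add_iff_right ENat.one_ne_top).1 this)
  · have hyd' : ((n + 1 : ℕ) : ℕ∞) ≤ Order.height y + 1 := by exact_mod_cast hyd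
    push_cast at hyd'
    exact WithBot.coe_le_coe.2 ((ENat.add_le_add_iff_right ENat.one_ne_top).1 hyd')

end DimDivisor

section Pairing

variable {X : Scheme.{u}} [X.Over (Spec (CommRingCat.of k))]
  [IsProper (X ↘ Spec (CommRingCat.of k))]

/-- Intersection numbers as a homomorphism on the Picard group. -/
theorem exists_pairing {l : List X.Modules} (hl : ∀ M ∈ l, PicF.IsInvertible M) {F : X.Modules}
    (hF : Coh.IsCoh F) (hdim : topologicalKrullDim (CohB1.support F) ≤ (l.length + 1 : ℕ)) :
    ∃ d : Additive (PicLoc.PicSet X) →+ ℤ, ∀ (L : X.Modules) (hL : PicF.IsInvertible L),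
      d (Additive.ofMul (cls hL)) = Inter.delta k (L :: l) F := by
  choose R hR hRc using fun c : PicLoc.PicSet X => PicGrp.exists_eq_cls c
  have key : ∀ (L : X.Modules) (hL : PicF.IsInvertible L),
      Inter.delta k (R (cls hL) :: l) F = Inter.delta k (L :: l) F := fun L hL =>
    Inter.delta_congr_list k (List.Forall₂.cons
      ((nonempty_iso_iff (hR _) hL).2 (hRc (cls hL)).symm)
      (List.forall₂_same.2 fun x _ => ⟨Iso.refl x⟩)) F
  refine ⟨AddMonoidHom.mk' (fun c => Inter.delta k (R c.toMul :: l) F) fun a b => ?_,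
    fun L hL => key L hL⟩
  have h := key _ (isInvertible_tensorMod (hR a.toMul) (hR b.toMul))
  rw [cls_tensorMod (hR a.toMul) (hR b.toMul), show cls (hR a.toMul) = a.toMul from (hRc _).symm,
    show cls (hR b.toMul) = b.toMul from (hRc _).symm] at h
  show Inter.delta k (R (a.toMul * b.toMul) :: l) F = _
  rw [h]
  exact Inter.delta_tensor k (hR _) (hR _) hl hF hdim

/-- The degree of a nonempty effective Cartier divisor on an integral scheme is positive. -/
theorem delta_divisor_pos [IsIntegral X] {M : X.Modules} (hM : Inter.IsAmpleInv M)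
    {K : X.IdealSheafData} (hK : IsEffCartierIdeal K) (hη : genericPoint X ∉ K.support) {z : X}
    (hz : z ∈ K.support) {g : ℕ} (hg : topologicalKrullDim X = g) :
    0 < Inter.delta k (ClSub.idealMod K :: List.replicate (g - 1) M) (Coh.structureModule X) := by
  have hN : IsNoetherian X := Inter.isNoetherian k
  have hOc : Coh.IsCoh (Coh.structureModule X) :=
    Inter.isCoh_of_isInvertible (EulerDeg.isInvertible_structureModule _)
  obtain ⟨hg1, hdimK⟩ := dim_support_isEffCartierIdeal (X ↘ Spec (CommRingCat.of k)) hK hη hz hg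
  obtain ⟨hcoh, hsupp⟩ := Inter.support_quotMod k K
  have hass : ∀ x ∈ K.support, ¬ Curv2.IsWeakAssPoint (Coh.structureModule X) x := fun x hx hwa => by
    refine absurd hx ((Divisors.dense_iff_weakAss K.support.compl).1 (fun V => ?_) x hwa)
    by_cases hV : (V : Set X).Nonempty
    · obtain ⟨a, ha, ha'⟩ := nonempty_preirreducible_inter V.2 K.support.compl.2 hV ⟨_, hη⟩
      have : Nonempty (V ⊓ K.support.compl : X.Opens) := ⟨⟨a, ha, ha'⟩⟩
      exact map_injective_of_isIntegral X _
    · intro s t _
      obtain rfl : V = ⊥ := TopologicalSpace.Opens.ext (Set.not_nonempty_iff_eq_empty.1 hV)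
      exact Subsingleton.elim s t
  rw [Inter.delta_idealMod_cons k hOc hK hass
    (fun N hN => (List.eq_of_mem_replicate hN) ▸ hM.isInvertible)]
  rw [Inter.delta_congr k _ (show Nonempty (CohB1.tensorMod (Coh.structureModule X) (ClSub.quotMod K) ≅
    ClSub.quotMod K) from Inter.tensor_one _)]
  refine Inter.delta_pos k _ (fun N hN => (List.eq_of_mem_replicate hN) ▸ hM) _ hcoh ?_
  rw [hsupp, hdimK, List.length_replicate]

end Pairing

variable {A B : Over (Spec (CommRingCat.of k))} [GrpObj A] [GrpObj B]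

/-- The reduced complement of an affine open neighbourhood of the origin is an effective Cartier
divisor. -/
theorem exists_affine_divisor (B : Over (Spec (CommRingCat.of k))) [GrpObj B] [IsProper B.hom]
    [GeometricallyIntegral B.hom] :
    ∃ (W : B.left.Opens) (J : B.left.IdealSheafData), IsAffineOpen W ∧
      η[B].left.base (IsLocalRing.closedPoint k) ∈ W ∧ IsEffCartierIdeal J ∧
      ∀ x : B.left, x ∈ J.support ↔ x ∉ W := by
  obtain ⟨W, hW, heW, -⟩ := exists_symmetric_affine (A := B)
  have := Groth.Abvar.isIntegral_left B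
  have : Smooth B.hom := GrpschAbsch.smooth_of_geometricallyReduced B
  have : IsLocallyNoetherian B.left := LocallyOfFiniteType.isLocallyNoetherian B.hom
  have : B.left.IsSeparated := isSeparated_left
  exact ⟨W, Scheme.IdealSheafData.vanishingIdeal W.compl, hW, heW,
    isEffCartierIdeal_compl hW ⟨_, heW⟩, fun x => by
    rw [← SetLike.mem_coe, Scheme.IdealSheafData.coe_support_vanishingIdeal]; rfl⟩

/-- A homomorphism into an affine open is trivial. -/
theorem eq_one_of_subset_affine [IsProper A.hom] [GeometricallyIntegral A.hom] (φ : A ⟶ B)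
    [IsMonHom φ] {W : B.left.Opens} (hW : IsAffineOpen W) (h : ∀ z, φ.left z ∈ W) : φ = 1 := by
  have : IsAffine (W : Scheme.{u}) := hW
  let Z : Over (Spec (CommRingCat.of k)) := Over.mk (W.ι ≫ B.hom)
  let j : Z ⟶ B := Over.homMk W.ι
  let g₀ := IsOpenImmersion.lift W.ι φ.left (by
    rw [W.range_ι]; rintro _ ⟨z, rfl⟩; exact h z)
  have hg₀ : g₀ ≫ W.ι = φ.left := IsOpenImmersion.lift_fac _ _ _
  let g : A ⟶ Z := Over.homMk g₀ (by
    show g₀ ≫ W.ι ≫ B.hom = A.hom
    rw [← Category.assoc, hg₀]; exact Over.w φ)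
  have hgj : g ≫ j = φ := Over.OverMorphism.ext hg₀
  have : IsAffine Z.left := hW
  have hg := (Groth.Abvar.hasConstFunctions A η[A]).over_eq_const g η[A]
  rw [← hgj, hg, Category.assoc, Category.assoc, hgj, IsMonHom.one_hom φ, MonObj.one_eq_one,
    MonObj.comp_one]

variable [IsCommMonObj A] [IsProper A.hom] [GeometricallyIntegral A.hom] [IsCommMonObj B]
  [IsProper B.hom] [GeometricallyIntegral B.hom]

/-- **The positive definite form on `Hom(A, B)`.** -/
theorem exists_homForm :
    ∃ b : EndAV.Hom A B →+ EndAV.Hom A B →+ ℤ, ∀ φ, φ ≠ 0 → 0 < b φ φ := by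
  have := Groth.Abvar.isIntegral_left A
  letI : A.left.Over (Spec (CommRingCat.of k)) := ⟨A.hom⟩
  haveI : IsProper (A.left ↘ Spec (CommRingCat.of k)) := ‹IsProper A.hom›
  have : IsLocallyNoetherian A.left := LocallyOfFiniteType.isLocallyNoetherian A.hom
  obtain ⟨W, J, hW, heW, hJ, hJs⟩ := exists_affine_divisor B
  set c : PicLoc.PicSet B.left := cls (PicAux.isInvertible_idealMod hJ) with hc
  obtain ⟨L, hL⟩ := exists_isAmple (A := A)
  obtain ⟨M, hM, hLM⟩ := PicAux.exists_isInverseOf hL.1
  have hMa : Inter.IsAmpleInv M := ⟨L, hL, hLM⟩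
  obtain ⟨g, hg⟩ := Groth.FibreDim.exists_dim_eq_nat A
  set l := List.replicate (g - 1) M with hl
  have hlinv : ∀ N ∈ l, PicF.IsInvertible N := fun N hN => (List.eq_of_mem_replicate hN) ▸ hM
  set O := Coh.structureModule A.left
  have hOc : Coh.IsCoh O := Inter.isCoh_of_isInvertible (EulerDeg.isInvertible_structureModule _)
  have hOd : topologicalKrullDim (CohB1.support O) ≤ (l.length + 1 : ℕ) := by
    refine (Topology.IsInducing.subtypeVal.topologicalKrullDim_le).trans (hg.trans_le ?_)
    simp only [hl, List.length_replicate]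
    exact_mod_cast (by omega : g ≤ g - 1 + 1)
  obtain ⟨d, hd⟩ := exists_pairing (k := k) hlinv hOc hOd
  let Q : EndAV.Hom A B → ℤ := fun φ => d (Additive.ofMul (opull φ.toHom c))
  have hQ0 : Q 0 = 0 := by
    show d (Additive.ofMul (opull (1 : A ⟶ B) c)) = 0
    rw [opull_one, ofMul_one, map_zero]
  have hcube : ∀ φ ψ χ, Q (φ + ψ + χ) + Q φ + Q ψ + Q χ = Q (φ + ψ) + Q (φ + χ) + Q (ψ + χ) := by
    intro φ ψ χ
    have e := congrArg (fun x => d (Additive.ofMul x))
      (Groth.Abvar.Cube.opull_cube c φ.toHom ψ.toHom χ.toHom)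
    simpa only [ofMul_mul, map_add, Q, EndAV.Hom.toHom_add] using e
  let b : EndAV.Hom A B →+ EndAV.Hom A B →+ ℤ :=
    AddMonoidHom.mk' (fun φ => AddMonoidHom.mk' (fun ψ => Q (φ + ψ) - Q φ - Q ψ) fun ψ χ => by
      have := hcube φ ψ χ
      rw [← add_assoc φ ψ χ]
      linarith) fun φ χ => by
      refine AddMonoidHom.ext fun ψ => ?_
      simp only [AddMonoidHom.mk'_apply, AddMonoidHom.add_apply]
      have := hcube φ χ ψ
      linarith
  have hpos : ∀ φ, φ ≠ 0 → 0 < Q φ := by
    intro φ hφ
    set f := φ.toHom with hf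
    obtain ⟨z, hz⟩ : ∃ z, f.left z ∉ W := by
      by_contra hne
      push Not at hne
      exact hφ (EndAV.Hom.ext (eq_one_of_subset_affine f hW hne))
    have hη : f.left (genericPoint A.left) ∈ W := by
      refine ((genericPoint_specializes (η[A].left.base (IsLocalRing.closedPoint k))).map
        f.left.continuous).mem_open W.2 ?_
      rw [← Scheme.Hom.comp_apply, ← Over.comp_left, IsMonHom.one_hom f]
      exact heW
    have hK : IsEffCartierIdeal (J.comap f.left) :=
      Divisors.isEffCartierIdeal_comap_reduced f.left hJ fun ξ hξ h => (hJs _).1 h (by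
        have : genericPoint A.left = ξ := hξ _ (genericPoint_specializes ξ)
        exact this ▸ hη)
    have hzK : z ∈ (J.comap f.left).support := by
      rw [Scheme.IdealSheafData.support_comap]; exact (hJs _).2 hz
    have hηK : genericPoint A.left ∉ (J.comap f.left).support := by
      rw [Scheme.IdealSheafData.support_comap]; exact fun h => (hJs _).1 h hη
    have hcls : opull f c = cls (PicAux.isInvertible_idealMod hK) := by
      rw [show opull f = pull f.left from rfl, hc, pull_cls, ← nonempty_iso_iff]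
      exact PicAux.pullback_idealMod f.left hJ hK
    show 0 < d (Additive.ofMul (opull f c))
    rw [hcls, hd]
    exact delta_divisor_pos hMa hK hηK hzK hg
  refine ⟨b, fun φ hφ => ?_⟩
  have h1 := hpos φ hφ
  have h2 := hpos (-φ) (by simpa using hφ)
  have h3 : b φ (-φ) = Q (φ + -φ) - Q φ - Q (-φ) := rfl
  rw [add_neg_cancel, hQ0, map_neg] at h3
  linarith

end Groth.AbVarMul
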