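import Groth.Agent.AbVarMul.Degree
import Groth.Agent.AbVarMul.HomForm
import Groth.Agent.Inter.PushFormula
import Groth.Agent.Abvar.Hom
import Mathlib.RingTheory.MvPolynomial.Homogeneous

/-!
# The degree of homomorphisms is multiplicative and a homogeneous polynomial function

For invertible modules `M₁, …, M_g` on `B` one has `f^* M₁ ⋯ f^* M_g = deg f · M₁ ⋯ M_g`, the degree
of a non-finite homomorphism being zero; with the theorem of the cube this makes `deg` a form of
degree `2 g` on `Hom(A, B)`.
-/

universe u

open CategoryTheory Limits MonoidalCategory CartesianMonoidalCategory MonObj GrpObj AlgebraicGeometry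
  TopologicalSpace Groth.Abvar Groth.Abvar.PicCalc

namespace Groth.AbVarMul

variable {k : Type u} [Field k] {A B C : Over (Spec (CommRingCat.of k))} [GrpObj A] [GrpObj B]
  [GrpObj C]

open scoped Classical in
/-- The degree of a homomorphism: its rank over the origin when it is finite, zero otherwise. -/
noncomputable def homDeg (f : A ⟶ B) : ℕ :=
  if IsFinite f.left then f.left.finrank (η[B].left.base (IsLocalRing.closedPoint k)) else 0

variable [IsProper A.hom] [GeometricallyIntegral A.hom] [IsProper B.hom] [GeometricallyIntegral B.hom]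
  [IsProper C.hom] [GeometricallyIntegral C.hom]

/-- A finite homomorphism between abelian varieties of the same dimension is an isogeny. -/
theorem flat_surjective_of_isFinite (f : A ⟶ B) [IsMonHom f] [IsFinite f.left]
    (hdim : topologicalKrullDim A.left = topologicalKrullDim B.left) :
    Flat f.left ∧ Surjective f.left := by
  have := Groth.Abvar.isIntegral_left B
  have := Groth.Abvar.Hom.surjective_of_isFinite f hdim
  exact ⟨Groth.Abvar.Hom.flat_of_surjective f, this⟩

theorem finrank_eq_homDeg (f : A ⟶ B) [IsMonHom f] [IsFinite f.left]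
    (hdim : topologicalKrullDim A.left = topologicalKrullDim B.left) (b : B.left) :
    f.left.finrank b = homDeg f := by
  obtain ⟨h2, -⟩ := flat_surjective_of_isFinite f hdim
  have := Groth.Abvar.isIntegral_left B
  have : LocallyOfFinitePresentation f.left := Groth.AlgGrp1.lfp_left f
  rw [homDeg, if_pos ‹IsFinite f.left›]
  exact f.left.isLocallyConstant_finrank.apply_eq_of_preconnectedSpace _ _

omit [IsProper A.hom] [GeometricallyIntegral A.hom] [IsProper B.hom] [GeometricallyIntegral B.hom] in
theorem homDeg_of_not_isFinite (f : A ⟶ B) (h : ¬ IsFinite f.left) : homDeg f = 0 := by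
  rw [homDeg, if_neg h]

theorem homDeg_pos (f : A ⟶ B) [IsMonHom f] [IsFinite f.left]
    (hdim : topologicalKrullDim A.left = topologicalKrullDim B.left) : 0 < homDeg f := by
  obtain ⟨h2, h3⟩ := flat_surjective_of_isFinite f hdim
  have : LocallyOfFinitePresentation f.left := Groth.AlgGrp1.lfp_left f
  rw [← finrank_eq_homDeg f hdim (η[B].left.base (IsLocalRing.closedPoint k))]
  exact (Scheme.Hom.one_le_finrank_iff_surjective f.left).2 h3 _

/-- **The projection formula for homomorphisms.** -/
theorem delta_map_pullback (f : A ⟶ B) [IsMonHom f] {g : ℕ} (hgA : topologicalKrullDim A.left = g)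
    (hgB : topologicalKrullDim B.left = g) {l : List B.left.Modules}
    (hl : ∀ M ∈ l, PicF.IsInvertible M) (hlg : l.length = g) :
    @Inter.delta k _ A.left ⟨A.hom⟩ (l.map (Scheme.Modules.pullback f.left).obj)
        (Coh.structureModule A.left) =
      homDeg f * @Inter.delta k _ B.left ⟨B.hom⟩ l (Coh.structureModule B.left) := by
  have := Groth.Abvar.isIntegral_left A
  have := Groth.Abvar.isIntegral_left B
  let : A.left.Over (Spec (CommRingCat.of k)) := ⟨A.hom⟩
  let : B.left.Over (Spec (CommRingCat.of k)) := ⟨B.hom⟩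
  have : IsProper (A.left ↘ Spec (CommRingCat.of k)) := ‹IsProper A.hom›
  have : IsProper (B.left ↘ Spec (CommRingCat.of k)) := ‹IsProper B.hom›
  have : IsNoetherian B.left := Inter.isNoetherian k
  have : IsProper (f.left ≫ B.hom) := by rw [Over.w]; infer_instance
  have : IsProper f.left := IsProper.of_comp f.left B.hom
  have hOc : Coh.IsCoh (Coh.structureModule A.left) :=
    Inter.isCoh_of_isInvertible (EulerDeg.isInvertible_structureModule _)
  have hOd : topologicalKrullDim (CohB1.support (Coh.structureModule A.left)) ≤ (l.length : ℕ) := by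
    rw [hlg, ← hgA]
    exact Topology.IsInducing.subtypeVal.topologicalKrullDim_le
  rw [Inter.delta_pullback_eq k f.left (Over.w f) hl hOc hOd]
  by_cases hf : IsFinite f.left
  · obtain ⟨h2, h3⟩ := flat_surjective_of_isFinite f (hgA.trans hgB.symm)
    have : LocallyOfFinitePresentation f.left := Groth.AlgGrp1.lfp_left f
    have hE := Pi1FEt.isFinLocFreeOfRank_of_finrank f.left (homDeg f)
      (fun b => finrank_eq_homDeg f (hgA.trans hgB.symm) b)
    have hO : FlatMod.IsFinLocFreeOfRank 1 (Coh.structureModule B.left) :=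
      LocFree.isInvertible_iff_ofRank_one.1 (PicLoc.isInvertible_structureModule B.left)
    have hOB : Coh.IsCoh (Coh.structureModule B.left) := QCohMod.isCoh_unit
    have e1 := delta_eq_rank_mul k hgB hl hlg (Cycles.isCoh_push_of_isFinite f.left hOc) hE
      (homDeg_pos f (hgA.trans hgB.symm))
    have e2 := delta_eq_rank_mul k hgB hl hlg hOB hO one_pos
    rw [Nat.cast_one, _root_.one_mul] at e2
    rw [e2]
    exact e1
  · rw [homDeg_of_not_isFinite f hf, Nat.cast_zero, zero_mul]
    refine Inter.delta_eq_zero k l hl _ (Inter.isCoh_push_proper f.left hOc) ?_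
    have hns : ¬ Surjective f.left := fun h => hf (by
      have := Groth.Abvar.Hom.flat_of_surjective f
      exact Groth.Abvar.Hom.isFinite_of_flat f (hgA.trans hgB.symm))
    have hη : genericPoint B.left ∉ Set.range f.left := fun h => hns ⟨Set.range_eq_univ.1 (by
      refine Set.eq_univ_of_univ_subset ?_
      rw [← (genericPoint_spec B.left).def]
      exact closure_minimal (Set.singleton_subset_iff.2 h) f.left.isClosedMap.isClosed_range)⟩
    have hcl : IsClosed (CohB1.support ((Coh.push f.left).obj (Coh.structureModule A.left))) :=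
      CohTwo.isClosed_support _ (Inter.isCoh_push_proper f.left hOc)
    rw [Variety2.Dim.dim_closed hcl, hlg]
    rw [Variety2.Dim.dim_eq_height_genericPoint] at hgB
    have hηg : Order.height (genericPoint B.left) = g := by exact_mod_cast hgB
    rcases Nat.eq_zero_or_pos g with h0 | h0
    · refine absurd ?_ hη
      have hcl : IsClosed ({genericPoint B.left} : Set B.left) :=
        (Variety2.Dim.height_eq_zero_iff _).1 (by rw [hηg, h0]; rfl)
      exact ⟨genericPoint A.left,
        (genericPoint_specializes (f.left (genericPoint A.left))).mem_closed hcl rfl⟩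
    obtain ⟨n, rfl⟩ := Nat.exists_eq_add_of_le' h0
    refine lt_of_le_of_lt (iSup₂_le fun y hy => ?_) (b := ((n : ℕ∞) : WithBot ℕ∞))
      (by exact_mod_cast Nat.lt_succ_self n)
    have hlt : Order.height y < Order.height (genericPoint B.left) := by
      refine Order.height_strictMono (lt_of_le_not_ge (genericPoint_specializes y) fun h => hη ?_)
        (lt_of_le_of_lt (Order.height_mono (genericPoint_specializes y)) (by
          rw [hηg]; exact ENat.natCast_lt_top _))
      obtain ⟨x, -, rfl⟩ := Inter.support_push_subset' f.left _ (CohTwo.isClosed_support _ hOc) hy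
      exact (Scheme.le_iff_specializes.1 h).mem_closed f.left.isClosedMap.isClosed_range ⟨x, rfl⟩
    rw [hηg, Nat.cast_add, Nat.cast_one] at hlt
    exact WithBot.coe_le_coe.2 (ENat.lt_add_one_iff (ENat.natCast_ne_top n) |>.1 hlt)

/-- A positive top self-intersection number. -/
theorem exists_ample_pos (B : Over (Spec (CommRingCat.of k))) [GrpObj B] [IsProper B.hom]
    [GeometricallyIntegral B.hom] {g : ℕ} (hg : topologicalKrullDim B.left = g) :
    ∃ M : B.left.Modules, ∃ hM : PicF.IsInvertible M, opull (𝟙 B)⁻¹ (cls hM) = cls hM ∧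
      0 < @Inter.delta k _ B.left ⟨B.hom⟩ (List.replicate g M) (Coh.structureModule B.left) := by
  let : B.left.Over (Spec (CommRingCat.of k)) := ⟨B.hom⟩
  have : IsProper (B.left ↘ Spec (CommRingCat.of k)) := ‹IsProper B.hom›
  have := Groth.Abvar.isIntegral_left B
  obtain ⟨L, hL, ⟨eL⟩⟩ := exists_symmetric_isAmple (A := B)
  obtain ⟨M, hM, hLM⟩ := PicAux.exists_isInverseOf hL.1
  refine ⟨M, hM, ?_, ?_⟩
  · have e1 : opull (𝟙 B)⁻¹ (cls hL.1) = cls hL.1 := by
      rw [pull_cls _ hL.1, ← nonempty_iso_iff]; exact ⟨eL.symm⟩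
    have e2 : cls hL.1 * cls hM = 1 := by
      rw [← cls_tensorMod hL.1 hM, ← nonempty_iso_structure_iff]; exact hLM
    rw [eq_inv_of_mul_eq_one_right e2, map_inv, e1]
  · have : IsLocallyNoetherian B.left := LocallyOfFiniteType.isLocallyNoetherian B.hom
    have hOc : Coh.IsCoh (Coh.structureModule B.left) := QCohMod.isCoh_unit
    have hO : FlatMod.IsFinLocFreeOfRank 1 (Coh.structureModule B.left) :=
      LocFree.isInvertible_iff_ofRank_one.1 (PicLoc.isInvertible_structureModule B.left)
    rw [delta_eq_rank_mul k hg (fun N hN => (List.eq_of_mem_replicate hN) ▸ hM) List.length_replicate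
      hOc hO one_pos, Nat.cast_one, _root_.one_mul]
    exact Inter.delta_pos_of_isAmple k hL hLM (genericPoint B.left) g (by
      rw [(genericPoint_spec B.left).def, ← hg]
      exact IsHomeomorph.topologicalKrullDim_eq _ (Homeomorph.Set.univ B.left).isHomeomorph)

/-- **The degree is multiplicative.** -/
theorem homDeg_comp (f : A ⟶ B) (f' : B ⟶ C) [IsMonHom f] [IsMonHom f'] {g : ℕ}
    (hgA : topologicalKrullDim A.left = g) (hgB : topologicalKrullDim B.left = g)
    (hgC : topologicalKrullDim C.left = g) : homDeg (f ≫ f') = homDeg f * homDeg f' := by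
  obtain ⟨M, hM, -, hpos⟩ := exists_ample_pos C hgC
  have hl : ∀ N ∈ List.replicate g M, PicF.IsInvertible N := fun N hN =>
    (List.eq_of_mem_replicate hN) ▸ hM
  have h1 := delta_map_pullback (f ≫ f') hgA hgC hl List.length_replicate
  have h2 := delta_map_pullback f hgA hgB (l := (List.replicate g M).map
    (Scheme.Modules.pullback f'.left).obj) (fun N hN => by
      obtain ⟨N', hN', rfl⟩ := List.mem_map.1 hN
      exact PicLoc.isInvertible_pullback _ (hl N' hN')) (by simp)
  rw [delta_map_pullback f' hgB hgC hl List.length_replicate] at h2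
  have h3 : @Inter.delta k _ A.left ⟨A.hom⟩ ((List.replicate g M).map
      (Scheme.Modules.pullback (f ≫ f').left).obj) (Coh.structureModule A.left) =
      @Inter.delta k _ A.left ⟨A.hom⟩ (((List.replicate g M).map
        (Scheme.Modules.pullback f'.left).obj).map (Scheme.Modules.pullback f.left).obj)
        (Coh.structureModule A.left) := by
    let : A.left.Over (Spec (CommRingCat.of k)) := ⟨A.hom⟩
    refine Inter.delta_congr_list k ?_ _
    rw [List.map_map, List.forall₂_map_left_iff, List.forall₂_map_right_iff]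
    exact List.forall₂_same.2 fun N _ =>
      ⟨((Scheme.Modules.pullbackComp f.left f'.left).app N).symm⟩
  rw [h3, h2, ← _root_.mul_assoc] at h1
  exact_mod_cast (mul_right_cancel₀ hpos.ne' h1).symm

theorem homDeg_id {g : ℕ} (hg : topologicalKrullDim A.left = g) : homDeg (𝟙 A) = 1 := by
  have h := homDeg_comp (𝟙 A) (𝟙 A) hg hg hg
  rw [Category.id_comp] at h
  have : IsFinite (𝟙 A : A ⟶ A).left := by rw [Over.id_left]; infer_instance
  exact Nat.eq_of_mul_eq_mul_left (homDeg_pos (𝟙 A) rfl) (h.symm.trans (_root_.mul_one _).symm)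

section Poly

variable {X : Scheme.{u}} [X.Over (Spec (CommRingCat.of k))]
  [IsProper (X ↘ Spec (CommRingCat.of k))]

/-- Self-intersections of a quadratic family of classes are forms. -/
theorem exists_form_delta {σ S : Type*} [Fintype S] (c : S → Additive (PicLoc.PicSet X))
    (q : S → MvPolynomial σ ℤ) (hq : ∀ s, (q s).IsHomogeneous 2) {F : X.Modules} (hF : Coh.IsCoh F)
    {g : ℕ} (hd : topologicalKrullDim (CohB1.support F) ≤ (g : ℕ)) :
    ∀ (j : ℕ) (l : List X.Modules), (∀ M ∈ l, PicF.IsInvertible M) → j + l.length = g →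
      ∃ P : MvPolynomial σ ℤ, P.IsHomogeneous (2 * j) ∧ ∀ (a : σ → ℤ) (N : X.Modules)
        (hN : PicF.IsInvertible N),
        Additive.ofMul (cls hN) = ∑ s, MvPolynomial.eval a (q s) • c s →
          Inter.delta k (List.replicate j N ++ l) F = MvPolynomial.eval a P := by
  intro j
  induction j with
  | zero =>
    intro l _ _
    refine ⟨MvPolynomial.C (Inter.delta k l F), MvPolynomial.isHomogeneous_C _ _, fun a N hN _ => ?_⟩
    simp
  | succ j ih =>
    intro l hl hlen
    choose R hR hRc using fun s => PicGrp.exists_eq_cls (c s).toMul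
    choose P hP hPe using fun s => ih (R s :: l) (fun M hM => by
      rcases List.mem_cons.1 hM with rfl | h
      · exact hR s
      · exact hl M h) (by simp only [List.length_cons]; omega)
    refine ⟨∑ s, q s * P s, MvPolynomial.IsHomogeneous.sum _ _ _ fun s _ => by
      have := (hq s).mul (hP s)
      rwa [show 2 + 2 * j = 2 * (j + 1) by ring] at this, fun a N hN hNc => ?_⟩
    have hl' : ∀ M ∈ List.replicate j N ++ l, PicF.IsInvertible M := fun M hM => by
      rcases List.mem_append.1 hM with h | h
      · exact (List.eq_of_mem_replicate h) ▸ hN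
      · exact hl M h
    have hlen' : (List.replicate j N ++ l).length + 1 = g := by
      simp only [List.length_append, List.length_replicate]; omega
    obtain ⟨d, hd'⟩ := exists_pairing (k := k) hl' hF (by rw [hlen']; exact hd)
    rw [List.replicate_succ, List.cons_append, ← hd' N hN, hNc, map_sum]
    simp only [map_sum, map_mul, map_zsmul, smul_eq_mul]
    refine Finset.sum_congr rfl fun s _ => ?_
    congr 1
    rw [← hPe s a N hN hNc, show c s = Additive.ofMul (cls (hR s)) from hRc s, hd',
      Inter.delta_perm k (List.perm_middle (a := R s) (l₁ := List.replicate j N) (l₂ := l)).symm]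

end Poly

variable [IsCommMonObj A] [IsCommMonObj B]

/-- **The degree is a form of degree `2 g`.** -/
theorem exists_degree_form {g : ℕ} (hgA : topologicalKrullDim A.left = g)
    (hgB : topologicalKrullDim B.left = g) {m : ℕ} (φ : Fin m → EndAV.Hom A B) :
    ∃ P : MvPolynomial (Fin m) ℚ, P.IsHomogeneous (2 * g) ∧ ∀ a : Fin m → ℤ,
      MvPolynomial.eval (fun i => (a i : ℚ)) P = homDeg (∑ i, a i • φ i).toHom := by
  let : A.left.Over (Spec (CommRingCat.of k)) := ⟨A.hom⟩
  have : IsProper (A.left ↘ Spec (CommRingCat.of k)) := ‹IsProper A.hom›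
  have : IsLocallyNoetherian A.left := LocallyOfFiniteType.isLocallyNoetherian A.hom
  have := Groth.Abvar.isIntegral_left A
  obtain ⟨M, hM, hsym, hpos⟩ := exists_ample_pos B hgB
  obtain ⟨D, hD⟩ : ∃ D : ℤ,
      D = @Inter.delta k _ B.left ⟨B.hom⟩ (List.replicate g M) (Coh.structureModule B.left) := ⟨_, rfl⟩
  rw [← hD] at hpos
  let Q : EndAV.Hom A B → Additive (PicLoc.PicSet A.left) :=
    fun v => Additive.ofMul (opull v.toHom (cls hM))
  have hcube : ∀ u v w, Q (u + v + w) + Q u + Q v + Q w = Q (u + v) + Q (u + w) + Q (v + w) :=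
    fun u v w => congrArg Additive.ofMul
      (Groth.Abvar.Cube.opull_cube (cls hM) u.toHom v.toHom w.toHom)
  let b : EndAV.Hom A B →+ EndAV.Hom A B →+ Additive (PicLoc.PicSet A.left) :=
    AddMonoidHom.mk' (fun u => AddMonoidHom.mk' (fun v => Q (u + v) - Q u - Q v) fun v w => by
      have := eq_sub_of_add_eq (eq_sub_of_add_eq (eq_sub_of_add_eq (hcube u v w)))
      rw [← add_assoc u v w, this, show Q (v + w) = Q (v + w) from rfl]
      abel) fun u w => by
      refine AddMonoidHom.ext fun v => ?_
      simp only [AddMonoidHom.mk'_apply, AddMonoidHom.add_apply]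
      have := eq_sub_of_add_eq (eq_sub_of_add_eq (eq_sub_of_add_eq (hcube u w v)))
      rw [this]
      abel
  have hb : ∀ v, b v v = Q v + Q v := fun v => by
    have hneg : Q (-v) = Q v := by
      show Additive.ofMul (opull v.toHom⁻¹ (cls hM)) = _
      rw [show v.toHom⁻¹ = v.toHom ≫ (𝟙 B)⁻¹ by rw [GrpObj.comp_inv, Category.comp_id], opull_comp,
        hsym]
    have hzero : Q 0 = 0 := congrArg Additive.ofMul (opull_one (cls hM))
    have h1 : b v (-v) = Q (v + -v) - Q v - Q (-v) := rfl
    rw [add_neg_cancel, hzero, hneg, map_neg] at h1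
    rw [← neg_neg (b v v), h1]
    abel
  classical
  obtain ⟨P, hP, hPe⟩ := exists_form_delta (k := k) (X := A.left)
    (c := fun s : Fin m × Fin m => b (φ s.1) (φ s.2))
    (q := fun s => MvPolynomial.X s.1 * MvPolynomial.X s.2)
    (fun s => (MvPolynomial.isHomogeneous_X _ _).mul (MvPolynomial.isHomogeneous_X _ _))
    (F := Coh.structureModule A.left) QCohMod.isCoh_unit (g := g)
    ((Topology.IsInducing.subtypeVal.topologicalKrullDim_le).trans hgA.le) g [] (by simp) (by simp)
  refine ⟨MvPolynomial.C ((2 ^ g * (D : ℚ))⁻¹) * MvPolynomial.map (Int.castRingHom ℚ) P,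
    (zero_add (2 * g)) ▸ (MvPolynomial.isHomogeneous_C _ _).mul (hP.map (Int.castRingHom ℚ)), fun a => ?_⟩
  set v := ∑ i, a i • φ i with hv
  have hMf := PicLoc.isInvertible_pullback v.toHom.left hM
  have hcls : Additive.ofMul (cls (isInvertible_tensorPow hMf 2)) =
      ∑ s : Fin m × Fin m, MvPolynomial.eval a (MvPolynomial.X s.1 * MvPolynomial.X s.2) •
        b (φ s.1) (φ s.2) := by
    have h2 : Additive.ofMul (cls (isInvertible_tensorPow hMf 2)) = Q v + Q v := by
      rw [cls_tensorPow hMf, pow_two, ← pull_cls _ hM]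
      rfl
    rw [h2, ← hb, hv, Fintype.sum_prod_type]
    simp only [map_sum, map_zsmul, AddMonoidHom.finsetSum_apply, AddMonoidHom.smul_apply,
      Finset.smul_sum, smul_smul, map_mul, MvPolynomial.eval_X]
    exact (Finset.sum_congr rfl fun i _ => Finset.sum_congr rfl fun j _ => by rw [mul_comm]).trans
      Finset.sum_comm
  have h := hPe a _ (isInvertible_tensorPow hMf 2) hcls
  rw [List.append_nil] at h
  have h2 := delta_replicate_pow k hMf (isInvertible_tensorPow hMf 2) (m := 2) ⟨Iso.refl _⟩
    (F := Coh.structureModule A.left) QCohMod.isCoh_unit g 0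
    ((Topology.IsInducing.subtypeVal.topologicalKrullDim_le).trans
      (hgA.le.trans (by rw [Nat.add_zero])))
  rw [List.replicate_zero, List.append_nil, Nat.add_zero, h] at h2
  have h3 := delta_map_pullback v.toHom hgA hgB (l := List.replicate g M)
    (fun N hN => (List.eq_of_mem_replicate hN) ▸ hM) List.length_replicate
  rw [List.map_replicate] at h3
  rw [h3] at h2
  have hev : MvPolynomial.eval (fun i => (a i : ℚ)) (MvPolynomial.map (Int.castRingHom ℚ) P) =
      ((MvPolynomial.eval a P : ℤ) : ℚ) := (MvPolynomial.map_eval (Int.castRingHom ℚ) a P).symm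
  rw [map_mul, MvPolynomial.eval_C, hev, h2]
  have hD0 : (D : ℚ) ≠ 0 := by exact_mod_cast hpos.ne'
  push_cast
  rw [← hD]
  field_simp

end Groth.AbVarMul

namespace Groth.AbVarMul

/-- Dehomogenising a form which is `1` at `(0, 1)`. -/
theorem monic_dehomogenise {R : Type*} [CommRing R] [Nontrivial R] {P : MvPolynomial (Fin 2) R}
    {d : ℕ} (hP : P.IsHomogeneous d) (h1 : MvPolynomial.eval ![0, 1] P = 1) :
    (MvPolynomial.aeval ![(1 : Polynomial R), Polynomial.X] P).Monic ∧
      (MvPolynomial.aeval ![(1 : Polynomial R), Polynomial.X] P).natDegree = d := by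
  set Q : Polynomial R := MvPolynomial.aeval ![1, Polynomial.X] P with hQ
  have hsum : Q = ∑ e ∈ P.support, Polynomial.C (P.coeff e) * Polynomial.X ^ e 1 := by
    rw [hQ, MvPolynomial.aeval_def, MvPolynomial.eval₂_eq']
    exact Finset.sum_congr rfl fun e _ => by simp [Fin.prod_univ_two]
  have hle : Q.natDegree ≤ d := by
    rw [hsum]
    refine Polynomial.natDegree_sum_le_of_forall_le _ _ fun e he => ?_
    refine (Polynomial.natDegree_C_mul_X_pow_le _ _).trans ?_
    have := hP (MvPolynomial.mem_support_iff.1 he)
    rw [← this, Finsupp.weight_apply, Finsupp.sum_fintype _ _ (by simp), Fin.sum_univ_two]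
    simp
  have hcoeff : Q.coeff d = 1 := by
    rw [← h1, hsum, Polynomial.finsetSum_coeff, MvPolynomial.eval_eq']
    refine Finset.sum_congr rfl fun e he => ?_
    have hd := hP (MvPolynomial.mem_support_iff.1 he)
    rw [Finsupp.weight_apply, Finsupp.sum_fintype _ _ (by simp), Fin.sum_univ_two] at hd
    simp only [Pi.one_apply, smul_eq_mul, _root_.mul_one] at hd
    rw [Polynomial.coeff_C_mul_X_pow, Fin.prod_univ_two]
    by_cases h0 : e 0 = 0
    · rw [if_pos (by omega), h0]; simp
    · rw [if_neg (by omega)]; simp [zero_pow h0]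
  refine ⟨Polynomial.monic_of_natDegree_le_of_coeff_eq_one d hle hcoeff,
    le_antisymm hle (Polynomial.le_natDegree_of_ne_zero (hcoeff ▸ one_ne_zero))⟩

end Groth.AbVarMul
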