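import Groth.Agent.AbVarMul.DegCharpolyBC

/-!
# Tools around the degree polynomial
-/

universe u

open CategoryTheory MonoidalCategory CartesianMonoidalCategory MonObj GrpObj AlgebraicGeometry
open Polynomial
open AbDual
open CategoryTheory.Limits (pullback)

namespace Groth.AbVarMul

variable {k : Type u} [Field k] {A : Over (Spec (CommRingCat.of k))} [GrpObj A]
  [IsProper A.hom] [GeometricallyIntegral A.hom]

/-- A number specified as rank or zero is the degree. -/
theorem eq_homDeg_of_spec {R : Type*} [AddGroupWithOne R] (f : A ⟶ A) [IsMonHom f] (c : R)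
    (h1 : IsFinite f.left → ∀ a : A.left, (f.left.finrank a : R) = c)
    (h2 : ¬ IsFinite f.left → c = 0) : c = (homDeg f : R) := by
  by_cases hf : IsFinite f.left
  · rw [← h1 hf (η[A].left.base (IsLocalRing.closedPoint k)), finrank_eq_homDeg f rfl]
  · rw [h2 hf, homDeg_of_not_isFinite f hf, Nat.cast_zero]

theorem spec_homDeg {R : Type*} [AddGroupWithOne R] (f : A ⟶ A) [IsMonHom f] :
    (IsFinite f.left → ∀ a : A.left, (f.left.finrank a : R) = (homDeg f : R)) ∧
      (¬ IsFinite f.left → (homDeg f : R) = 0) :=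
  ⟨fun _ a => by rw [finrank_eq_homDeg f rfl a],
    fun h => by rw [homDeg_of_not_isFinite f h, Nat.cast_zero]⟩

variable [IsCommMonObj A]

theorem sub_intCast_toHom (α : A ⟶ A) [IsMonHom α] (n : ℤ) :
    (EndAV.End.of α - (n : EndAV.End A)).toHom = α * 𝟙 A ^ (-n) := by
  rw [EndAV.End.toHom_sub, EndAV.End.toHom_intCast, EndAV.End.toHom_of, div_eq_mul_inv, zpow_neg]

/-- A degree polynomial given with ranks. -/
theorem eval_eq_homDeg_of_spec {R : Type*} [CommRing R] (α : A ⟶ A) [IsMonHom α] (P : R[X])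
    (hP : ∀ n : ℤ, (IsFinite (α * 𝟙 A ^ (-n)).left →
        ∀ a : A.left, (Scheme.Hom.finrank (α * 𝟙 A ^ (-n)).left a : R) = P.eval (n : R)) ∧
      (¬ IsFinite (α * 𝟙 A ^ (-n)).left → P.eval (n : R) = 0)) (n : ℤ) :
    P.eval (n : R) = (homDeg (EndAV.End.of α - (n : EndAV.End A)).toHom : R) := by
  refine eq_homDeg_of_spec _ _ ?_ ?_
  · rw [sub_intCast_toHom]; exact (hP n).1
  · rw [sub_intCast_toHom]; exact (hP n).2

/-- A polynomial with the values of the degree polynomial is its image. -/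
theorem eq_map_degPoly {R : Type*} [CommRing R] [IsDomain R] [CharZero R] (α : EndAV.End A)
    {P : ℤ[X]} (hP : ∀ n : ℤ, P.eval n = homDeg (α - (n : EndAV.End A)).toHom) {Q : R[X]}
    (hQ : ∀ n : ℤ, Q.eval (n : R) = (homDeg (α - (n : EndAV.End A)).toHom : R)) :
    Q = P.map (Int.castRingHom R) :=
  eq_of_eval_int fun n => by
    rw [hQ, eval_intCast_map, Int.cast_id, hP, eq_intCast, Int.cast_natCast]

/-- The degree polynomial over an algebraically closed field, on the Tate module of rational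
points. -/
theorem charpoly_tateMap_algClosed [IsAlgClosed k] {l : ℕ} [Fact l.Prime] (hl : (l : k) ≠ 0)
    (α : EndAV.End A) (P : ℤ[X]) (hP : ∀ n : ℤ, P.eval n = homDeg (α - (n : EndAV.End A)).toHom)
    [Module.Free ℤ_[l] (TateMod A l (Over.mk (𝟙 (Spec (CommRingCat.of k)))))]
    [Module.Finite ℤ_[l] (TateMod A l (Over.mk (𝟙 (Spec (CommRingCat.of k)))))] :
    (tateMapₗ (l := l) (T := Over.mk (𝟙 (Spec (CommRingCat.of k)))) α.toHom).charpoly =
      P.map (Int.castRingHom ℤ_[l]) := by
  obtain ⟨g, hg⟩ := Groth.FibreDim.exists_dim_eq_nat A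
  obtain ⟨b⟩ := nonempty_tateMod_basis (A := A) hg hl
  obtain ⟨P', -, -, h3, h4⟩ := exists_charpoly hg hl b α
  obtain rfl : P = P' := eq_of_eval_int fun n => by rw [Int.cast_id, hP, h3]
  have : Module.Free ℤ_[l] (TateMod A l (𝟙_ (Over (Spec (CommRingCat.of k))))) :=
    Module.Free.of_basis b
  have : Module.Finite ℤ_[l] (TateMod A l (𝟙_ (Over (Spec (CommRingCat.of k))))) :=
    Module.Finite.of_basis b
  exact (LinearMap.charpoly_toMatrix _ b).symm.trans h4

/-- The Tate representation on points in an algebraically closed extension is faithful. -/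
theorem tateRep_injective_bc (K : Type u) [Field K] [Algebra k K] [IsAlgClosed K] {l : ℕ}
    [Fact l.Prime] (hl : (l : k) ≠ 0) :
    Function.Injective (EndAV.End.tateRep (A := A) l (SGA7.pt (K := k) K)) := by
  rw [injective_iff_map_eq_zero]
  intro φ hφ
  by_contra h
  have : Module.IsTorsionFree ℤ (EndAV.End A) := isTorsionFree_hom (A := A) (B := A)
  have hli : LinearIndependent ℤ (fun _ : Fin 1 => (φ : EndAV.Hom A A)) :=
    LinearIndependent.of_subsingleton 0 h
  exact (linearIndependent_tateMap_bc K hl _ hli).ne_zero 0 hφ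

/-- An integral polynomial killing an endomorphism kills the roots of its degree polynomial. -/
theorem eval_root_degPoly_eq_zero (α : EndAV.End A) {P : ℤ[X]}
    (hP : ∀ n : ℤ, P.eval n = homDeg (α - (n : EndAV.End A)).toHom) {q : ℤ[X]}
    (hq : q.eval₂ (Int.castRingHom (EndAV.End A)) α = 0) {L : Type*} [Field L] [CharZero L]
    [IsAlgClosed L] {x : L} (hx : x ∈ (P.map (Int.castRingHom L)).roots) :
    q.eval₂ (Int.castRingHom L) x = 0 := by
  obtain ⟨l, hlp, hl⟩ := exists_prime_ne_zero k
  have := Fact.mk hlp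
  let Ω := AlgebraicClosure k
  obtain ⟨g, hg⟩ := Groth.FibreDim.exists_dim_eq_nat A
  have hgK : topologicalKrullDim ((bcF Ω).obj A).left = g :=
    (dim_bcF Ω A).trans hg
  obtain ⟨e⟩ := nonempty_tateMod_bc (K := Ω) (A := A) hgK (natCast_ne_zero_bc Ω hl) (l := l)
  have := Module.Free.of_equiv e
  have := Module.Finite.equiv e
  set τ := EndAV.End.tateRep (A := A) l (SGA7.pt (K := k) Ω) with hτ
  have hc : (τ α).charpoly = P.map (Int.castRingHom ℤ_[l]) := charpoly_tateMap Ω hl α P hP
  have hq' : q.eval₂ (Int.castRingHom _) (τ α) = 0 := by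
    have h := congrArg τ hq
    rwa [hom_eval₂, map_zero, RingHom.ext_int (τ.comp _) (Int.castRingHom _)] at h
  -- move to the algebraic closure of the rationals
  have : Algebra.IsAlgebraic ℚ (AlgebraicClosure ℚ) :=
    AlgebraicClosure.isAlgebraic ℚ
  let i₁ : (AlgebraicClosure ℚ) →ₐ[ℚ] PadicAlgCl l := IsAlgClosed.lift
  let i₂ : (AlgebraicClosure ℚ) →ₐ[ℚ] L := IsAlgClosed.lift
  have hPm : ∀ {F : Type} [Field F] (i : (AlgebraicClosure ℚ) →+* F),
      (P.map (Int.castRingHom (AlgebraicClosure ℚ))).roots.map i = (P.map (Int.castRingHom F)).roots := by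
    intro F _ i
    rw [← (IsAlgClosed.splits (P.map (Int.castRingHom (AlgebraicClosure ℚ)))).roots_map_of_injective i.injective,
      Polynomial.map_map, RingHom.ext_int (i.comp _) (Int.castRingHom F)]
  have hPmL : (P.map (Int.castRingHom (AlgebraicClosure ℚ))).roots.map i₂.toRingHom =
      (P.map (Int.castRingHom L)).roots := by
    rw [← (IsAlgClosed.splits (P.map (Int.castRingHom (AlgebraicClosure ℚ)))).roots_map_of_injective
        i₂.toRingHom.injective, Polynomial.map_map,
      RingHom.ext_int (i₂.toRingHom.comp _) (Int.castRingHom L)]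
  rw [← hPmL, Multiset.mem_map] at hx
  obtain ⟨y, hy, rfl⟩ := hx
  have h1 : q.eval₂ (Int.castRingHom (PadicAlgCl l)) (i₁.toRingHom y) = 0 := by
    refine eval_charpoly_root_eq_zero ((algebraMap ℚ_[l] (PadicAlgCl l)).comp
      (algebraMap ℤ_[l] ℚ_[l])) (τ α) hq' ?_
    rw [hc, Polynomial.map_map, RingHom.ext_int (RingHom.comp _ (Int.castRingHom ℤ_[l]))
      (Int.castRingHom (PadicAlgCl l)), ← hPm i₁.toRingHom]
    exact Multiset.mem_map_of_mem _ hy
  have h2 : q.eval₂ (Int.castRingHom (AlgebraicClosure ℚ)) y = 0 := by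
    refine i₁.toRingHom.injective ?_
    rw [map_zero, hom_eval₂, RingHom.ext_int (i₁.toRingHom.comp _) (Int.castRingHom (PadicAlgCl l))]
    exact h1
  rw [RingHom.ext_int (Int.castRingHom L) (i₂.toRingHom.comp (Int.castRingHom (AlgebraicClosure ℚ))), ← hom_eval₂,
    h2, map_zero]

end Groth.AbVarMul
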