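import Groth.Agent.AbVarMul.TateModule
import Mathlib.GroupTheory.Torsion

/-!
# The cokernel of the map of Tate modules of an isogeny
-/

universe u

open CategoryTheory Limits MonoidalCategory CartesianMonoidalCategory MonObj GrpObj AlgebraicGeometry
open AbDual

namespace Groth.AbVarMul

variable {S : Scheme.{u}} {A B T : Over S} [GrpObj A] [IsCommMonObj A] [GrpObj B] [IsCommMonObj B]
  {l : ℕ}

theorem toMul_component_pow (x : TateMod A l T) (n : ℕ) :
    ((x : ℕ → Additive (T ⟶ A)) n).toMul ^ l ^ n = 1 :=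
  congrArg Additive.toMul (x.torsion n)

variable [Fact l.Prime]

/-- An element of the Tate module with components in a finite subgroup vanishes. -/
theorem tateMod_eq_zero_of_components_mem (G : Subgroup (T ⟶ A)) [Finite G] (x : TateMod A l T)
    (hx : ∀ n, ((x : ℕ → Additive (T ⟶ A)) n).toMul ∈ G) : x = 0 := by
  refine TateMod.ext fun n => ?_
  have hl := (Fact.out : l.Prime)
  obtain ⟨i, hi, hgcd⟩ :=
    (Nat.dvd_prime_pow hl).1 (Nat.gcd_dvd_right (Nat.card G) (l ^ (n + Nat.card G)))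
  have hic : i < Nat.card G := (Nat.lt_pow_self hl.one_lt).trans_le
    (hgcd ▸ Nat.le_of_dvd Nat.card_pos (Nat.gcd_dvd_left _ _))
  rw [← nsmul_component_add x n (Nat.card G), show l ^ Nat.card G = l ^ (Nat.card G - i) * l ^ i by
    rw [← pow_add, Nat.sub_add_cancel hic.le], mul_nsmul', ← hgcd,
    addOrderOf_dvd_iff_nsmul_eq_zero.1 (Nat.dvd_gcd (addOrderOf_dvd_iff_nsmul_eq_zero.2 ?_)
      (addOrderOf_dvd_iff_nsmul_eq_zero.2 (x.torsion _))), nsmul_zero]
  · rfl
  · refine congrArg Additive.ofMul (?_ : ((x : ℕ → Additive (T ⟶ A)) _).toMul ^ Nat.card G = 1)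
    exact congrArg Subtype.val (pow_card_eq_one' (x := (⟨_, hx _⟩ : G)))

/-- A homomorphism with finite kernel on points is injective on Tate modules. -/
theorem tateMapₗ_injective_of_finite (f : A ⟶ B) [IsMonHom f]
    (hfin : {x : T ⟶ A | x ≫ f = 1}.Finite) :
    Function.Injective (tateMapₗ (l := l) (T := T) f) := by
  let G : Subgroup (T ⟶ A) :=
    { carrier := {x | x ≫ f = 1}
      one_mem' := MonObj.one_comp f
      mul_mem' := fun {a b} ha hb => by
        show (a * b) ≫ f = 1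
        rw [MonObj.mul_comp, ha, hb, _root_.one_mul]
      inv_mem' := fun {a} ha => by
        show a⁻¹ ≫ f = 1
        rw [GrpObj.inv_comp, ha, inv_one] }
  have : Finite G := hfin.to_subtype
  refine (injective_iff_map_eq_zero _).2 fun x hx => tateMod_eq_zero_of_components_mem G x fun n => ?_
  exact congrArg (fun y : TateMod B l T => ((y : ℕ → Additive (T ⟶ B)) n).toMul) hx

/-- The cokernel of the map of Tate modules induced by a homomorphism surjective on points with
finite kernel is the `l`-primary part of the kernel. -/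
theorem nonempty_tateMap_coker_equiv {N : Over S} [GrpObj N] [IsCommMonObj N] (i : N ⟶ A) [IsMonHom i]
    (f : A ⟶ B) [IsMonHom f] (hi : Function.Injective fun z : T ⟶ N => z ≫ i)
    (hker : ∀ x : T ⟶ A, (∃ z : T ⟶ N, z ≫ i = x) ↔ x ≫ f = 1)
    (hsurj : ∀ y : T ⟶ B, ∃ x : T ⟶ A, x ≫ f = y)
    (hdiv : ∀ a : T ⟶ A, ∃ b : T ⟶ A, b ^ l = a) [Finite (T ⟶ N)] :
    Nonempty ((TateMod B l T ⧸ LinearMap.range (tateMapₗ (l := l) (T := T) f)) ≃+
      Additive ↥(CommGroup.primaryComponent (T ⟶ N) l)) := by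
  have hl := (Fact.out : l.Prime)
  set R := LinearMap.range (tateMapₗ (l := l) (T := T) f)
  set P := CommGroup.primaryComponent (T ⟶ N) l
  -- a uniform exponent
  let E := Nat.card (T ⟶ N)
  have hP : ∀ z ∈ P, z ^ l ^ E = 1 := fun z hz => by
    obtain ⟨j, hj⟩ := CommGroup.mem_primaryComponent.1 hz
    obtain ⟨i, -, hi'⟩ := (Nat.dvd_prime_pow hl).1 (orderOf_dvd_of_pow_eq_one hj)
    have h1 : l ^ i ≤ E := hi' ▸ Nat.le_of_dvd Nat.card_pos (orderOf_dvd_natCard z)
    rw [← orderOf_dvd_iff_pow_eq_one, hi']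
    exact pow_dvd_pow l ((Nat.lt_pow_self hl.one_lt).le.trans h1)
  -- towers over the points of the kernel
  have htow : ∀ z : P, ∃ d : ℕ → (T ⟶ A), d 0 = z.1 ≫ i ∧ ∀ m, d (m + 1) ^ l = d m := by
    intro z
    choose r hr using hdiv
    exact ⟨fun m => r^[m] (z.1 ≫ i), rfl, fun m => by simp only [Function.iterate_succ_apply', hr]⟩
  have hpowd : ∀ (d : ℕ → (T ⟶ A)), (∀ m, d (m + 1) ^ l = d m) → ∀ m j, d (m + j) ^ l ^ j = d m := by
    intro d hd m j
    induction j with
    | zero => simp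
    | succ j ih => rw [← Nat.add_assoc, pow_succ', pow_mul, hd, ih]
  have hmk : ∀ (d : ℕ → (T ⟶ A)), d 0 ≫ f = 1 → (∀ m, d (m + 1) ^ l = d m) →
      ∃ y : TateMod B l T, ∀ m, (y : ℕ → Additive (T ⟶ B)) m = Additive.ofMul (d m ≫ f) := by
    intro d h0 hd
    refine ⟨⟨fun m => Additive.ofMul (d m ≫ f), fun m => ?_, fun m => ?_⟩, fun m => rfl⟩
    · refine congrArg Additive.ofMul (?_ : (d m ≫ f) ^ l ^ m = 1)
      have h := hpowd d hd 0 m
      rw [Nat.zero_add] at h
      rw [← MonObj.pow_comp, h, h0]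
    · refine congrArg Additive.ofMul (?_ : (d (m + 1) ≫ f) ^ l = d m ≫ f)
      rw [← MonObj.pow_comp, hd]
  choose d hd0 hd using htow
  have hd0f : ∀ z : P, d z 0 ≫ f = 1 := fun z => by rw [hd0]; exact (hker _).1 ⟨_, rfl⟩
  choose y hy using fun z : P => hmk (d z) (hd0f z) (hd z)
  -- well definedness
  have hwd : ∀ (e : ℕ → (T ⟶ A)) (w : TateMod B l T), e 0 = 1 → (∀ m, e (m + 1) ^ l = e m) →
      (∀ m, (w : ℕ → Additive (T ⟶ B)) m = Additive.ofMul (e m ≫ f)) → w ∈ R := by
    intro e w h0 he hw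
    refine ⟨⟨fun m => Additive.ofMul (e m), fun m => congrArg Additive.ofMul
      (?_ : e m ^ l ^ m = 1), fun m => congrArg Additive.ofMul (he m)⟩, TateMod.ext fun m => (hw m).symm⟩
    rw [← h0, ← hpowd e he 0 m, Nat.zero_add]
  let ψ : Additive P →+ TateMod B l T ⧸ R := AddMonoidHom.mk'
    (fun z => Submodule.Quotient.mk (y z.toMul)) (fun z w => by
      rw [← Submodule.Quotient.mk_add, Submodule.Quotient.eq]
      refine hwd (fun m => d (z + w).toMul m / (d z.toMul m * d w.toMul m)) _ ?_ (fun m => ?_) fun m => ?_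
      · rw [hd0, hd0, hd0, ← MonObj.mul_comp, div_eq_one]
        rfl
      · rw [div_pow, mul_pow, hd, hd, hd]
      · show (y (z + w).toMul : ℕ → Additive (T ⟶ B)) m -
          ((y z.toMul : ℕ → Additive (T ⟶ B)) m + (y w.toMul : ℕ → Additive (T ⟶ B)) m) = _
        rw [hy, hy, hy, GrpObj.div_comp, MonObj.mul_comp]
        rfl)
  refine ⟨(AddEquiv.ofBijective ψ ⟨(injective_iff_map_eq_zero ψ).2 fun z hz => ?_, fun q => ?_⟩).symm⟩
  · obtain ⟨x, hx⟩ := (Submodule.Quotient.mk_eq_zero R).1 hz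
    let e : ℕ → (T ⟶ A) := fun m => d z.toMul m / ((x : ℕ → Additive (T ⟶ A)) m).toMul
    have he : ∀ m, e (m + 1) ^ l = e m := fun m => by
      show (d z.toMul (m + 1) / _) ^ l = _
      rw [div_pow, hd, show ((x : ℕ → Additive (T ⟶ A)) (m + 1)).toMul ^ l =
        ((x : ℕ → Additive (T ⟶ A)) m).toMul from congrArg Additive.toMul (x.compat m)]
    have hef : ∀ m, e m ≫ f = 1 := fun m => by
      rw [GrpObj.div_comp, div_eq_one]
      have := congrArg (fun w : TateMod B l T => ((w : ℕ → Additive (T ⟶ B)) m).toMul) hx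
      simp only [hy, toMul_ofMul] at this
      exact this.symm
    obtain ⟨w, hw⟩ := (hker _).2 (hef E)
    have h0 : ((x : ℕ → Additive (T ⟶ A)) 0).toMul = 1 := by
      have := toMul_component_pow x 0
      rwa [pow_zero, pow_one] at this
    have hwz : w ^ l ^ E = z.toMul.1 := hi (by
      show (w ^ l ^ E) ≫ i = z.toMul.1 ≫ i
      rw [MonObj.pow_comp, hw, ← hd0, ← div_one (d z.toMul 0), ← h0]
      have h := hpowd e he 0 E
      rwa [Nat.zero_add] at h)
    have hwP : w ∈ P := CommGroup.mem_primaryComponent.2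
      ⟨E + E, by rw [pow_add, pow_mul, hwz]; exact hP _ z.toMul.2⟩
    exact congrArg Additive.ofMul (Subtype.ext (hwz.symm.trans (hP w hwP)))
  · obtain ⟨q, rfl⟩ := Submodule.Quotient.mk_surjective R q
    -- lifts killed by powers of `l`
    have hlift : ∀ m, ∃ a : T ⟶ A, a ≫ f = ((q : ℕ → Additive (T ⟶ B)) m).toMul ∧ ∃ j, a ^ l ^ j = 1 := by
      intro m
      obtain ⟨a, ha⟩ := hsurj ((q : ℕ → Additive (T ⟶ B)) m).toMul
      have hy1 : (a ≫ f) ^ l ^ m = 1 := by rw [ha]; exact toMul_component_pow q m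
      obtain ⟨w, hw⟩ := (hker (a ^ l ^ m)).2 (by rw [MonObj.pow_comp, hy1])
      obtain ⟨v, c, hc, hE⟩ := Nat.exists_eq_pow_mul_and_not_dvd (Nat.card_pos (α := T ⟶ N)).ne' l hl.ne_one
      have hzero : a ^ (l ^ (m + v) * c) = 1 := by
        rw [pow_add, _root_.mul_assoc, pow_mul, ← hE, ← hw, ← MonObj.pow_comp, pow_card_eq_one',
          MonObj.one_comp]
      have hcop : Nat.gcd c (l ^ (m + v)) = 1 :=
        ((Nat.Prime.coprime_iff_not_dvd hl).2 hc).symm.pow_right _
      have hbez := Nat.gcd_eq_gcd_ab c (l ^ (m + v))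
      rw [hcop, Nat.cast_one] at hbez
      have hy2 : (a ≫ f) ^ l ^ (m + v) = 1 := by rw [pow_add, pow_mul, hy1, one_pow]
      refine ⟨a ^ ((c : ℤ) * Nat.gcdA c (l ^ (m + v))), ?_, m + v, ?_⟩
      · rw [GrpObj.zpow_comp, ← ha]
        conv_rhs => rw [← zpow_one (a ≫ f), hbez, zpow_add,
          zpow_mul (a := a ≫ f) (m := ((l ^ (m + v) : ℕ) : ℤ)), zpow_natCast (a ≫ f) (l ^ (m + v)), hy2,
          _root_.one_zpow, _root_.mul_one]
      · rw [← zpow_natCast, ← zpow_mul, mul_comm (c : ℤ), _root_.mul_assoc, ← Nat.cast_mul,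
          mul_comm c (l ^ (m + v)), mul_comm, zpow_mul, zpow_natCast, hzero, _root_.one_zpow]
    choose a ha ja hja using hlift
    let d' : ℕ → (T ⟶ A) := fun m => a (m + E) ^ l ^ E
    have hd' : ∀ m, d' (m + 1) ^ l = d' m := fun m => by
      let r := a (m + E + 1) ^ l / a (m + E)
      have hr : r ≫ f = 1 := by
        rw [GrpObj.div_comp, MonObj.pow_comp, ha, ha, div_eq_one]
        exact congrArg Additive.toMul (q.compat (m + E))
      obtain ⟨z, hz⟩ := (hker r).2 hr
      have hzP : z ∈ P := by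
        refine CommGroup.mem_primaryComponent.2 ⟨ja (m + E + 1) + ja (m + E), hi ?_⟩
        show (z ^ _) ≫ i = 1 ≫ i
        rw [MonObj.pow_comp, hz, MonObj.one_comp, div_pow, pow_add]
        conv_lhs => rw [← pow_mul, mul_comm l, pow_mul, pow_mul, hja, one_pow, one_pow,
          mul_comm (l ^ ja (m + E + 1)), pow_mul, hja, one_pow, div_one]
      have h1 : r ^ l ^ E = 1 := by rw [← hz, ← MonObj.pow_comp, hP z hzP, MonObj.one_comp]
      rw [div_pow, div_eq_one] at h1
      show (a (m + 1 + E) ^ l ^ E) ^ l = a (m + E) ^ l ^ E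
      rw [← pow_mul, mul_comm, pow_mul, Nat.add_right_comm m 1 E, h1]
    have hd'f : ∀ m, d' m ≫ f = ((q : ℕ → Additive (T ⟶ B)) m).toMul := fun m => by
      rw [MonObj.pow_comp, ha]
      exact congrArg Additive.toMul (nsmul_component_add q m E)
    have h0f : d' 0 ≫ f = 1 := by
      have h := toMul_component_pow q 0
      rw [pow_zero, pow_one] at h
      rw [hd'f, h]
    obtain ⟨z, hz⟩ := (hker _).2 h0f
    have hzP : z ∈ P := by
      refine CommGroup.mem_primaryComponent.2 ⟨ja (0 + E), hi ?_⟩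
      show (z ^ _) ≫ i = 1 ≫ i
      rw [MonObj.pow_comp, hz, MonObj.one_comp, ← pow_mul, mul_comm, pow_mul, hja, one_pow]
    refine ⟨Additive.ofMul ⟨z, hzP⟩, ?_⟩
    show Submodule.Quotient.mk (y ⟨z, hzP⟩) = Submodule.Quotient.mk q
    rw [Submodule.Quotient.eq]
    refine hwd (fun m => d ⟨z, hzP⟩ m / d' m) _ ?_ (fun m => ?_) fun m => ?_
    · rw [hd0, hz, div_self']
    · rw [div_pow, hd, hd']
    · show (y ⟨z, hzP⟩ : ℕ → Additive (T ⟶ B)) m - (q : ℕ → Additive (T ⟶ B)) m = _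
      rw [hy, GrpObj.div_comp, hd'f]
      rfl

end Groth.AbVarMul
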