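import Groth.Agent.AbVarMul.TateDivBC
import Groth.Agent.AbVarMul.TateCoker
import Groth.Agent.GrpschAbsch.FibreFlat

/-!
# Isogenies on points in an algebraically closed extension field
-/

universe u

open CategoryTheory Limits MonoidalCategory CartesianMonoidalCategory MonObj GrpObj AlgebraicGeometry
open AbDual

namespace Groth.AbVarMul

theorem exists_comp_eq_of_surjective {k : Type u} [Field k] [IsAlgClosed k]
    {X Y : Over (Spec (CommRingCat.of k))} [LocallyOfFiniteType X.hom] [LocallyOfFiniteType Y.hom]
    (f : X ⟶ Y) [Surjective f.left] (y : 𝟙_ (Over (Spec (CommRingCat.of k))) ⟶ Y) :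
    ∃ x : 𝟙_ (Over (Spec (CommRingCat.of k))) ⟶ X, x ≫ f = y := by
  have := LocallyOfFiniteType.jacobsonSpace X.hom
  have hycl : IsClosed ({y.left (IsLocalRing.closedPoint k)} : Set Y.left) :=
    (pointEquivClosedPoint Y.hom ⟨y.left, Over.w _⟩).2
  obtain ⟨q, hq, hqc⟩ := nonempty_inter_closedPoints
    (Z := f.left.base ⁻¹' {y.left (IsLocalRing.closedPoint k)})
    (f.left.surjective (y.left (IsLocalRing.closedPoint k)))
    (hycl.preimage f.left.continuous).isLocallyClosed
  obtain ⟨w, rfl⟩ := exists_point' q hqc
  exact ⟨w, point_ext' hq⟩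

variable {k : Type u} [Field k] (K : Type u) [Field K] [Algebra k K] [IsAlgClosed K]

noncomputable local instance grpObjBcF'' (A : Over (Spec (CommRingCat.of k))) [GrpObj A] :
    GrpObj ((bcF K).obj A) := Functor.grpObjObj

variable {A B : Over (Spec (CommRingCat.of k))} [GrpObj A] [IsProper A.hom] [GrpObj B] [IsProper B.hom]

/-- A surjective homomorphism is surjective on points in an algebraically closed field. -/
theorem exists_comp_eq_bc (f : A ⟶ B) [Surjective f.left] (y : SGA7.pt (K := k) K ⟶ B) :
    ∃ x : SGA7.pt (K := k) K ⟶ A, x ≫ f = y := by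
  have := isProper_bcF K A
  have := isProper_bcF K B
  have : Surjective ((bcF K).map f).left :=
    MorphismProperty.of_isPullback (P := @Surjective)
      (Groth.GrpschAbsch.FibreFlat.isPullback_map _ f) ‹_›
  obtain ⟨x, hx⟩ := exists_comp_eq_of_surjective ((bcF K).map f) (bcPoints K B y)
  refine ⟨(bcPoints K A).symm x, (bcPoints K B).injective ?_⟩
  rw [bcPoints_comp, MulEquiv.apply_symm_apply, hx]

/-- A finite homomorphism has finitely many points with values in an algebraically closed field in
its kernel. -/
theorem finite_ker_bc [GeometricallyIntegral A.hom] (f : A ⟶ B) [IsFinite f.left] :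
    {x : SGA7.pt (K := k) K ⟶ A | x ≫ f = 1}.Finite := by
  have := isProper_bcF K A
  have := isProper_bcF K B
  have := geometricallyIntegral_bcF K A
  have := GrpschAbsch.isCommMonObj_of_isProper ((bcF K).obj A)
  have : IsFinite ((bcF K).map f).left :=
    MorphismProperty.of_isPullback (P := @IsFinite)
      (Groth.GrpschAbsch.FibreFlat.isPullback_map _ f) ‹_›
  refine ((finite_ker_of_isFinite ((bcF K).map f)).preimage
    (Function.Injective.injOn (bcPoints K A).injective)).subset fun x hx => ?_
  show bcPoints K A x ≫ (bcF K).map f = 1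
  rw [← bcPoints_comp, show x ≫ f = 1 from hx, map_one]

/-- Points of an abelian variety in an algebraically closed field are divisible. -/
theorem exists_pow_eq_bc [GeometricallyIntegral A.hom] {n : ℕ} (hn : n ≠ 0)
    (a : SGA7.pt (K := k) K ⟶ A) : ∃ b : SGA7.pt (K := k) K ⟶ A, b ^ n = a := by
  have := isProper_bcF K A
  have := geometricallyIntegral_bcF K A
  have := GrpschAbsch.isCommMonObj_of_isProper ((bcF K).obj A)
  obtain ⟨b, hb⟩ := exists_pow_eq (A := (bcF K).obj A) hn (bcPoints K A a)
  exact ⟨(bcPoints K A).symm b, (bcPoints K A).injective (by rw [map_pow, MulEquiv.apply_symm_apply, hb])⟩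

/-- The Tate module of points in an algebraically closed extension field is free of rank `2 g`. -/
theorem nonempty_tateMod_bc [GeometricallyIntegral A.hom] [IsCommMonObj A] {g : ℕ}
    (hg : topologicalKrullDim ((bcF K).obj A).left = g) {l : ℕ} [Fact l.Prime] (hl : (l : K) ≠ 0) :
    Nonempty ((Fin (2 * g) → ℤ_[l]) ≃ₗ[ℤ_[l]] TateMod A l (SGA7.pt (K := k) K)) := by
  have := isProper_bcF K A
  have := geometricallyIntegral_bcF K A
  have := GrpschAbsch.isCommMonObj_of_isProper ((bcF K).obj A)
  obtain ⟨e⟩ := nonempty_torsPts_mulEquiv (A := (bcF K).obj A) hg hl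
  obtain ⟨E⟩ := nonempty_tateMod_linearEquiv
    (fun a => exists_pow_eq (A := (bcF K).obj A) (Fact.out : l.Prime).ne_zero a) e
  exact ⟨E.trans (bcTate K A l).symm⟩

end Groth.AbVarMul
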