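import Groth.Agent.AbVarMul.Consequences
import Groth.Agent.GrpschAbsch.FibreFlat
import Groth.Agent.GrpschAbsch.Deligne
import Groth.Agent.S7785
import Groth.Agent.GrpschAbsch.NeutralSet
import Groth.Agent.Calg4.MonoFactor.Over

/-!
# Multiplication by a nonzero integer on an abelian scheme
-/

universe u

open CategoryTheory Limits MonoidalCategory CartesianMonoidalCategory MonObj GrpObj AlgebraicGeometry
  TopologicalSpace

namespace Groth.AbVarMul

variable {S : Scheme.{u}} {X : Over S} [GrpObj X] [IsProper X.hom] [Flat X.hom]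
  [LocallyOfFinitePresentation X.hom] [GeometricallyReduced X.hom] [GeometricallyConnected X.hom]

/-- The fibres of an abelian scheme are geometrically integral. -/
theorem geometricallyIntegral_fibre (s : S) :
    GeometricallyIntegral (pullback.snd X.hom (S.fromSpecResidueField s)) := by
  letI : GrpObj ((Over.pullback (S.fromSpecResidueField s)).obj X) := Functor.grpObjObj
  let F := (Over.pullback (S.fromSpecResidueField s)).obj X
  have : IsProper F.hom := inferInstanceAs (IsProper (pullback.snd _ _))
  have : GeometricallyReduced F.hom := inferInstanceAs (GeometricallyReduced (pullback.snd _ _))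
  have : ConnectedSpace F.left := inferInstanceAs (ConnectedSpace ↥(X.hom.fiber s))
  have := Groth.AlgGrp1.geometricallyIrreducible_of_connected (k := S.residueField s) F
  exact GeometricallyIntegral.of_geometricallyReduced_of_geometricallyIrreducible F.hom

set_option backward.isDefEq.respectTransparency false in
set_option synthInstance.maxHeartbeats 400000 in
/-- **Multiplication by a nonzero integer on an abelian scheme is an isogeny.** -/
theorem isogeny_zpow_absch {d : ℤ} (hd : d ≠ 0) :
    IsFinite (𝟙 X ^ d : X ⟶ X).left ∧ Flat (𝟙 X ^ d : X ⟶ X).left ∧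
      Surjective (𝟙 X ^ d : X ⟶ X).left := by
  have : IsCommMonObj X := Groth.Agent.S7785.result X
  set f : X ⟶ X := 𝟙 X ^ d with hf
  have hfib : ∀ s : S, IsFinite (pullback.snd f.left (X.hom.fiberι s)) ∧
      Surjective (pullback.snd f.left (X.hom.fiberι s)) := by
    intro s
    letI : GrpObj ((Over.pullback (S.fromSpecResidueField s)).obj X) := Functor.grpObjObj
    have : IsProper ((Over.pullback (S.fromSpecResidueField s)).obj X).hom :=
      inferInstanceAs (IsProper (pullback.snd _ _))
    have : GeometricallyIntegral ((Over.pullback (S.fromSpecResidueField s)).obj X).hom :=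
      geometricallyIntegral_fibre s
    have e : (Over.pullback (S.fromSpecResidueField s)).map f = 𝟙 _ ^ d := by
      have := ((Over.pullback (S.fromSpecResidueField s)).homMonoidHom (X := X) (M := X)).map_zpow (𝟙 X) d
      simpa [hf] using this
    obtain ⟨h1, -, h3⟩ := isogeny_zpow (k := S.residueField s)
      (A := (Over.pullback (S.fromSpecResidueField s)).obj X) hd
    rw [← e] at h1 h3
    exact ⟨(GrpschAbsch.FibreFlat.of_map_iff @IsFinite f s).1 h1,
      (GrpschAbsch.FibreFlat.of_map_iff @Surjective f s).1 h3⟩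
  have hsurj : Surjective f.left := by
    refine ⟨fun y => ?_⟩
    obtain ⟨y', hy'⟩ : y ∈ Set.range (X.hom.fiberι (X.hom y)).base := by
      rw [Scheme.Hom.range_fiberι]; rfl
    obtain ⟨p, hp⟩ := (hfib (X.hom y)).2.surj y'
    refine ⟨(pullback.fst f.left (X.hom.fiberι (X.hom y))).base p, ?_⟩
    refine Eq.trans ?_ ((congrArg (X.hom.fiberι (X.hom y)).base hp).trans hy')
    rw [← Scheme.Hom.comp_apply, ← Scheme.Hom.comp_apply, pullback.condition]
  have : IsProper (f.left ≫ X.hom) := by rw [Over.w]; infer_instance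
  have : IsProper f.left := IsProper.of_comp f.left X.hom
  have : LocallyQuasiFinite f.left := GrpschAbsch.FibreFlat.locallyQuasiFinite_of_fibres f.left X.hom
    fun s => by have := (hfib s).1; infer_instance
  exact ⟨IsFinite.of_isProper_of_locallyQuasiFinite f.left,
    (GrpschAbsch.FibreFlat.flat_of_surjective f).1, hsurj⟩

/-- The group of homomorphisms out of an abelian scheme is torsion free. -/
theorem eq_one_of_zpow_eq_one_absch {Y : Over S} [GrpObj Y] (f : X ⟶ Y) [IsMonHom f] {d : ℤ}
    (hd : d ≠ 0) (h : f ^ d = 1) : f = 1 := by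
  obtain ⟨h1, h2, h3⟩ := isogeny_zpow_absch (X := X) hd
  have := epi_of_flat_surjective (𝟙 X ^ d : X ⟶ X)
  rw [← cancel_epi (𝟙 X ^ d : X ⟶ X), MonObj.comp_one, GrpObj.zpow_comp, Category.id_comp, h]

omit [GrpObj X] [IsProper X.hom] [Flat X.hom] [LocallyOfFinitePresentation X.hom]
  [GeometricallyReduced X.hom] [GeometricallyConnected X.hom] in
/-- A homomorphism killing the kernel of a flat surjective quasi-compact homomorphism factors
uniquely through it, as a homomorphism. -/
theorem exists_factor_of_flat {A B C : Over S} [GrpObj A] [GrpObj B] [GrpObj C] (f : A ⟶ B)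
    [IsMonHom f] [Flat f.left] [Surjective f.left] [QuasiCompact f.left]
    (h : A ⟶ C) [IsMonHom h] (hk : ∀ (T : Over S) (t : T ⟶ A), t ≫ f = 1 → t ≫ h = 1) :
    ∃ g : B ⟶ C, IsMonHom g ∧ f ≫ g = h := by
  have hpq : ∀ {T : Over S} (p q : T ⟶ A), p ≫ f = q ≫ f → p ≫ h = q ≫ h := by
    intro T p q e
    have := hk T (p * q⁻¹) (by rw [MonObj.mul_comp, GrpObj.inv_comp, e, mul_inv_cancel])
    rwa [MonObj.mul_comp, GrpObj.inv_comp, mul_inv_eq_one] at this
  let P : Over S := Over.mk (pullback.fst f.left f.left ≫ A.hom)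
  let p₁ : P ⟶ A := Over.homMk (pullback.fst f.left f.left) rfl
  let p₂ : P ⟶ A := Over.homMk (pullback.snd f.left f.left) (by
    show pullback.snd f.left f.left ≫ A.hom = pullback.fst f.left f.left ≫ A.hom
    rw [← Over.w f, ← Category.assoc, ← Category.assoc, pullback.condition])
  have hp : p₁ ≫ h = p₂ ≫ h := hpq p₁ p₂ (Over.OverMorphism.ext pullback.condition)
  have hd : ∀ {Z : Scheme.{u}} (g₁ g₂ : Z ⟶ A.left), g₁ ≫ f.left = g₂ ≫ f.left →
      g₁ ≫ h.left = g₂ ≫ h.left := by
    intro Z g₁ g₂ e
    have := congrArg (fun m : P ⟶ C => pullback.lift g₁ g₂ e ≫ m.left) hp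
    simp only [Over.comp_left, p₁, p₂, Over.homMk_left] at this
    rwa [← Category.assoc, ← Category.assoc, pullback.lift_fst, pullback.lift_snd] at this
  have : Epi f.left := Flat.epi_of_flat_of_surjective f.left
  let g : B ⟶ C := Over.homMk (EffectiveEpi.desc f.left h.left hd) (by
    rw [← cancel_epi f.left, EffectiveEpi.fac_assoc, Over.w, Over.w])
  have hg : f ≫ g = h := Over.OverMorphism.ext (EffectiveEpi.fac f.left h.left hd)
  have := epi_of_flat_surjective f
  refine ⟨g, ?_, hg⟩
  have hone : η[B] ≫ g = η[C] := by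
    rw [← IsMonHom.one_hom (f := f), Category.assoc, hg, IsMonHom.one_hom]
  have hF : Flat (f ⊗ₘ f).left ∧ Surjective (f ⊗ₘ f).left ∧ QuasiCompact (f ⊗ₘ f).left :=
    ⟨Calg4.MonoFactor.tensorHom_left_prop @Flat ‹_› ‹_›,
      Calg4.MonoFactor.tensorHom_left_prop @Surjective ‹_› ‹_›,
      Calg4.MonoFactor.tensorHom_left_prop @QuasiCompact ‹_› ‹_›⟩
  have := hF.1; have := hF.2.1; have := hF.2.2
  have := epi_of_flat_surjective (f ⊗ₘ f)
  refine { one_hom := hone, mul_hom := ?_ }
  rw [← cancel_epi (f ⊗ₘ f), ← Category.assoc, ← IsMonHom.mul_hom (f := f), Category.assoc, hg,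
    IsMonHom.mul_hom, ← Category.assoc, MonoidalCategory.tensorHom_comp_tensorHom, hg]

end Groth.AbVarMul

namespace Groth.AbVarMul

variable {S : Scheme.{u}} {X Y : Over S} [GrpObj X] [GrpObj Y]

set_option backward.isDefEq.respectTransparency false in
/-- A finite flat surjective homomorphism of constant rank `n` from a commutative group has kernel
killed by `n`. -/
theorem kills_kernel_pow [IsCommMonObj X] (f : X ⟶ Y) [IsMonHom f] [IsFinite f.left] [Flat f.left]
    [LocallyOfFinitePresentation f.left] (n : ℕ)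
    (hdeg : ∀ s : S, Scheme.Hom.finrank f.left (η[Y].left s) = n)
    (T : Over S) (t : T ⟶ X) (ht : t ≫ f = 1) : t ≫ (𝟙 X ^ n : X ⟶ X) = 1 := by
  let N : Over S := Over.mk (pullback.snd f.left η[Y].left)
  let i : N ⟶ X := Over.homMk (pullback.fst f.left η[Y].left) (by
    show pullback.fst f.left η[Y].left ≫ X.hom = pullback.snd f.left η[Y].left
    rw [← Over.w f, ← Category.assoc, pullback.condition, Category.assoc]
    exact (congrArg (pullback.snd f.left η[Y].left ≫ ·) (Over.w η[Y])).trans (Category.comp_id _))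
  have hif : i ≫ f = 1 := Over.OverMorphism.ext pullback.condition
  have hlift : ∀ {U : Over S} (x : U ⟶ X), x ≫ f = 1 → ∃ z : U ⟶ N, z ≫ i = x := fun {U} x hx =>
    ⟨Over.homMk (pullback.lift x.left U.hom (congrArg Over.Hom.left hx)) (pullback.lift_snd _ _ _),
      Over.OverMorphism.ext (pullback.lift_fst _ _ _)⟩
  have : Mono i := ⟨fun {U} a b e => Over.OverMorphism.ext (pullback.hom_ext
    (congrArg Over.Hom.left e) ((Over.w a).trans (Over.w b).symm))⟩
  obtain ⟨_, hi⟩ := GrpschAbsch.NeutralSet.exists_grpObj_of_mono (G := X) i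
    (hlift η[X] (by rw [IsMonHom.one_hom, MonObj.one_eq_one]))
    (hlift _ (by rw [MonObj.mul_comp, Category.assoc, Category.assoc, hif, MonObj.comp_one,
      MonObj.comp_one, _root_.one_mul]))
    (hlift _ (by rw [GrpObj.inv_comp, hif, inv_one]))
  have : IsCommMonObj N := by
    constructor
    rw [← cancel_mono i, Category.assoc, IsMonHom.mul_hom, ← Category.assoc,
      ← BraidedCategory.braiding_naturality, Category.assoc, IsCommMonObj.mul_comm]
  have : IsFinite N.hom := inferInstanceAs (IsFinite (pullback.snd _ _))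
  have : Flat N.hom := inferInstanceAs (Flat (pullback.snd _ _))
  have : LocallyOfFinitePresentation N.hom :=
    inferInstanceAs (LocallyOfFinitePresentation (pullback.snd _ _))
  have hN : (𝟙 N : N ⟶ N) ^ n = 1 := GrpschAbsch.pow_rank_eq_one N n fun s =>
    (Scheme.Hom.finrank_pullback_snd f.left η[Y].left s).trans (hdeg s)
  obtain ⟨z, hz⟩ := hlift t ht
  have hin : i ≫ (𝟙 X ^ n : X ⟶ X) = 1 := by
    rw [MonObj.comp_pow, Category.comp_id, ← Category.id_comp i, ← MonObj.pow_comp, hN,
      MonObj.one_comp]
  rw [← hz, Category.assoc, hin, MonObj.comp_one]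

end Groth.AbVarMul
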