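import Groth.Agent.AbVarMul.KerDiv
import Groth.Agent.AbVarMul.IsogenyPts
import Groth.Agent.AbVarMul.Relative
import Mathlib.LinearAlgebra.FreeModule.PID
import Mathlib.LinearAlgebra.Determinant
import Mathlib.NumberTheory.Padics.RingHoms
import Mathlib.LinearAlgebra.Matrix.Basis

/-!
# The `l`-adic valuation of the degree is that of the determinant on Tate modules
-/

universe u

open CategoryTheory Limits MonoidalCategory CartesianMonoidalCategory MonObj GrpObj AlgebraicGeometry
  TopologicalSpace
open AbDual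

namespace Groth.AbVarMul

section Padic

variable {l : ℕ} [Fact l.Prime]

theorem valuation_unit_mul {u x : ℤ_[l]} (hu : IsUnit u) (hx : x ≠ 0) :
    (u * x).valuation = x.valuation := by
  rw [PadicInt.valuation_mul hu.ne_zero hx]
  obtain ⟨v, hv⟩ := hu.exists_right_inv
  have h := PadicInt.valuation_mul (x := u) (y := v) hu.ne_zero (fun h0 => by simp [h0] at hv)
  rw [hv, PadicInt.valuation_one] at h
  omega

theorem valuation_prod {J : Type*} (s : Finset J) (a : J → ℤ_[l]) (ha : ∀ i ∈ s, a i ≠ 0) :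
    (∏ i ∈ s, a i).valuation = ∑ i ∈ s, (a i).valuation := by
  classical
  induction s using Finset.induction_on with
  | empty => simp
  | @insert i t hi ih =>
    rw [Finset.prod_insert hi, Finset.sum_insert hi, PadicInt.valuation_mul (ha i (by simp))
      (Finset.prod_ne_zero_iff.2 fun j hj => ha j (by simp [hj])), ih fun j hj => ha j (by simp [hj])]

theorem toZModPow_valuation_eq_zero_iff {a : ℤ_[l]} (ha : a ≠ 0) (x : ℤ_[l]) :
    PadicInt.toZModPow a.valuation x = 0 ↔ a ∣ x := by
  rw [← RingHom.mem_ker, PadicInt.ker_toZModPow, Ideal.mem_span_singleton]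
  conv_rhs => rw [PadicInt.unitCoeff_spec ha]
  exact Units.mul_left_dvd.symm

/-- The cokernel of an injective endomorphism of `ℤ_l ^ n` has order `l ^ v(det)`. -/
theorem natCard_coker {J V W : Type*} [Fintype J] [DecidableEq J] [AddCommGroup V]
    [Module ℤ_[l] V] [AddCommGroup W] [Module ℤ_[l] W] (bV : Module.Basis J ℤ_[l] V)
    (bW : Module.Basis J ℤ_[l] W) (T : V →ₗ[ℤ_[l]] W) (hT : Function.Injective T) :
    Nat.card (W ⧸ LinearMap.range T) =
      l ^ (Matrix.det (LinearMap.toMatrix bV bW T)).valuation ∧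
      Matrix.det (LinearMap.toMatrix bV bW T) ≠ 0 := by
  set N := LinearMap.range T
  let eT : V ≃ₗ[ℤ_[l]] N := LinearEquiv.ofInjective T hT
  have hrk : Module.finrank ℤ_[l] N = Module.finrank ℤ_[l] W := by
    rw [← eT.finrank_eq, Module.finrank_eq_card_basis bV, Module.finrank_eq_card_basis bW]
  obtain ⟨b', a, ab', hab⟩ := Submodule.exists_smith_normal_form_of_rank_eq bW hrk
  have ha : ∀ i, a i ≠ 0 := fun i h => ab'.ne_zero i (Subtype.ext (by rw [hab, h, zero_smul]; rfl))
  let bV' := ab'.map eT.symm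
  have hTb : ∀ i, T (bV' i) = a i • b' i := fun i => by
    rw [← hab]
    exact congrArg Subtype.val (eT.apply_symm_apply (ab' i))
  have hdiag : LinearMap.toMatrix bV' b' T = Matrix.diagonal a := by
    ext i j
    rw [LinearMap.toMatrix_apply, hTb, map_smul, Module.Basis.repr_self, Matrix.diagonal_apply]
    by_cases h : i = j
    · subst h; simp
    · simp [h, Ne.symm h]
  have hdec : LinearMap.toMatrix bV bW T =
      bW.toMatrix b' * Matrix.diagonal a * bV'.toMatrix bV := by
    rw [← hdiag, basis_toMatrix_mul_linearMap_toMatrix_mul_basis_toMatrix]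
  have hu' : IsUnit (bV'.toMatrix bV).det := by
    refine IsUnit.of_mul_eq_one (bV.toMatrix bV').det ?_
    rw [← Matrix.det_mul, Module.Basis.toMatrix_mul_toMatrix_flip, Matrix.det_one]
  have hu'' : IsUnit (bW.toMatrix b').det := by
    refine IsUnit.of_mul_eq_one (b'.toMatrix bW).det ?_
    rw [← Matrix.det_mul, Module.Basis.toMatrix_mul_toMatrix_flip, Matrix.det_one]
  have hne : ∏ i, a i ≠ 0 := Finset.prod_ne_zero_iff.2 fun i _ => ha i
  have hdet : Matrix.det (LinearMap.toMatrix bV bW T) =
      ((bW.toMatrix b').det * (bV'.toMatrix bV).det) * ∏ i, a i := by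
    rw [hdec, Matrix.det_mul, Matrix.det_mul, Matrix.det_diagonal]; ring
  refine ⟨?_, by rw [hdet]; exact mul_ne_zero (hu''.mul hu').ne_zero hne⟩
  rw [hdet, valuation_unit_mul (hu''.mul hu') hne, valuation_prod _ _ (fun i _ => ha i),
    ← Finset.prod_pow_eq_pow_sum]
  let π : W →+ (∀ i, ZMod (l ^ (a i).valuation)) :=
    AddMonoidHom.mk' (fun x i => PadicInt.toZModPow (a i).valuation (b'.repr x i)) fun x y => by
      funext i; simp
  have hker : π.ker = N.toAddSubgroup := by
    ext x
    refine ⟨fun hx => ?_, fun hx => ?_⟩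
    · choose c hc using fun i => (toZModPow_valuation_eq_zero_iff (ha i) _).1 (congrFun hx i)
      have : x = ∑ i, c i • (ab' i : W) := by
        conv_lhs => rw [← b'.sum_repr x]
        exact Finset.sum_congr rfl fun i _ => by rw [hab, smul_smul, hc i, mul_comm]
      rw [this]
      exact N.sum_mem fun i _ => N.smul_mem _ (ab' i).2
    · refine funext fun i => (toZModPow_valuation_eq_zero_iff (ha i) _).2 ?_
      have hx' : x = ∑ j, ab'.repr ⟨x, hx⟩ j • (a j • b' j) := by
        refine (congrArg Subtype.val (ab'.sum_repr ⟨x, hx⟩)).symm.trans ?_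
        rw [Submodule.coe_sum]
        exact Finset.sum_congr rfl fun j _ => by rw [Submodule.coe_smul, hab]
      refine ⟨ab'.repr ⟨x, hx⟩ i, ?_⟩
      conv_lhs => rw [hx']
      simp [map_sum, map_smul, Finsupp.single_apply, mul_comm]
  have hsurj : Function.Surjective π := fun y => by
    choose c hc using fun i => ZMod.ringHom_surjective (PadicInt.toZModPow (p := l) (a i).valuation) (y i)
    refine ⟨∑ i, c i • b' i, funext fun i => ?_⟩
    show PadicInt.toZModPow _ (b'.repr _ i) = y i
    rw [← hc i]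
    simp [map_sum, Finsupp.single_apply]
  rw [show Nat.card (W ⧸ N) = Nat.card (W ⧸ N.toAddSubgroup) from rfl, ← hker,
    Nat.card_congr (QuotientAddGroup.quotientKerEquivOfSurjective π hsurj).toEquiv, Nat.card_pi]
  simp

end Padic

variable {k : Type u} [Field k] [IsAlgClosed k] {A B : Over (Spec (CommRingCat.of k))}
  [GrpObj A] [GrpObj B] [IsCommMonObj A] [IsCommMonObj B]
  [IsProper A.hom] [GeometricallyIntegral A.hom] [IsProper B.hom] [GeometricallyIntegral B.hom]

local notation "pt" => 𝟙_ (Over (Spec (CommRingCat.of k)))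

/-- One inequality: the cokernel on Tate modules divides the degree. -/
theorem natCard_coker_dvd_homDeg {l : ℕ} [Fact l.Prime] (f : A ⟶ B) [IsMonHom f] [IsFinite f.left]
    (hdim : topologicalKrullDim A.left = topologicalKrullDim B.left) :
    Nat.card (TateMod B l pt ⧸ LinearMap.range (tateMapₗ (l := l) (T := pt) f)) ∣ homDeg f := by
  obtain ⟨-, hs⟩ := flat_surjective_of_isFinite f hdim
  let N : Over (Spec (CommRingCat.of k)) := Over.mk (pullback.snd f.left η[B].left)
  let i : N ⟶ A := Over.homMk (pullback.fst f.left η[B].left) (by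
    show pullback.fst f.left η[B].left ≫ A.hom = pullback.snd f.left η[B].left
    rw [← Over.w f, ← Category.assoc, pullback.condition, Category.assoc]
    exact (congrArg (pullback.snd f.left η[B].left ≫ ·) (Over.w η[B])).trans (Category.comp_id _))
  have hif : i ≫ f = 1 := Over.OverMorphism.ext pullback.condition
  have hlift : ∀ {U : Over (Spec (CommRingCat.of k))} (x : U ⟶ A), x ≫ f = 1 →
      ∃ z : U ⟶ N, z ≫ i = x := fun {U} x hx =>
    ⟨Over.homMk (pullback.lift x.left U.hom (congrArg Over.Hom.left hx)) (pullback.lift_snd _ _ _),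
      Over.OverMorphism.ext (pullback.lift_fst _ _ _)⟩
  have : Mono i := ⟨fun {U} a b e => Over.OverMorphism.ext (pullback.hom_ext
    (congrArg Over.Hom.left e) ((Over.w a).trans (Over.w b).symm))⟩
  obtain ⟨_, hi⟩ := GrpschAbsch.NeutralSet.exists_grpObj_of_mono (G := A) i
    (hlift η[A] (by rw [IsMonHom.one_hom, MonObj.one_eq_one]))
    (hlift _ (by rw [MonObj.mul_comp, Category.assoc, Category.assoc, hif, MonObj.comp_one,
      MonObj.comp_one, _root_.one_mul]))
    (hlift _ (by rw [GrpObj.inv_comp, hif, inv_one]))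
  have : IsCommMonObj N := isCommMonObj_of_mono i
  let eN : (pt ⟶ N) ≃ {z : pt ⟶ A // z ≫ f = 1} :=
    Equiv.ofBijective (fun s => ⟨s ≫ i, by rw [Category.assoc, hif, MonObj.comp_one]⟩)
      ⟨fun s s' h => (cancel_mono i).1 (congrArg Subtype.val h), fun z => by
        obtain ⟨s, hs⟩ := hlift z.1 z.2
        exact ⟨s, Subtype.ext hs⟩⟩
  have hfin : Finite {z : pt ⟶ A // z ≫ f = 1} := (finite_ker_of_isFinite f).to_subtype
  have : Finite (pt ⟶ N) := Finite.of_equiv _ eN.symm
  obtain ⟨e⟩ := nonempty_tateMap_coker_equiv (l := l) i f (fun _ _ h => (cancel_mono i).1 h)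
    (fun x => ⟨by rintro ⟨z, rfl⟩; rw [Category.assoc, hif, MonObj.comp_one], hlift x⟩)
    (exists_comp_eq_of_surjective f)
    (fun a => exists_pow_eq (A := A) (Fact.out : l.Prime).ne_zero a)
  rw [Nat.card_congr (e.toEquiv.trans Additive.toMul)]
  refine ((CommGroup.primaryComponent (pt ⟶ N) l).card_subgroup_dvd_card).trans ?_
  rw [Nat.card_congr eN]
  exact natCard_ker_dvd_homDeg f hdim

/-- An isogeny has a partner composing with it to multiplication by its degree. -/
theorem exists_comp_eq_zpow_homDeg (f : A ⟶ B) [IsMonHom f] [IsFinite f.left]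
    (hdim : topologicalKrullDim A.left = topologicalKrullDim B.left) :
    ∃ g : B ⟶ A, IsMonHom g ∧ f ≫ g = (𝟙 A ^ (homDeg f : ℤ) : A ⟶ A) := by
  obtain ⟨h2, h3⟩ := flat_surjective_of_isFinite f hdim
  have : LocallyOfFinitePresentation f.left := Groth.AlgGrp1.lfp_left f
  exact exists_factor_of_flat f (𝟙 A ^ (homDeg f : ℤ) : A ⟶ A) fun T t ht => by
    rw [zpow_natCast]
    exact kills_kernel_pow f (homDeg f) (fun s => finrank_eq_homDeg f hdim _) T t ht

theorem homDeg_zpow {g : ℕ} (hg : topologicalKrullDim A.left = g) {d : ℤ} (hd : d ≠ 0) :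
    homDeg (𝟙 A ^ d : A ⟶ A) = d.natAbs ^ (2 * g) := by
  obtain ⟨h1, -, -⟩ := isogeny_zpow (A := A) hd
  rw [homDeg, if_pos h1]
  exact finrank_zpow hg hd _

/-- **`v_l(deg f) = v_l(det T_l f)`.** -/
theorem padicValNat_homDeg {r l : ℕ} [Fact l.Prime] (hrA : topologicalKrullDim A.left = r)
    (hrB : topologicalKrullDim B.left = r) (f : A ⟶ B) [IsMonHom f] [IsFinite f.left]
    (bA : Module.Basis (Fin (2 * r)) ℤ_[l] (TateMod A l pt))
    (bB : Module.Basis (Fin (2 * r)) ℤ_[l] (TateMod B l pt)) :
    padicValNat l (homDeg f) =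
      (Matrix.det (LinearMap.toMatrix bA bB (tateMapₗ (l := l) (T := pt) f))).valuation ∧
    Matrix.det (LinearMap.toMatrix bA bB (tateMapₗ (l := l) (T := pt) f)) ≠ 0 := by
  classical
  have hlp := (Fact.out : l.Prime)
  have hdim : topologicalKrullDim A.left = topologicalKrullDim B.left := hrA.trans hrB.symm
  obtain ⟨g, hg, hfg⟩ := exists_comp_eq_zpow_homDeg f hdim
  set d := homDeg f with hd
  have hd0 : d ≠ 0 := (homDeg_pos f hdim).ne'
  have hfgd : homDeg f * homDeg g = d ^ (2 * r) := by
    rw [← homDeg_comp f g hrA hrB hrA, hfg, homDeg_zpow hrA (by exact_mod_cast hd0), Int.natAbs_natCast]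
  have hg0 : homDeg g ≠ 0 := fun h => by
    rw [h, mul_zero] at hfgd
    exact pow_ne_zero _ hd0 hfgd.symm
  have : IsFinite g.left := by
    by_contra h
    exact hg0 (homDeg_of_not_isFinite g h)
  have hb : ∀ {X Y : Over (Spec (CommRingCat.of k))} [GrpObj X] [GrpObj Y] [IsCommMonObj X]
      [IsCommMonObj Y] [IsProper X.hom] [GeometricallyIntegral X.hom] [IsProper Y.hom]
      [GeometricallyIntegral Y.hom] (h : X ⟶ Y) [IsMonHom h] [IsFinite h.left],
      topologicalKrullDim X.left = topologicalKrullDim Y.left →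
      ∀ (cX : Module.Basis (Fin (2 * r)) ℤ_[l] (TateMod X l pt))
      (cY : Module.Basis (Fin (2 * r)) ℤ_[l] (TateMod Y l pt)),
      (Matrix.det (LinearMap.toMatrix cX cY (tateMapₗ (l := l) (T := pt) h))).valuation ≤
        padicValNat l (homDeg h) ∧
      Matrix.det (LinearMap.toMatrix cX cY (tateMapₗ (l := l) (T := pt) h)) ≠ 0 := by
    intro X Y _ _ _ _ _ _ _ _ h _ _ hXY cX cY
    obtain ⟨hcard, hne⟩ := natCard_coker cX cY _
      (tateMapₗ_injective_of_finite h (finite_ker_of_isFinite h))
    have hdvd := natCard_coker_dvd_homDeg (l := l) h hXY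
    rw [hcard] at hdvd
    exact ⟨(padicValNat_dvd_iff_le (homDeg_pos h hXY).ne').1 hdvd, hne⟩
  obtain ⟨h1, h1'⟩ := hb f hdim bA bB
  obtain ⟨h2, h2'⟩ := hb g hdim.symm bB bA
  have hT : (tateMapₗ (l := l) (T := pt) g).comp (tateMapₗ (l := l) (T := pt) f) =
      (d : ℤ_[l]) • LinearMap.id := by
    refine LinearMap.ext fun x => ?_
    refine TateMod.ext fun n => ?_
    rw [LinearMap.smul_apply, LinearMap.id_apply, component_natCast_smul]
    show Additive.ofMul ((((x : ℕ → Additive (pt ⟶ A)) n).toMul ≫ f) ≫ g) = _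
    rw [Category.assoc, hfg, GrpObj.comp_zpow, Category.comp_id, zpow_natCast]
    rfl
  have hmat := congrArg Matrix.det (congrArg (LinearMap.toMatrix bA bA) hT)
  rw [LinearMap.toMatrix_comp bA bB bA, Matrix.det_mul, map_smul, LinearMap.toMatrix_id,
    Matrix.det_smul, Matrix.det_one, _root_.mul_one, Fintype.card_fin] at hmat
  have hv := congrArg PadicInt.valuation hmat
  rw [PadicInt.valuation_mul h2' h1', PadicInt.valuation_pow] at hv
  have hvd : ((d : ℤ_[l])).valuation = padicValNat l d := by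
    have h := PadicInt.valuation_coe (d : ℤ_[l])
    rw [PadicInt.coe_natCast, Padic.valuation_natCast] at h
    exact_mod_cast h.symm
  have he := congrArg (padicValNat l) hfgd
  rw [padicValNat.mul (homDeg_pos f hdim).ne' hg0, padicValNat.pow] at he
  refine ⟨?_, h1'⟩
  rw [hvd] at hv
  simp only [← hd] at he h1 h2
  omega

end Groth.AbVarMul
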