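import Groth.Agent.AbVarMul.Isogeny
import Groth.Agent.AbVarMul.Ample
import Groth.Agent.Inter.NakaiCor
import Groth.Agent.CohFin.PushAffine
import Groth.Agent.Cycles.SheafCyc
import Groth.Agent.Pi1FEt.RankPush
import Groth.Agent.LocFree.Rank

/-!
# The degree of multiplication by `n` on an abelian variety is `n ^ (2 g)`
-/

universe u

open CategoryTheory CategoryTheory.Limits MonoidalCategory CartesianMonoidalCategory MonObj GrpObj
  AlgebraicGeometry TopologicalSpace Groth.Abvar.PicCalc

namespace Groth.AbVarMul

section Push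

variable (k : Type u) [Field k] {X : Scheme.{u}} [X.Over (Spec (CommRingCat.of k))]
  [IsProper (X ↘ Spec (CommRingCat.of k))] [IsIntegral X]

/-- The projection formula for intersection numbers along an affine endomorphism. -/
theorem delta_push_affine (f : X ⟶ X) [IsAffineHom f]
    (hf : f ≫ (X ↘ Spec (CommRingCat.of k)) = X ↘ Spec (CommRingCat.of k)) :
    ∀ (l : List X.Modules), (∀ N ∈ l, PicF.IsInvertible N) → ∀ (G : X.Modules), Coh.IsCoh G →
      Inter.delta k l ((Scheme.Modules.pushforward f).obj G) =
        Inter.delta k (l.map (Scheme.Modules.pullback f).obj) G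
  | [], _, G, hG => by
    have : X.IsSeparated := ⟨by rw [← terminal.comp_from (X ↘ Spec (CommRingCat.of k))]; infer_instance⟩
    have : CompactSpace X := QuasiCompact.compactSpace_of_compactSpace (X ↘ Spec (CommRingCat.of k))
    have := hG.1
    refine finsum_congr fun n => ?_
    obtain ⟨e⟩ := CohFin.nonempty_linearEquiv_push f (X ↘ Spec (CommRingCat.of k)) n G
    congr 2
    have e' := e.finrank_eq
    rw [hf] at e'
    exact e'
  | a :: l, hl, G, hG => by
    have ha := hl a (by simp)
    have hl' : ∀ N ∈ l, PicF.IsInvertible N := fun N hN => hl N (by simp [hN])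
    have e : Nonempty (CohB1.tensorMod a ((Scheme.Modules.pushforward f).obj G) ≅
        (Scheme.Modules.pushforward f).obj (CohB1.tensorMod ((Scheme.Modules.pullback f).obj a) G)) :=
      ⟨(Inter.tensor_comm a _).some ≪≫ (PnCoh.exists_projectionFormula f G ha).choose ≪≫
        (Scheme.Modules.pushforward f).mapIso (Inter.tensor_comm G _).some⟩
    simp only [List.map_cons, Inter.delta]
    rw [Inter.delta_congr k l e, delta_push_affine f hf l hl' G hG, delta_push_affine f hf l hl' _
      (Inter.isCoh_twist (PicLoc.isInvertible_pullback f ha) hG)]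

/-- Intersection numbers of powers in the critical dimension. -/
theorem delta_replicate_pow {M N : X.Modules} (hM : PicF.IsInvertible M) (hN : PicF.IsInvertible N)
    {m : ℕ} (hNM : Nonempty (N ≅ CohB1.tensorPow M m)) {F : X.Modules} (hF : Coh.IsCoh F) :
    ∀ i j : ℕ, topologicalKrullDim (CohB1.support F) ≤ ((i + j : ℕ) : WithBot ℕ∞) →
      Inter.delta k (List.replicate i N ++ List.replicate j M) F =
        (m : ℤ) ^ i * Inter.delta k (List.replicate (i + j) M) F := by
  intro i
  induction i with
  | zero => simp
  | succ i ih =>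
    intro j hdim
    have hl : ∀ x ∈ List.replicate i N ++ List.replicate j M, PicF.IsInvertible x := fun x hx => by
      rcases List.mem_append.1 hx with h | h <;> rw [List.eq_of_mem_replicate h] <;> assumption
    have hp : (M :: (List.replicate i N ++ List.replicate j M)).Perm
        (List.replicate i N ++ List.replicate (j + 1) M) := by
      rw [List.replicate_succ]
      exact List.perm_middle.symm
    rw [List.replicate_succ, List.cons_append,
      Inter.delta_congr_list k (List.Forall₂.cons hNM (List.forall₂_same.2 fun x _ => ⟨Iso.refl x⟩)),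
      Inter.delta_pow_cons k hM hl hF (by
        refine hdim.trans_eq ?_
        simp only [List.length_append, List.length_replicate]
        norm_cast
        omega) m,
      Inter.delta_perm k hp, ih (j + 1) (hdim.trans_eq (by norm_cast; omega)),
      show i + (j + 1) = i + 1 + j by omega]
    ring

/-- The top intersection numbers of a locally free module of rank `n`. -/
theorem delta_eq_rank_mul {g : ℕ} (hg : topologicalKrullDim X = g) {l : List X.Modules}
    (hl : ∀ M ∈ l, PicF.IsInvertible M) (hlg : l.length = g) {E : X.Modules} (hE : Coh.IsCoh E)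
    {n : ℕ} (hn : FlatMod.IsFinLocFreeOfRank n E) (hn0 : 0 < n) :
    Inter.delta k l E = n * Inter.delta k l (Cyc.closureStructureSheaf (genericPoint X)) := by
  have hdim : topologicalKrullDim (CohB1.support E) ≤ (l.length : ℕ) := by
    rw [hlg, ← hg]
    exact Topology.IsInducing.subtypeVal.topologicalKrullDim_le
  have hη : genericPoint X ∈ CohB1.support E := by
    intro h
    have h1 := LocFree.finrank_stalk hn (genericPoint X)
    have h2 : Module.finrank (X.presheaf.stalk (genericPoint X)) (E.presheaf.stalk (genericPoint X)) = 0 :=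
      Module.finrank_zero_of_subsingleton
    omega
  have hcl : topologicalKrullDim (closure ({genericPoint X} : Set X)) = (l.length : ℕ) := by
    rw [(genericPoint_spec X).def, hlg, ← hg]
    exact IsHomeomorph.topologicalKrullDim_eq _ (Homeomorph.Set.univ X).isHomeomorph
  rw [Inter.delta_eq_sum_length k hl hE hdim {genericPoint X} (fun ξ => ?_), Finset.sum_singleton]
  · congr 1
    let : Field (X.presheaf.stalk (genericPoint X)) := inferInstanceAs (Field X.functionField)
    have h1 := LocFree.finrank_stalk hn (genericPoint X)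
    have : Module.Finite (X.presheaf.stalk (genericPoint X)) (E.presheaf.stalk (genericPoint X)) :=
      Module.finite_of_finrank_pos (h1 ▸ hn0)
    rw [Module.length_eq_finrank, h1, ENat.toNat_natCast]
  · rw [Finset.mem_singleton]
    refine ⟨fun h => h ▸ ⟨hη, hcl⟩, fun h => ?_⟩
    exact (Inter.eq_of_dim_closure (y := genericPoint X) (by
      rw [(genericPoint_spec X).def]; trivial) hcl.le h.2.ge)

end Push

variable {k : Type u} [Field k] {A : Over (Spec (CommRingCat.of k))} [GrpObj A]

/-- The pull-back of a symmetric class along the `d`-th power. -/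
theorem opull_zpow_symm [IsProper A.hom] [GeometricallyIntegral A.hom] (c : PicLoc.PicSet A.left)
    (hc : opull (𝟙 A)⁻¹ c = c) (d : ℤ) : opull (𝟙 A ^ d : A ⟶ A) c = c ^ (d.natAbs ^ 2) := by
  have key : ∀ n : ℕ, (n + 1).choose 2 + n.choose 2 = n ^ 2 := fun n => by
    induction n with
    | zero => rfl
    | succ n ih =>
      rw [Nat.choose_succ_succ' (n + 1) 1, Nat.choose_one_right,
        Nat.choose_succ_succ' n 1, Nat.choose_one_right] at *
      nlinarith [ih]
  obtain ⟨n, rfl | rfl⟩ := Int.eq_nat_or_neg d
  · rw [zpow_natCast, opull_pow, opull_id, hc, ← pow_add, key, Int.natAbs_natCast]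
  · rw [zpow_neg, zpow_natCast, ← inv_pow, opull_pow, _root_.inv_inv, opull_id, hc, ← pow_add, key,
      Int.natAbs_neg, Int.natAbs_natCast]

/-- **The degree of multiplication by a nonzero integer.** -/
theorem finrank_zpow [IsProper A.hom] [GeometricallyIntegral A.hom] {g : ℕ}
    (hg : topologicalKrullDim A.left = g) {d : ℤ} (hd : d ≠ 0) (a : A.left) :
    Scheme.Hom.finrank (𝟙 A ^ d : A ⟶ A).left a = d.natAbs ^ (2 * g) := by
  obtain ⟨h1, h2, h3⟩ := isogeny_zpow (A := A) hd
  have := Groth.Abvar.isIntegral_left A
  letI : A.left.Over (Spec (CommRingCat.of k)) := ⟨A.hom⟩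
  haveI : IsProper (A.left ↘ Spec (CommRingCat.of k)) := ‹IsProper A.hom›
  have : IsLocallyNoetherian A.left := LocallyOfFiniteType.isLocallyNoetherian A.hom
  set f := (𝟙 A ^ d : A ⟶ A).left
  have hf : f ≫ (A.left ↘ Spec (CommRingCat.of k)) = A.left ↘ Spec (CommRingCat.of k) := Over.w _
  have : LocallyOfFinitePresentation f := Groth.AlgGrp1.lfp_left (𝟙 A ^ d : A ⟶ A)
  have hconst : ∀ y, f.finrank y = f.finrank a := fun y =>
    (f.isLocallyConstant_finrank.apply_eq_of_preconnectedSpace y a)
  have hpos : 0 < f.finrank a := (Scheme.Hom.one_le_finrank_iff_surjective f).2 h3 a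
  have hE := Pi1FEt.isFinLocFreeOfRank_of_finrank f (f.finrank a) hconst
  obtain ⟨L, hL, ⟨eL⟩⟩ := exists_symmetric_isAmple (A := A)
  obtain ⟨M, hM, hLM⟩ := PicAux.exists_isInverseOf hL.1
  have hc : opull (𝟙 A)⁻¹ (cls hM) = cls hM := by
    have e1 : opull (𝟙 A)⁻¹ (cls hL.1) = cls hL.1 := by
      rw [pull_cls _ hL.1, ← nonempty_iso_iff]; exact ⟨eL.symm⟩
    have e2 : cls hL.1 * cls hM = 1 := by
      rw [← cls_tensorMod hL.1 hM, ← nonempty_iso_structure_iff]; exact hLM
    rw [eq_inv_of_mul_eq_one_right e2, map_inv, e1]
  have hpull := PicLoc.isInvertible_pullback f hM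
  have hpow : Nonempty ((Scheme.Modules.pullback f).obj M ≅ CohB1.tensorPow M (d.natAbs ^ 2)) := by
    rw [nonempty_iso_iff hpull (isInvertible_tensorPow hM _), cls_tensorPow hM, ← pull_cls _ hM]
    exact opull_zpow_symm _ hc d
  have hO : FlatMod.IsFinLocFreeOfRank 1 (Coh.structureModule A.left) :=
    LocFree.isInvertible_iff_ofRank_one.1 (PicLoc.isInvertible_structureModule A.left)
  have hOc : Coh.IsCoh (Coh.structureModule A.left) := QCohMod.isCoh_unit
  have hdim : topologicalKrullDim (CohB1.support (Coh.structureModule A.left)) ≤ ((g + 0 : ℕ) : WithBot ℕ∞) := by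
    rw [Nat.add_zero, ← hg]
    exact Topology.IsInducing.subtypeVal.topologicalKrullDim_le
  have hrep : ∀ N ∈ List.replicate g M, PicF.IsInvertible N := fun N hN =>
    (List.eq_of_mem_replicate hN).symm ▸ hM
  have key := delta_push_affine k f hf (List.replicate g M) hrep _ hOc
  rw [delta_eq_rank_mul k hg hrep List.length_replicate
      (Cycles.isCoh_push_of_isFinite f hOc) hE hpos,
    List.map_replicate] at key
  have key2 := delta_replicate_pow k hM hpull hpow hOc g 0 hdim
  rw [List.replicate_zero, List.append_nil, Nat.add_zero] at key2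
  rw [key2, delta_eq_rank_mul k hg hrep List.length_replicate hOc hO one_pos, Nat.cast_one,
    _root_.one_mul] at key
  have hD := Inter.delta_pos_of_isAmple k hL hLM (genericPoint A.left) g (by
    rw [(genericPoint_spec A.left).def, ← hg]
    exact IsHomeomorph.topologicalKrullDim_eq _ (Homeomorph.Set.univ A.left).isHomeomorph)
  have := mul_right_cancel₀ hD.ne' key
  rw [Nat.cast_pow, ← pow_mul] at this
  exact_mod_cast this

end Groth.AbVarMul
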