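import Groth.Agent.AbVarMul.Relative
import Groth.Agent.AbVarMul.Degree

/-!
# The degree of multiplication by `n` on an abelian scheme
-/

universe u

open CategoryTheory Limits MonoidalCategory CartesianMonoidalCategory MonObj GrpObj AlgebraicGeometry
  TopologicalSpace

namespace Groth.AbVarMul

variable {S : Scheme.{u}} {X : Over S} [GrpObj X] [IsProper X.hom] [Flat X.hom]
  [LocallyOfFinitePresentation X.hom] [GeometricallyReduced X.hom] [GeometricallyConnected X.hom]

set_option backward.isDefEq.respectTransparency false in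
set_option synthInstance.maxHeartbeats 400000 in
/-- The rank of `[d]` over the unit section. -/
theorem finrank_zpow_absch {d : ℤ} (hd : d ≠ 0) (g : S → ℕ)
    (hg : ∀ s : S, topologicalKrullDim ↥(X.hom.fiber s) = g s) (s : S) :
    Scheme.Hom.finrank (𝟙 X ^ d : X ⟶ X).left (η[X].left s) = d.natAbs ^ (2 * g s) := by
  obtain ⟨h1, h2, -⟩ := isogeny_zpow_absch (X := X) hd
  let t := S.fromSpecResidueField s
  letI : GrpObj ((Over.pullback t).obj X) := Functor.grpObjObj
  have : IsProper ((Over.pullback t).obj X).hom := inferInstanceAs (IsProper (pullback.snd _ _))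
  have : GeometricallyIntegral ((Over.pullback t).obj X).hom := geometricallyIntegral_fibre s
  set f : X ⟶ X := 𝟙 X ^ d with hf
  have e : (Over.pullback t).map f = 𝟙 _ ^ d := by
    have := ((Over.pullback t).homMonoidHom (X := X) (M := X)).map_zpow (𝟙 X) d
    simpa [hf] using this
  have sq := GrpschAbsch.FibreFlat.isPullback_map t f
  obtain ⟨y, hy⟩ : η[X].left s ∈ Set.range (X.hom.fiberι s).base := by
    rw [Scheme.Hom.range_fiberι]
    show X.hom (η[X].left s) = s
    rw [← Scheme.Hom.comp_apply, Over.w η[X]]
    rfl
  rw [← hy]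
  refine (Scheme.Hom.finrank_of_isPullback _ _ f.left (pullback.fst X.hom t) sq.flip.flip y).symm.trans ?_
  rw [e]
  exact finrank_zpow (k := S.residueField s) (A := (Over.pullback t).obj X) (hg s) hd y

end Groth.AbVarMul
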