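import Groth.Agent.AbVarMul.Torsion
import Groth.Agent.AbVarMul.KernelComp
import Groth.Agent.Abvar.Hom

/-!
# Density of the `l`-power torsion points
-/

universe u

open CategoryTheory Limits MonoidalCategory CartesianMonoidalCategory MonObj GrpObj AlgebraicGeometry
  TopologicalSpace
open AbDual
open Groth.NeronArea.FieldComponents (pp pp_comp)

namespace Groth.AbVarMul

variable {k : Type u} [Field k] [IsAlgClosed k]

local notation "pt" => (𝟙_ (Over (Spec (CommRingCat.of k))))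

/-- The closure of a group of points is stable under the group operations. -/
theorem closure_pp_mul_inv {A : Over (Spec (CommRingCat.of k))} [GrpObj A]
    (H : Subgroup (pt ⟶ A)) :
    (∀ x y : pt ⟶ A, pp x ∈ closure (pp '' (H : Set (pt ⟶ A))) →
      pp y ∈ closure (pp '' (H : Set (pt ⟶ A))) → pp (x * y) ∈ closure (pp '' (H : Set (pt ⟶ A)))) ∧
    (∀ x : pt ⟶ A, pp x ∈ closure (pp '' (H : Set (pt ⟶ A))) →
      pp x⁻¹ ∈ closure (pp '' (H : Set (pt ⟶ A)))) := by
  set F := closure (pp '' (H : Set (pt ⟶ A))) with hF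
  have hmap : ∀ (f : A ⟶ A), (∀ h ∈ H, pp (h ≫ f) ∈ F) → ∀ x : pt ⟶ A, pp x ∈ F → pp (x ≫ f) ∈ F := by
    intro f hf x hx
    have hsub : F ⊆ f.left.base ⁻¹' F := closure_minimal (by
      rintro _ ⟨h, hh, rfl⟩
      exact hf h hh) (isClosed_closure.preimage f.left.continuous)
    exact hsub hx
  have hH : ∀ h ∈ H, pp h ∈ F := fun h hh => subset_closure ⟨h, hh, rfl⟩
  have hR : ∀ (a x : pt ⟶ A), x ≫ (𝟙 A * (toUnit A ≫ a)) = x * a := fun a x => by
    rw [MonObj.comp_mul, Category.comp_id, ← Category.assoc, toUnit_unique (x ≫ toUnit A) (𝟙 _),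
      Category.id_comp]
  have hL : ∀ (a x : pt ⟶ A), x ≫ ((toUnit A ≫ a) * 𝟙 A) = a * x := fun a x => by
    rw [MonObj.comp_mul, Category.comp_id, ← Category.assoc, toUnit_unique (x ≫ toUnit A) (𝟙 _),
      Category.id_comp]
  refine ⟨fun x y hx hy => ?_, fun x hx => ?_⟩
  · have step : ∀ h ∈ H, pp (h * y) ∈ F := fun h hh => by
      rw [← hL]
      exact hmap _ (fun h' hh' => by rw [hL]; exact hH _ (H.mul_mem hh hh')) y hy
    rw [← hR]
    exact hmap _ (fun h hh => by rw [hR]; exact step h hh) x hx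
  · have e : ∀ z : pt ⟶ A, z ≫ (𝟙 A)⁻¹ = z⁻¹ := fun z => by rw [GrpObj.comp_inv, Category.comp_id]
    rw [← e]
    exact hmap _ (fun h hh => by rw [e]; exact hH _ (H.inv_mem hh)) x hx

variable {A : Over (Spec (CommRingCat.of k))} [GrpObj A] [IsCommMonObj A] [IsProper A.hom]
  [GeometricallyIntegral A.hom]

/-- A closed immersion of an abelian variety through which all `l`-power torsion points factor up
to a bounded power is surjective. -/
theorem surjective_of_torsion_pow {l : ℕ} [Fact l.Prime] (hl : (l : k) ≠ 0)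
    {C : Over (Spec (CommRingCat.of k))} [GrpObj C] [IsCommMonObj C] [IsProper C.hom]
    [GeometricallyIntegral C.hom] (i : C ⟶ A) [IsMonHom i] [IsClosedImmersion i.left]
    {c : ℕ} (hc : 0 < c)
    (h : ∀ (n : ℕ) (a : pt ⟶ A), a ^ l ^ n = 1 → ∃ z : pt ⟶ C, z ≫ i = a ^ c) :
    Surjective i.left := by
  have hlp := (Fact.out : l.Prime)
  have : Mono i := Over.mono_of_mono_left i
  obtain ⟨v, c', hc', rfl⟩ := Nat.exists_eq_pow_mul_and_not_dvd hc.ne' l hlp.ne_one
  have hmem : ∀ a : pt ⟶ A, a ^ l = 1 → ∃ z : pt ⟶ C, z ≫ i = a := by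
    intro a ha
    obtain ⟨b, hb⟩ := exists_pow_eq (A := A) (pow_ne_zero v hlp.ne_zero) a
    obtain ⟨z, hz⟩ := h (v + 1) b (by rw [pow_succ, pow_mul, hb, ha])
    rw [pow_mul, hb] at hz
    have hcop : Nat.gcd c' l = 1 := ((Nat.Prime.coprime_iff_not_dvd hlp).2 hc').symm
    have hbez := Nat.gcd_eq_gcd_ab c' l
    rw [hcop] at hbez
    refine ⟨z ^ (Nat.gcdA c' l), ?_⟩
    rw [GrpObj.zpow_comp, hz, ← zpow_natCast, ← zpow_mul]
    conv_rhs => rw [← zpow_one a, show (1 : ℤ) = ((1 : ℕ) : ℤ) from rfl, hbez, zpow_add, zpow_mul (a := a) (m := (l : ℤ)),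
      zpow_natCast a l, ha, _root_.one_zpow, _root_.mul_one]
  obtain ⟨g, hg⟩ := Groth.FibreDim.exists_dim_eq_nat A
  obtain ⟨g', hg'⟩ := Groth.FibreDim.exists_dim_eq_nat C
  have e : Nat.card (torsPts C l pt) = Nat.card (torsPts A l pt) := by
    refine Nat.card_congr (Equiv.ofBijective (fun z => ⟨z.1 ≫ i, by
      show (z.1 ≫ i) ^ l = 1
      rw [← pow_comp', show z.1 ^ l = 1 from z.2, MonObj.one_comp]⟩) ⟨fun z w hzw => ?_, fun a => ?_⟩)
    · exact Subtype.ext ((cancel_mono i).1 (congrArg Subtype.val hzw))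
    · obtain ⟨z, hz⟩ := hmem a.1 a.2
      refine ⟨⟨z, ?_⟩, Subtype.ext hz⟩
      show z ^ l = 1
      rw [← cancel_mono i, pow_comp', hz, MonObj.one_comp]
      exact a.2
  rw [natCard_torsPts hg' hl, natCard_torsPts hg hl] at e
  have hgg : g' = g := by
    have := Nat.pow_right_injective hlp.two_le e
    omega
  have := Groth.Abvar.isIntegral_left A
  exact Groth.Abvar.Hom.surjective_of_isFinite i (by rw [hg, hg', hgg])

/-- The `l`-power torsion points are dense. -/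
theorem closure_torsion_eq_univ {l : ℕ} [Fact l.Prime] (hl : (l : k) ≠ 0) :
    closure {q : A.left | ∃ (n : ℕ) (a : pt ⟶ A), a ^ l ^ n = 1 ∧ pp a = q} = Set.univ := by
  let H : Subgroup (pt ⟶ A) :=
    { carrier := {a | ∃ n : ℕ, a ^ l ^ n = 1}
      one_mem' := ⟨0, one_pow _⟩
      mul_mem' := fun {a b} ⟨m, hm⟩ ⟨n, hn⟩ => ⟨m + n, by
        rw [mul_pow, pow_add, pow_mul, hm, one_pow, _root_.one_mul, mul_comm, pow_mul, hn, one_pow]⟩
      inv_mem' := fun {a} ⟨n, hn⟩ => ⟨n, by rw [inv_pow, hn, inv_one]⟩ }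
  have hset : {q : A.left | ∃ (n : ℕ) (a : pt ⟶ A), a ^ l ^ n = 1 ∧ pp a = q} =
      pp '' (H : Set (pt ⟶ A)) := by
    ext q
    exact ⟨fun ⟨n, a, ha, hq⟩ => ⟨a, ⟨n, ha⟩, hq⟩, fun ⟨a, ⟨n, ha⟩, hq⟩ => ⟨n, a, ha, hq⟩⟩
  rw [hset]
  obtain ⟨hmul, hinv⟩ := closure_pp_mul_inv H
  obtain ⟨C, _, i, _, _, _, _, _, hCF, ⟨c, hc, hcC⟩, -⟩ := exists_component_of_closed
    (F := closure (pp '' (H : Set (pt ⟶ A)))) isClosed_closure
    (subset_closure ⟨1, H.one_mem, rfl⟩) hmul hinv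
  have hsurj := surjective_of_torsion_pow hl i hc fun n a ha =>
    hcC a (subset_closure ⟨a, ⟨n, ha⟩, rfl⟩)
  have := LocallyOfFiniteType.jacobsonSpace C.hom
  refine Set.eq_univ_of_forall fun x => ?_
  obtain ⟨y, rfl⟩ := hsurj.surj x
  have hcl : closedPoints C.left ⊆ i.left.base ⁻¹' closure (pp '' (H : Set (pt ⟶ A))) := fun q hq => by
    obtain ⟨z, rfl⟩ := exists_point' q hq
    exact hCF z
  exact (isClosed_closure.preimage i.left.continuous).closure_subset_iff.2 hcl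
    (by rw [closure_closedPoints]; trivial)

end Groth.AbVarMul
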