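import Groth.Agent.ZetaAn.ZetaFormal
import Mathlib.RingTheory.MvPolynomial.Symmetric.FundamentalTheorem
import Mathlib.RingTheory.Polynomial.Vieta
import Mathlib.Algebra.BigOperators.Ring.Finset

/-!
# Products over subsets of the roots of an integral polynomial, and zeta functions

For the multiset of complex roots of a monic integral polynomial, the polynomials
`∏_{|I| = j} (1 - α_I t)` have integral coefficients, and point counts `∏ (1 - α ^ m)` give the zeta
function as an alternating product of them.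
-/

universe u

open CategoryTheory AlgebraicGeometry
open Groth.FunFld1 Groth.ZetaAn

namespace Groth.AbVarMul

/-- A multiset is the image of a finite type. -/
theorem exists_eq_map_univ {α : Type*} (s : Multiset α) :
    ∃ N : ℕ, Multiset.card s = N ∧ ∃ a : Fin N → α, s = (Finset.univ : Finset (Fin N)).val.map a := by
  refine ⟨s.toList.length, (Multiset.length_toList s).symm, s.toList.get, ?_⟩
  rw [Fin.univ_val_map, List.ofFn_get, Multiset.coe_toList]

theorem prod_powersetCard_map {N j : ℕ} {R S : Type*} [CommMonoid R] [CommMonoid S] (a : Fin N → R)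
    (F : R → S) :
    (((Finset.univ : Finset (Fin N)).val.map a).powersetCard j |>.map fun I => F I.prod).prod =
      ∏ t ∈ (Finset.univ : Finset (Fin N)).powersetCard j, F (∏ i ∈ t, a i) := by
  rw [Multiset.powersetCard_map, ← Finset.map_val_val_powersetCard, Multiset.map_map, Multiset.map_map]
  rfl

open Polynomial in
/-- `∏_{|I| = j} (1 - α_I t)` has integral coefficients. -/
theorem exists_int_powersetProd (P : ℤ[X]) (hP : P.Monic) (j : ℕ) :
    ∃ Q : ℤ[X], Q.map (Int.castRingHom ℂ) = (((P.map (Int.castRingHom ℂ)).roots.powersetCard j).map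
      (fun I => (1 : ℂ[X]) - C I.prod * X)).prod := by
  classical
  obtain ⟨N, hN, a, ha⟩ := exists_eq_map_univ (P.map (Int.castRingHom ℂ)).roots
  rw [ha, prod_powersetCard_map a (fun x => (1 : ℂ[X]) - C x * X)]
  let Z : (MvPolynomial (Fin N) ℤ)[X] :=
    ∏ t ∈ (Finset.univ : Finset (Fin N)).powersetCard j, (1 - C (∏ i ∈ t, MvPolynomial.X i) * X)
  let φ : MvPolynomial (Fin N) ℤ →+* ℂ := (MvPolynomial.aeval a).toRingHom
  have hZ : Z.map φ = ∏ t ∈ (Finset.univ : Finset (Fin N)).powersetCard j,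
      ((1 : ℂ[X]) - C (∏ i ∈ t, a i) * X) := by
    simp [Z, φ, Polynomial.map_prod]
  have hsym : ∀ n, (Z.coeff n).IsSymmetric := by
    intro n e
    have hZe : Z.map (MvPolynomial.rename e).toRingHom = Z := by
      simp only [Z, Polynomial.map_prod, Polynomial.map_sub, Polynomial.map_one, Polynomial.map_mul,
        Polynomial.map_X, map_C, AlgHom.toRingHom_eq_coe, RingHom.coe_coe, map_prod,
        MvPolynomial.rename_X]
      refine Finset.prod_equiv e.finsetCongr (fun t => ?_) fun t _ => ?_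
      · simp [Finset.mem_powersetCard, Equiv.finsetCongr_apply]
      · simp [Equiv.finsetCongr_apply, Finset.prod_map]
    exact (coeff_map _ n).symm.trans (congrArg (fun p => Polynomial.coeff p n) hZe)
  have hint : ∀ n, (φ (Z.coeff n)) ∈ Set.range (Int.castRingHom ℂ) := by
    intro n
    obtain ⟨q, hq⟩ := MvPolynomial.esymmAlgHom_surjective (σ := Fin N) ℤ (n := N)
      (Fintype.card_fin N).le ⟨Z.coeff n, hsym n⟩
    have hq' := congrArg Subtype.val hq
    rw [MvPolynomial.esymmAlgHom_apply] at hq'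
    rw [← show MvPolynomial.aeval (fun i : Fin N => MvPolynomial.esymm (Fin N) ℤ (i + 1)) q = Z.coeff n
      from hq']
    show MvPolynomial.aeval a _ ∈ _
    rw [← AlgHom.comp_apply, MvPolynomial.comp_aeval]
    have hv : ∀ i : Fin N, MvPolynomial.aeval a (MvPolynomial.esymm (Fin N) ℤ (i + 1)) ∈
        (Int.castRingHom ℂ).range := fun i => by
      rw [MvPolynomial.aeval_esymm_eq_multiset_esymm, ← ha]
      have hd' : Multiset.card (P.map (Int.castRingHom ℂ)).roots =
          (P.map (Int.castRingHom ℂ)).natDegree :=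
        (IsAlgClosed.splits _).natDegree_eq_card_roots.symm
      have hd : N = (P.map (Int.castRingHom ℂ)).natDegree := hN ▸ hd'
      have hi := i.2
      have h1 := coeff_eq_esymm_roots_of_card (p := P.map (Int.castRingHom ℂ)) hd'
        (k := N - (i + 1)) (by omega)
      rw [(hP.map _).leadingCoeff, _root_.one_mul, ← hd, show N - (N - (i + 1)) = (i : ℕ) + 1 by omega,
        coeff_map] at h1
      refine ⟨(-1) ^ ((i : ℕ) + 1) * P.coeff (N - (i + 1)), ?_⟩
      rw [map_mul, map_pow, map_neg, map_one, h1, ← _root_.mul_assoc, ← mul_pow, neg_one_mul, neg_neg,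
        _root_.one_pow, _root_.one_mul]
    choose v hv using hv
    refine ⟨MvPolynomial.aeval v q, ?_⟩
    rw [show (Int.castRingHom ℂ) (MvPolynomial.aeval v q) =
      ((Int.castRingHom ℂ).toIntAlgHom.comp (MvPolynomial.aeval v)) q from rfl, MvPolynomial.comp_aeval]
    exact congrArg (fun w => MvPolynomial.aeval w q) (funext hv)
  have hl : Z.map φ ∈ Polynomial.lifts (Int.castRingHom ℂ) := by
    rw [lifts_iff_coeff_lifts]
    intro n
    rw [coeff_map]
    exact hint n
  obtain ⟨Q, hQ⟩ := (Polynomial.mem_lifts _).1 hl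
  exact ⟨Q, hQ.trans hZ⟩

open PowerSeries in
/-- Point counts `∏ (1 - α ^ m)` give `Z · ∏_{j even} P_j = ∏_{j odd} P_j`. -/
theorem zeta_mul_even_eq_odd {k : Type u} [Field k] {X : Scheme.{u}}
    (f : X ⟶ Spec (CommRingCat.of k)) (s : Multiset ℂ)
    (h : ∀ m, 1 ≤ m → (Zeta.nPts f m : ℂ) = (s.map fun a => 1 - a ^ m).prod) :
    (Zeta.zetaFun f).map (algebraMap ℚ ℂ) *
        ∏ j ∈ (Finset.range (Multiset.card s + 1)).filter (fun j => Even j),
          ((((s.powersetCard j).map (fun I => (1 : Polynomial ℂ) - Polynomial.C I.prod * Polynomial.X)).prod :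
            Polynomial ℂ) : ℂ⟦X⟧) =
      ∏ j ∈ (Finset.range (Multiset.card s + 1)).filter (fun j => Odd j),
          ((((s.powersetCard j).map (fun I => (1 : Polynomial ℂ) - Polynomial.C I.prod * Polynomial.X)).prod :
            Polynomial ℂ) : ℂ⟦X⟧) := by
  classical
  obtain ⟨N, hN, a, ha⟩ := exists_eq_map_univ s
  rw [hN]
  subst ha
  let U : ℕ → Finset (Finset (Fin N)) := fun j => (Finset.univ : Finset (Fin N)).powersetCard j
  have hP : ∀ j, (((((Finset.univ : Finset (Fin N)).val.map a).powersetCard j).map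
      (fun I => (1 : Polynomial ℂ) - Polynomial.C I.prod * Polynomial.X)).prod : Polynomial ℂ) =
      ∏ t ∈ U j, ((1 : Polynomial ℂ) - Polynomial.C (∏ i ∈ t, a i) * Polynomial.X) := fun j =>
    prod_powersetCard_map a (fun x => (1 : Polynomial ℂ) - Polynomial.C x * Polynomial.X)
  simp only [hP]
  have hlog : ∀ J : Finset ℕ, HasLog
      (∏ j ∈ J, ((∏ t ∈ U j, ((1 : Polynomial ℂ) - Polynomial.C (∏ i ∈ t, a i) * Polynomial.X) :
        Polynomial ℂ) : ℂ⟦X⟧))
      (∑ j ∈ J, ∑ t ∈ U j, -geom (∏ i ∈ t, a i)) := fun J => by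
    refine HasLog.prod J fun j _ => ?_
    rw [← Polynomial.coeToPowerSeries.ringHom_apply, map_prod]
    refine HasLog.prod _ fun t _ => ?_
    rw [Polynomial.coeToPowerSeries.ringHom_apply, Polynomial.coe_sub, Polynomial.coe_one,
      Polynomial.coe_mul, Polynomial.coe_C, Polynomial.coe_X]
    exact hasLog_one_sub (∏ i ∈ t, a i)
  have hcc : ∀ J : Finset ℕ, constantCoeff
      (∏ j ∈ J, ((∏ t ∈ U j, ((1 : Polynomial ℂ) - Polynomial.C (∏ i ∈ t, a i) * Polynomial.X) :
        Polynomial ℂ) : ℂ⟦X⟧)) = 1 := fun J => by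
    rw [map_prod]
    refine Finset.prod_eq_one fun j _ => ?_
    rw [Polynomial.constantCoeff_coe, ← Polynomial.constantCoeff_apply, map_prod]
    refine Finset.prod_eq_one fun t _ => ?_
    simp
  obtain ⟨hl, hc⟩ := hasLog_zetaFun f
  refine HasLog.eq (hl.mul (hlog _)) ?_ (by rw [map_mul, hc, hcc, _root_.one_mul]) (hcc _)
  convert hlog ((Finset.range (N + 1)).filter (fun j => Odd j)) using 1
  ext m
  simp only [map_add, map_sum, map_neg]
  rcases m with - | m
  · simp [geom]
  simp only [coeff_geom m.succ_ne_zero, coeff_mk, if_neg m.succ_ne_zero, Finset.sum_neg_distrib]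
  have hsum : (Zeta.nPts f (m + 1) : ℂ) =
      ∑ j ∈ Finset.range (N + 1), (-1 : ℂ) ^ j * ∑ t ∈ U j, (∏ i ∈ t, a i) ^ (m + 1) := by
    rw [h (m + 1) m.succ_pos, Multiset.map_map]
    show ∏ i, (1 - a i ^ (m + 1)) = _
    simp_rw [sub_eq_add_neg]
    rw [Finset.prod_one_add, Finset.sum_powerset, Finset.card_fin]
    refine Finset.sum_congr rfl fun j _ => ?_
    rw [Finset.mul_sum]
    refine Finset.sum_congr rfl fun t ht => ?_
    rw [Finset.prod_neg, (Finset.mem_powersetCard.1 ht).2, Finset.prod_pow]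
  have hsplit := Finset.sum_filter_add_sum_filter_not (Finset.range (N + 1)) (fun j => Even j)
    (fun j => (-1 : ℂ) ^ j * ∑ t ∈ U j, (∏ i ∈ t, a i) ^ (m + 1))
  have he : ∑ j ∈ (Finset.range (N + 1)).filter (fun j => Even j),
      (-1 : ℂ) ^ j * ∑ t ∈ U j, (∏ i ∈ t, a i) ^ (m + 1) =
      ∑ j ∈ (Finset.range (N + 1)).filter (fun j => Even j), ∑ t ∈ U j, (∏ i ∈ t, a i) ^ (m + 1) :=
    Finset.sum_congr rfl fun j hj => by rw [(Finset.mem_filter.1 hj).2.neg_one_pow, _root_.one_mul]
  have ho : ∑ j ∈ (Finset.range (N + 1)).filter (fun j => ¬ Even j),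
      (-1 : ℂ) ^ j * ∑ t ∈ U j, (∏ i ∈ t, a i) ^ (m + 1) =
      ∑ j ∈ (Finset.range (N + 1)).filter (fun j => Odd j), -∑ t ∈ U j, (∏ i ∈ t, a i) ^ (m + 1) :=
    Finset.sum_congr (Finset.filter_congr fun j _ => Nat.not_even_iff_odd) fun j hj => by
      rw [(Finset.mem_filter.1 hj).2.neg_one_pow, neg_one_mul]
  rw [he, ho, ← hsum, Finset.sum_neg_distrib] at hsplit
  linear_combination -hsplit

end Groth.AbVarMul
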