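import Groth.Agent.FrobLCI.Kunz
import Mathlib.RingTheory.LocalRing.Length

/-!
# The dimension of `R ⧸ m^[p]` for a regular local algebra with residue field the ground field
-/

universe u

open IsLocalRing

namespace Groth.AbVarMul

variable {k : Type u} [Field k] {R : Type u} [CommRing R] [IsLocalRing R] [Algebra k R]

/-- Lengths are dimensions when the residue field is the ground field. -/
theorem finite_and_finrank_eq_length (hres : Function.Surjective ((residue R).comp (algebraMap k R)))
    {M : Type u} [AddCommGroup M] [Module R M] [Module k M] [IsScalarTower k R M]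
    (hM : IsFiniteLength R M) :
    Module.Finite k M ∧ (Module.finrank k M : ℕ∞) = Module.length R M := by
  rename_i i1 i2
  revert i1 i2
  induction hM with
  | of_subsingleton =>
    intro _ _
    exact ⟨inferInstance, by rw [Module.finrank_zero_of_subsingleton, Module.length_eq_zero]; rfl⟩
  | @of_simple_quotient M _ _ N hs hN ih =>
    intro _ _
    obtain ⟨hfin, hlen⟩ := @ih inferInstance inferInstance
    obtain ⟨m, hm, ⟨e⟩⟩ := isSimpleModule_iff_quot_maximal.mp hs
    obtain rfl := IsLocalRing.eq_maximalIdeal hm
    have hb : Function.Bijective (Algebra.linearMap k (R ⧸ maximalIdeal R)) := by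
      refine ⟨(algebraMap k (R ⧸ maximalIdeal R)).injective, fun x => ?_⟩
      obtain ⟨c, hc⟩ := hres x
      exact ⟨c, hc⟩
    let e' : (M ⧸ N) ≃ₗ[k] k :=
      (e.restrictScalars k).trans (LinearEquiv.ofBijective _ hb).symm
    have : Module.Finite k (M ⧸ N) := Module.Finite.equiv e'.symm
    have hq : Module.finrank k (M ⧸ N) = 1 := by rw [e'.finrank_eq, Module.finrank_self]
    have : Module.Finite k ↥(N.restrictScalars k) := hfin
    have : Module.Finite k (M ⧸ N.restrictScalars k) :=
      Module.Finite.equiv (Submodule.Quotient.restrictScalarsEquiv k N).symm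
    have : Module.Finite k M := Module.Finite.of_submodule_quotient (N.restrictScalars k)
    refine ⟨this, ?_⟩
    have h := (N.restrictScalars k).finrank_quotient_add_finrank
    rw [(Submodule.Quotient.restrictScalarsEquiv k N).finrank_eq, hq] at h
    rw [← h, Module.length_eq_add_of_exact N.subtype N.mkQ N.injective_subtype N.mkQ_surjective
      (LinearMap.exact_subtype_mkQ N), Module.length_eq_one R (M ⧸ N), Nat.cast_add, Nat.cast_one,
      add_comm, ← hlen]
    rfl

variable (p : ℕ) [Fact p.Prime] [CharP R p]

/-- The ideal generated by the `p`-th powers of the maximal ideal. -/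
def frobIdeal : Ideal R := (maximalIdeal R).map (frobenius R p)

theorem mem_frobIdeal {y : R} (hy : y ∈ maximalIdeal R) : y ^ p ∈ frobIdeal (R := R) p :=
  Ideal.mem_map_of_mem (frobenius R p) hy

theorem frobIdeal_le_maximalIdeal : frobIdeal (R := R) p ≤ maximalIdeal R :=
  Ideal.map_le_iff_le_comap.2 fun _ ha => Ideal.pow_mem_of_mem _ ha p (Fact.out : p.Prime).pos

/-- `dim R ⧸ m^[p] = p ^ (dim R)` for a regular local ring with residue field the ground field. -/
theorem finrank_quotient_frobIdeal [IsRegularLocalRing R]
    (hres : Function.Surjective ((residue R).comp (algebraMap k R))) {g : ℕ}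
    (hg : ringKrullDim R = g) :
    Module.Finite k (R ⧸ frobIdeal (R := R) p) ∧
      Module.finrank k (R ⧸ frobIdeal (R := R) p) = p ^ g := by
  classical
  have hn : (maximalIdeal R).spanFinrank = g := by
    have := IsRegularLocalRing.spanFinrank_maximalIdeal (R := R)
    rw [hg] at this
    exact_mod_cast this
  have hfg : (maximalIdeal R).FG := IsNoetherian.noetherian _
  have hfin := Submodule.FG.finite_generators hfg
  have hcard : hfin.toFinset.card = g := by
    rw [← hn, ← Submodule.FG.generators_ncard hfg, Set.ncard_eq_toFinset_card _ hfin]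
  let x : Fin g → R := fun i => (hfin.toFinset.equivFin.symm (Fin.cast hcard.symm i)).1
  have hr : Set.range x = Submodule.generators (maximalIdeal R) := by
    ext y
    constructor
    · rintro ⟨i, rfl⟩
      exact hfin.mem_toFinset.1 (hfin.toFinset.equivFin.symm _).2
    · intro hy
      exact ⟨Fin.cast hcard (hfin.toFinset.equivFin ⟨y, hfin.mem_toFinset.2 hy⟩), by simp [x]⟩
  have hx : Ideal.span (Set.range x) = maximalIdeal R := by
    rw [hr]
    exact Submodule.span_generators _
  have hJ : frobIdeal (R := R) p = Ideal.span (Set.range fun i => x i ^ p) := by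
    rw [frobIdeal, ← hx, Ideal.map_span, ← Set.range_comp]
    rfl
  have h := Groth.Kunz.len_powers x hx _ (fun _ => p) rfl (fun _ => (Fact.out : p.Prime).one_le)
    (by simpa using Groth.Kunz.indep_pow p (Groth.Kunz.flat_frobenius_of_isRegularLocalRing p) x hx hn 1)
  rw [Finset.prod_const, Finset.card_univ, Fintype.card_fin] at h
  have hfl : IsFiniteLength R (R ⧸ frobIdeal (R := R) p) := by
    rw [← Module.length_ne_top_iff]
    intro htop
    have h' : (Module.length R (R ⧸ Ideal.span (Set.range fun i => x i ^ p))).toNat = p ^ g := h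
    rw [← hJ, htop, ENat.toNat_top] at h'
    exact pow_ne_zero g (Fact.out : p.Prime).ne_zero h'.symm
  obtain ⟨h1, h2⟩ := finite_and_finrank_eq_length hres hfl
  refine ⟨h1, ?_⟩
  have h' : (Module.length R (R ⧸ frobIdeal (R := R) p)).toNat = p ^ g := by rw [hJ]; exact h
  rw [← h2, ENat.toNat_natCast] at h'
  exact h'

end Groth.AbVarMul
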