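import Groth.Agent.Abvar.PosInv
import Mathlib.LinearAlgebra.Semisimple
import Mathlib.LinearAlgebra.BilinearForm.Orthogonal

/-!
# Similitudes of positive definite forms
-/

open Polynomial

namespace Groth.AbVarMul.Similitude

variable {V : Type*} [AddCommGroup V] [Module ℚ V] [FiniteDimensional ℚ V]
  {B : LinearMap.BilinForm ℚ V} {M : Module.End ℚ V} {q : ℚ}

theorem bijective (hpos : ∀ a, a ≠ 0 → 0 < B a a) (hM : ∀ x y, B (M x) (M y) = q * B x y)
    (hq : 0 < q) : Function.Bijective M := by
  have hinj : Function.Injective M := by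
    rw [injective_iff_map_eq_zero]
    intro x hx
    by_contra hx0
    have h := hM x x
    rw [hx, map_zero] at h
    exact (mul_pos hq (hpos x hx0)).ne h
  exact ⟨hinj, LinearMap.surjective_of_injective hinj⟩

/-- A similitude of a positive definite form is semisimple. -/
theorem isSemisimple (hB : B.IsSymm) (hpos : ∀ a, a ≠ 0 → 0 < B a a)
    (hM : ∀ x y, B (M x) (M y) = q * B x y) (hq : 0 < q) : M.IsSemisimple := by
  rw [Module.End.isSemisimple_iff]
  intro p hp
  rw [Module.End.mem_invtSubmodule_iff_forall_mem_of_mem] at hp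
  refine ⟨B.orthogonal p, ?_, ?_⟩
  · rw [Module.End.mem_invtSubmodule_iff_forall_mem_of_mem]
    intro u hu w hw
    -- `M` maps `p` onto itself
    obtain ⟨w', hw', rfl⟩ : ∃ w' ∈ p, M w' = w := by
      have hinj : Function.Injective (M.restrict hp) := fun a b h =>
        Subtype.ext ((bijective hpos hM hq).1 (congrArg Subtype.val h))
      obtain ⟨⟨w', hw'⟩, h⟩ := LinearMap.surjective_of_injective hinj ⟨w, hw⟩
      exact ⟨w', hw', congrArg Subtype.val h⟩
    show B (M w') (M u) = 0
    rw [hM, show B w' u = 0 from hu w' hw', mul_zero]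
  · refine (LinearMap.BilinForm.restrict_nondegenerate_iff_isCompl_orthogonal hB.isRefl).1
      ⟨?_, ?_⟩
    all_goals
      intro x hx
      by_contra hx0
      exact (hpos (x : V) fun h => hx0 (Subtype.ext h)).ne' (hx x)

/-- The eigenvalues of a similitude of ratio `q` have square modulus `q`. -/
theorem normSq_root (hB : B.IsSymm) (hpos : ∀ a, a ≠ 0 → 0 < B a a)
    (hM : ∀ x y, B (M x) (M y) = q * B x y) (hq : 0 < q) {z : ℂ}
    (hz : aeval z (minpoly ℚ M) = 0) : Complex.normSq z = q := by
  obtain ⟨hinj, hsurj⟩ := bijective hpos hM hq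
  have hint : IsIntegral ℚ M := Algebra.IsIntegral.isIntegral M
  set m := minpoly ℚ M
  have hm0 : m.coeff 0 ≠ 0 := by
    intro h0
    obtain ⟨r, hr⟩ := X_dvd_iff.2 h0
    have hMr : aeval M r = 0 := by
      refine LinearMap.ext fun v => hinj ?_
      have h := congrArg (fun p => aeval M p v) hr
      simp only [m, minpoly.aeval, map_mul, aeval_X, LinearMap.zero_apply, Module.End.mul_apply] at h
      rw [← h, LinearMap.zero_apply, map_zero]
    have hr0 : r ≠ 0 := fun h => minpoly.ne_zero hint (by rw [show minpoly ℚ M = X * r from hr, h, mul_zero])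
    have hdeg := natDegree_le_of_dvd (minpoly.dvd ℚ M hMr) hr0
    rw [show minpoly ℚ M = X * r from hr, natDegree_mul X_ne_zero hr0, natDegree_X] at hdeg
    omega
  set pN : ℚ[X] := -C (m.coeff 0)⁻¹ * m.divX
  set N := aeval M pN with hN
  have hXN : X * pN = 1 - C (m.coeff 0)⁻¹ * m := by
    have h1 := X_mul_divX_add m
    have h2 : C (m.coeff 0)⁻¹ * C (m.coeff 0) = 1 := by
      rw [← C_mul, inv_mul_cancel₀ hm0, C_1]
    linear_combination (norm := (simp only [pN]; ring)) h2 - C (m.coeff 0)⁻¹ * h1
  have hMN : ∀ v, M (N v) = v := fun v => by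
    have h := congrArg (fun p => aeval M p v) hXN
    simpa [m, map_mul, minpoly.aeval] using h
  have hadj : ∀ a b, q * B (N a) b = B a (M b) := fun a b => by rw [← hM, hMN]
  have hzm : z * aeval z pN = 1 := by
    have h := congrArg (aeval z) hXN
    simpa [hz] using h
  -- the self-adjoint and the skew part
  have hmap : ∀ p : ℚ[X], aeval (aeval z p) (minpoly ℚ (aeval M p)) = 0 := fun p => by
    rw [← aeval_comp]
    obtain ⟨r, hr⟩ := minpoly.dvd ℚ M
      (show aeval M ((minpoly ℚ (aeval M p)).comp p) = 0 by rw [aeval_comp, minpoly.aeval])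
    rw [hr, map_mul, hz, zero_mul]
  set T := aeval M (X + C q * pN) with hT
  have hTa : ∀ a, T a = M a + q • N a := fun a => by
    simp [T, N, Module.algebraMap_end_apply, Module.End.mul_apply]
  obtain ⟨hT1, -⟩ := Groth.Abvar.PosInv.root_real B hB hpos T (fun a b => by
    rw [hTa, hTa, map_add, map_smul, LinearMap.add_apply, LinearMap.smul_apply, map_add, map_smul,
      smul_eq_mul, smul_eq_mul, hB.eq (M a) b, hB.eq a (N b), hadj, hadj, hB.eq b (M a)]
    ring) _ (hmap _)
  set S := aeval M (X - C q * pN) with hS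
  have hSa : ∀ a, S a = M a - q • N a := fun a => by
    simp [S, N, Module.algebraMap_end_apply, Module.End.mul_apply]
  have hskew : ∀ a b, B (S a) b = -B a (S b) := fun a b => by
    rw [hSa, hSa, map_sub, map_smul, LinearMap.sub_apply, LinearMap.smul_apply, map_sub, map_smul,
      smul_eq_mul, smul_eq_mul, hB.eq (M a) b, hB.eq a (N b), hadj, hadj, hB.eq b (M a)]
    ring
  have hU : aeval M (-(X - C q * pN) ^ 2) = -(S ^ 2) := by rw [map_neg, map_pow]
  obtain ⟨hU1, hU2⟩ := Groth.Abvar.PosInv.root_real B hB hpos (aeval M (-(X - C q * pN) ^ 2))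
    (fun a b => by
      rw [hU, LinearMap.neg_apply, LinearMap.neg_apply, pow_two, Module.End.mul_apply,
        Module.End.mul_apply, map_neg, LinearMap.neg_apply, map_neg, hskew, hskew, neg_neg]) _ (hmap _)
  have hU3 := hU2 fun a => by
    rw [hU, LinearMap.neg_apply, pow_two, Module.End.mul_apply, map_neg, LinearMap.neg_apply, hskew,
      neg_neg]
    rcases eq_or_ne (S a) 0 with h | h
    · simp [h]
    · exact (hpos _ h).le
  set y : ℂ := (q : ℂ) * aeval z pN with hy
  have hzy : z * y = (q : ℂ) := by rw [hy, mul_left_comm, hzm, mul_one]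
  simp only [map_add, map_sub, map_mul, map_pow, map_neg, aeval_X, aeval_C, eq_ratCast,
    ← hy] at hT1 hU1 hU3
  -- `y` is the complex conjugate of `z`
  simp only [pow_two, Complex.neg_re, Complex.mul_re, Complex.neg_im, Complex.mul_im, Complex.sub_re,
    Complex.sub_im, Complex.add_im] at hT1 hU1 hU3
  have hre : y.re = z.re := by
    by_contra hne
    have hd : z.re - y.re ≠ 0 := fun h => hne (by linarith)
    have h2 : (z.re - y.re) * (z.im - y.im) = 0 := by linarith
    have hi : z.im - y.im = 0 := (mul_eq_zero.1 h2).resolve_left hd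
    rw [hi] at hU3
    nlinarith [sq_pos_of_ne_zero hd]
  have him : y.im = -z.im := by linarith
  have h := congrArg Complex.re hzy
  rw [Complex.mul_re, Complex.ratCast_re, hre, him] at h
  rw [Complex.normSq_apply]
  linarith

end Groth.AbVarMul.Similitude
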