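import Groth.Agent.AbVarMul.HomFormFrob
import Groth.Agent.AbVarMul.Similitude
import Groth.Agent.AbVarMul.DegPolyApps
import Groth.Agent.Abvar.Dual.FrobPull
import Mathlib.LinearAlgebra.BilinearForm.TensorProduct

/-!
# The Riemann hypothesis for abelian varieties over finite fields

Composition with the Frobenius endomorphism multiplies the positive definite form on `End(A)` by
`q`; so the Frobenius is semisimple and its eigenvalues have absolute value `√q`.
-/

universe u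

open CategoryTheory MonoidalCategory CartesianMonoidalCategory MonObj GrpObj AlgebraicGeometry
open Polynomial TensorProduct
open Groth.Abvar Groth.Abvar.PicCalc

namespace Groth.AbVarMul

section Form

variable {E : Type*} [Ring E] [Module.Free ℤ E] [Module.Finite ℤ E]

omit [Module.Free ℤ E] [Module.Finite ℤ E] in
theorem exists_int_smul_eq_tmul (v : ℚ ⊗[ℤ] E) :
    ∃ (n : ℤ) (a : E), n ≠ 0 ∧ n • v = (1 : ℚ) ⊗ₜ[ℤ] a := by
  induction v with
  | zero => exact ⟨1, 0, one_ne_zero, by simp⟩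
  | tmul r a =>
    refine ⟨(r.den : ℤ), r.num • a, by exact_mod_cast r.den_nz, ?_⟩
    rw [TensorProduct.smul_tmul', TensorProduct.tmul_smul, TensorProduct.smul_tmul', zsmul_eq_mul,
      zsmul_eq_mul, _root_.mul_one, Int.cast_natCast, mul_comm]
    exact congrArg (· ⊗ₜ[ℤ] a) (Rat.mul_den_eq_num r)
  | add v w hv hw =>
    obtain ⟨n, a, hn, ha⟩ := hv
    obtain ⟨m, b, hm, hb⟩ := hw
    refine ⟨n * m, m • a + n • b, mul_ne_zero hn hm, ?_⟩
    rw [smul_add, TensorProduct.tmul_add, TensorProduct.tmul_smul, TensorProduct.tmul_smul, ← ha,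
      ← hb, smul_smul, smul_smul, mul_comm m n]

/-- A positive definite form on a lattice ring with respect to which left multiplication by `x` is a
similitude makes `x` semisimple with eigenvalues of square modulus the ratio. -/
theorem squarefree_minpoly_of_similitude (b : E →+ E →+ ℤ) (hsymm : ∀ a c, b a c = b c a)
    (hpos : ∀ a, a ≠ 0 → 0 < b a a) (x : E) {q : ℕ} (hq : 0 < q)
    (hx : ∀ a c, b (x * a) (x * c) = (q : ℤ) * b a c) :
    Squarefree (minpoly ℚ ((1 : ℚ) ⊗ₜ[ℤ] x : ℚ ⊗[ℤ] E)) ∧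
      ∀ z : ℂ, aeval z (minpoly ℚ ((1 : ℚ) ⊗ₜ[ℤ] x : ℚ ⊗[ℤ] E)) = 0 → Complex.normSq z = q := by
  let b₀ : LinearMap.BilinForm ℤ E :=
    LinearMap.mk₂ ℤ (fun a c => b a c) (fun _ _ _ => by simp)
      (fun n a c => by rw [map_zsmul]; rfl) (fun _ _ _ => by simp)
      (fun n a c => by rw [map_zsmul])
  let B : LinearMap.BilinForm ℚ (ℚ ⊗[ℤ] E) := LinearMap.BilinForm.baseChange ℚ b₀
  have hB1 : ∀ a c : E, B ((1 : ℚ) ⊗ₜ[ℤ] a) ((1 : ℚ) ⊗ₜ[ℤ] c) = (b a c : ℚ) := fun a c => by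
    simp [B, b₀, LinearMap.BilinForm.baseChange_tmul]
  have hBn : ∀ (n m : ℤ) (v w : ℚ ⊗[ℤ] E) (a c : E), n • v = (1 : ℚ) ⊗ₜ[ℤ] a →
      m • w = (1 : ℚ) ⊗ₜ[ℤ] c → (n : ℚ) * (m : ℚ) * B v w = (b a c : ℚ) := fun n m v w a c ha hc => by
    rw [← hB1, ← ha, ← hc, ← Int.cast_smul_eq_zsmul ℚ, ← Int.cast_smul_eq_zsmul ℚ, map_smul,
      map_smul, LinearMap.smul_apply, smul_eq_mul, smul_eq_mul]
    ring
  have hsymmB : B.IsSymm := LinearMap.BilinForm.isSymm_def.2 fun v w => by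
    obtain ⟨n, a, hn, ha⟩ := exists_int_smul_eq_tmul v
    obtain ⟨m, c, hm, hc⟩ := exists_int_smul_eq_tmul w
    refine mul_left_cancel₀ (mul_ne_zero (Int.cast_ne_zero.2 hn) (Int.cast_ne_zero.2 hm) : (n : ℚ) * (m : ℚ) ≠ 0) ?_
    rw [hBn n m v w a c ha hc, mul_comm (n : ℚ), hBn m n w v c a hc ha, hsymm]
  have hposB : ∀ v, v ≠ 0 → 0 < B v v := fun v hv => by
    obtain ⟨n, a, hn, ha⟩ := exists_int_smul_eq_tmul v
    have hn' : (n : ℚ) ≠ 0 := Int.cast_ne_zero.2 hn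
    have ha0 : a ≠ 0 := by
      rintro rfl
      rw [TensorProduct.tmul_zero, ← Int.cast_smul_eq_zsmul ℚ] at ha
      exact hv ((smul_eq_zero.1 ha).resolve_left hn')
    have h := hBn n n v v a a ha ha
    have h2 : (0 : ℚ) < (b a a : ℚ) := Int.cast_pos.2 (hpos a ha0)
    rw [← h] at h2
    exact pos_of_mul_pos_right h2 (mul_self_nonneg _)
  let L : (ℚ ⊗[ℤ] E) →ₐ[ℚ] Module.End ℚ (ℚ ⊗[ℤ] E) := Algebra.lmul ℚ _
  set X₀ : ℚ ⊗[ℤ] E := (1 : ℚ) ⊗ₜ[ℤ] x with hX₀
  have hMB : ∀ v w, B (L X₀ v) (L X₀ w) = (q : ℚ) * B v w := fun v w => by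
    obtain ⟨n, a, hn, ha⟩ := exists_int_smul_eq_tmul v
    obtain ⟨m, c, hm, hc⟩ := exists_int_smul_eq_tmul w
    have e : ∀ (n : ℤ) (v : ℚ ⊗[ℤ] E) (a : E), n • v = (1 : ℚ) ⊗ₜ[ℤ] a →
        n • L X₀ v = (1 : ℚ) ⊗ₜ[ℤ] (x * a) := fun n v a ha => by
      rw [← map_zsmul, ha]
      show X₀ * _ = _
      rw [hX₀, Algebra.TensorProduct.tmul_mul_tmul, _root_.mul_one]
    refine mul_left_cancel₀ (mul_ne_zero (Int.cast_ne_zero.2 hn) (Int.cast_ne_zero.2 hm) : (n : ℚ) * (m : ℚ) ≠ 0) ?_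
    rw [hBn n m _ _ _ _ (e n v a ha) (e m w c hc), hx, mul_left_comm _ (q : ℚ), hBn n m v w a c ha hc]
    push_cast
    ring
  have hq' : (0 : ℚ) < q := Nat.cast_pos.2 hq
  have hmin : minpoly ℚ X₀ = minpoly ℚ (L X₀) :=
    (minpoly.algHom_eq L Algebra.lmul_injective X₀).symm
  rw [hmin]
  exact ⟨(Similitude.isSemisimple hsymmB hposB hMB hq').minpoly_squarefree,
    fun z hz => by simpa using Similitude.normSq_root hsymmB hposB hMB hq' hz⟩

end Form

variable {k : Type u} [Field k] [Finite k] {A : Over (Spec (CommRingCat.of k))} [GrpObj A]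
  [IsCommMonObj A] [IsProper A.hom] [GeometricallyIntegral A.hom] {πA : A ⟶ A} [IsMonHom πA]
  (hπle : ∀ U : A.left.Opens, U ≤ πA.left ⁻¹ᵁ U)
  (hπapp : ∀ (U : A.left.Opens) (s : Γ(A.left, U)),
    (πA.left.appLE U U (hπle U)).hom s = s ^ Nat.card k)

include hπapp in
omit [IsProper A.hom] [GeometricallyIntegral A.hom] [Finite k] [GrpObj A] [IsCommMonObj A]
  [IsMonHom πA] in
/-- Pulling back classes by the Frobenius endomorphism raises them to the `q`-th power. -/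
theorem opull_frob (c : PicLoc.PicSet A.left) : opull πA c = c ^ Nat.card k := by
  obtain ⟨L, hL, rfl⟩ := PicGrp.exists_eq_cls c
  obtain ⟨e⟩ := Groth.Abvar.Dual.FrobPull.nonempty_pullback_iso_tensorPow πA.left hπle _ hπapp hL
  show pull πA.left (cls hL) = _
  rw [pull_cls, ← cls_tensorPow hL, ← nonempty_iso_iff]
  exact ⟨e.symm⟩

include hπapp in
/-- The minimal polynomial of Frobenius in `End⁰(A)` is squarefree with roots of modulus `√q`. -/
theorem frob_minpoly :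
    Squarefree (minpoly ℚ (EndAV.toEnd0 (EndAV.End.of πA))) ∧
      ∀ z : ℂ, aeval z (minpoly ℚ (EndAV.toEnd0 (EndAV.End.of πA))) = 0 →
        Complex.normSq z = Nat.card k := by
  obtain ⟨g, hg⟩ := Groth.FibreDim.exists_dim_eq_nat A
  obtain ⟨hfree, hfin, -⟩ := free_finite_hom (A := A) (B := A) hg hg
  have : Module.Free ℤ (EndAV.End A) := hfree
  have : Module.Finite ℤ (EndAV.End A) := hfin
  obtain ⟨b, hpos, hsymm, hsim⟩ := exists_homForm_similitude (A := A) (B := A)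
  exact squarefree_minpoly_of_similitude (E := EndAV.End A) b hsymm hpos (EndAV.End.of πA)
    Nat.card_pos (hsim (EndAV.Hom.of πA) (Nat.card k) (opull_frob hπle hπapp))

omit [Finite k] in
/-- An integral polynomial killing an endomorphism, proportional to its minimal polynomial. -/
theorem exists_int_smul_minpoly (φ : EndAV.End A) :
    ∃ (q : ℤ[X]) (c : ℤ), c ≠ 0 ∧ q.map (Int.castRingHom ℚ) = c • minpoly ℚ (EndAV.toEnd0 φ) ∧
      q.eval₂ (Int.castRingHom (EndAV.End A)) φ = 0 := by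
  obtain ⟨g, hg⟩ := Groth.FibreDim.exists_dim_eq_nat A
  have : Module.Free ℤ (EndAV.End A) := (free_finite_hom (A := A) (B := A) hg hg).1
  obtain ⟨b, hbmem, hb⟩ := IsLocalization.integerNormalization_spec (nonZeroDivisors ℤ)
    (minpoly ℚ (EndAV.toEnd0 φ))
  set q := IsLocalization.integerNormalization (nonZeroDivisors ℤ) (minpoly ℚ (EndAV.toEnd0 φ))
  refine ⟨q, b, mem_nonZeroDivisors_iff_ne_zero.1 hbmem, ?_, ?_⟩
  · rw [← hb, RingHom.ext_int (algebraMap ℤ ℚ) (Int.castRingHom ℚ)]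
  have hinj : Function.Injective (EndAV.toEnd0 (A := A)) :=
    Algebra.TensorProduct.includeRight_injective Int.cast_injective
  refine hinj ?_
  show (EndAV.toEnd0 (A := A)).toRingHom _ = _
  rw [map_zero, Polynomial.hom_eval₂,
    RingHom.ext_int ((EndAV.toEnd0 (A := A)).toRingHom.comp _)
      ((algebraMap ℚ (EndAV.End0 A)).comp (algebraMap ℤ ℚ)),
    ← Polynomial.eval₂_map, hb, ← Polynomial.aeval_def]
  show Polynomial.aeval (EndAV.toEnd0 φ) ((b : ℤ) • minpoly ℚ (EndAV.toEnd0 φ)) = 0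
  rw [map_zsmul, minpoly.aeval, smul_zero]

omit [Finite k] in
/-- The roots of the degree polynomial are roots of the minimal polynomial in `End⁰`. -/
theorem aeval_minpoly_root (φ : EndAV.End A) {P : ℤ[X]}
    (hP : ∀ n : ℤ, P.eval n = homDeg (φ - (n : EndAV.End A)).toHom) {L : Type*} [Field L] [CharZero L]
    [IsAlgClosed L] {x : L} (hx : x ∈ (P.map (Int.castRingHom L)).roots) :
    aeval x (minpoly ℚ (EndAV.toEnd0 φ)) = 0 := by
  obtain ⟨q, c, hc, hq, hqφ⟩ := exists_int_smul_minpoly φ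
  have h := eval_root_degPoly_eq_zero φ hP hqφ hx
  rw [RingHom.ext_int (Int.castRingHom L) ((algebraMap ℚ L).comp (Int.castRingHom ℚ)),
    ← Polynomial.eval₂_map, hq, ← Polynomial.aeval_def, map_zsmul, zsmul_eq_mul, mul_eq_zero] at h
  exact h.resolve_left (Int.cast_ne_zero.2 hc)

include hπapp in
/-- **Weil's Riemann hypothesis.** -/
theorem normSq_root_degPoly {P : ℤ[X]}
    (hP : ∀ n : ℤ, P.eval n = homDeg (EndAV.End.of πA - (n : EndAV.End A)).toHom) {z : ℂ}
    (hz : z ∈ (P.map (Int.castRingHom ℂ)).roots) : Complex.normSq z = Nat.card k :=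
  (frob_minpoly hπle hπapp).2 z (aeval_minpoly_root _ hP hz)

end Groth.AbVarMul
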