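import Groth.Agent.AbVarMul.Basic
import Groth.Agent.Abvar.Hom
import Groth.Agent.Abvar.AlgClosedAux
import Groth.Agent.Abvar.BaseChange
import Mathlib.AlgebraicGeometry.AlgClosed.Basic

/-!
# Multiplication by a nonzero integer on an abelian variety is an isogeny
-/

universe u

open CategoryTheory Limits MonoidalCategory CartesianMonoidalCategory MonObj GrpObj AlgebraicGeometry
  TopologicalSpace

namespace Groth.AbVarMul

variable {k : Type u} [Field k] {A : Over (Spec (CommRingCat.of k))} [GrpObj A]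

section AlgClosed

variable [IsAlgClosed k] [IsProper A.hom] [GeometricallyIntegral A.hom]

omit [GeometricallyIntegral A.hom] [GrpObj A] in
/-- Morphisms from a reduced scheme of finite type agreeing at closed points are equal. -/
theorem eq_of_closedPoints {Z : Over (Spec (CommRingCat.of k))} [LocallyOfFiniteType Z.hom]
    [IsReduced Z.left] {f g : Z ⟶ A}
    (h : ∀ z : Z.left, IsClosed ({z} : Set Z.left) → f.left z = g.left z) : f = g := by
  have : LocallyOfFiniteType (f.left ≫ A.hom) := by rw [Over.w]; infer_instance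
  exact Over.OverMorphism.ext (ext_of_apply_eq A.hom Set.univ isOpen_univ.isLocallyClosed dense_univ
    (fun z _ hz => h z hz) ((Over.w f).trans (Over.w g).symm))

/-- A closed fibre of `[n]` is finite. -/
theorem finite_preimage_closed {n : ℕ} (hn : n ≠ 0) {b : A.left} (hb : IsClosed ({b} : Set A.left)) :
    ((𝟙 A ^ n : A ⟶ A).left.base ⁻¹' {b}).Finite := by
  have := GrpschAbsch.isCommMonObj_of_isProper A
  have : CompactSpace A.left := QuasiCompact.compactSpace_of_compactSpace A.hom
  have : IsLocallyNoetherian A.left := LocallyOfFiniteType.isLocallyNoetherian A.hom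
  have : AlgebraicGeometry.IsNoetherian A.left := ⟨⟩
  obtain ⟨S, hSfin, hSc, hSi, hS⟩ := NoetherianSpace.exists_finite_set_isClosed_irreducible
    (hb.preimage (𝟙 A ^ n : A ⟶ A).left.continuous)
  rw [hS]
  refine hSfin.sUnion fun T hT => Set.Subsingleton.finite ?_
  obtain ⟨Z, c, hc, hZr, hcT⟩ := Groth.Abvar.exists_reduced_on A ⟨T, hSc T hT⟩
  have hpr : IsProper (c.left ≫ A.hom) := inferInstance
  rw [Over.w] at hpr
  have : IrreducibleSpace Z.left := by
    have hTi : IsIrreducible (Set.range c.left.base) := hcT ▸ hSi T hT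
    have : Nonempty Z.left := Set.range_nonempty_iff_nonempty.1 hTi.1
    refine @IrreducibleSpace.mk _ _ ⟨?_⟩ this
    rintro _ _ hu hv ⟨x, -, hx⟩ ⟨y, -, hy⟩
    obtain ⟨u, hu', rfl⟩ := c.left.isClosedEmbedding.isInducing.isOpen_iff.1 hu
    obtain ⟨v, hv', rfl⟩ := c.left.isClosedEmbedding.isInducing.isOpen_iff.1 hv
    obtain ⟨_, ⟨z, rfl⟩, hzu, hzv⟩ := hTi.2 u v hu' hv' ⟨_, ⟨x, rfl⟩, hx⟩ ⟨_, ⟨y, rfl⟩, hy⟩
    exact ⟨z, trivial, hzu, hzv⟩
  have : AlgebraicGeometry.IsIntegral Z.left := isIntegral_of_irreducibleSpace_of_isReduced _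
  have : CompactSpace Z.left := QuasiCompact.compactSpace_of_compactSpace Z.hom
  obtain ⟨z₀, -, hz₀⟩ := IsClosed.exists_closed_singleton isClosed_univ (X := Z.left) Set.univ_nonempty
  obtain ⟨s, hs⟩ := Groth.Abvar.exists_rationalPoint Z hz₀
  have hcb : ∀ z : Z.left, (c ≫ (𝟙 A ^ n : A ⟶ A)).left z = b := by
    intro z
    have : c.left z ∈ (𝟙 A ^ n : A ⟶ A).left.base ⁻¹' {b} := by
      rw [hS]
      exact ⟨T, hT, (Set.ext_iff.1 hcT (c.left z)).1 ⟨z, rfl⟩⟩
    exact this
  have hconst : c ^ n = toUnit Z ≫ (s ≫ c) ^ n := by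
    refine eq_of_closedPoints fun z _ => ?_
    have e1 : c ^ n = c ≫ (𝟙 A ^ n : A ⟶ A) := by rw [MonObj.comp_pow, Category.comp_id]
    have e2 : (s ≫ c) ^ n = s ≫ c ≫ (𝟙 A ^ n : A ⟶ A) := by
      rw [← Category.assoc, MonObj.comp_pow, Category.comp_id]
    rw [e1, e2]
    simp only [Over.comp_left, Scheme.Hom.comp_base, TopCat.coe_comp, Function.comp_apply]
    exact (hcb z).trans (hcb _).symm
  let j : Z ⟶ A := c * (toUnit Z ≫ (s ≫ c))⁻¹
  have hj : j ^ n = 1 := by
    rw [mul_pow, inv_pow, hconst, MonObj.comp_pow, mul_inv_cancel]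
  have hsj : s ≫ j = 1 := by
    simp only [j, MonObj.comp_mul, GrpObj.comp_inv, ← Category.assoc]
    rw [toUnit_unique (s ≫ toUnit Z) (𝟙 _), Category.id_comp, mul_inv_cancel]
  have hz₀e : j.left z₀ = η[A].left.base (IsLocalRing.closedPoint k) := by
    rw [← hs]
    have := congrArg (fun f => f.left.base (IsLocalRing.closedPoint k)) hsj
    rw [Hom.one_def, toUnit_unique (toUnit (𝟙_ _)) (𝟙 _), Category.id_comp] at this
    exact this
  have hsub := subsingleton_range_of_pow_eq_one j z₀ hz₀e hn hj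
  have hj1 : j = 1 := by
    refine eq_of_closedPoints fun z _ => ?_
    rw [hsub ⟨z, rfl⟩ ⟨z₀, rfl⟩, hz₀e, Hom.one_def, Over.comp_left, Scheme.Hom.comp_apply]
    exact congrArg η[A].left.base (Subsingleton.elim (α := PrimeSpectrum k) _ _)
  rw [show T = Set.range c.left.base from hcT.symm, mul_inv_eq_one.1 hj1]
  rintro _ ⟨p, rfl⟩ _ ⟨q, rfl⟩
  simp only [Over.comp_left, Scheme.Hom.comp_base, TopCat.coe_comp, Function.comp_apply]
  rw [Subsingleton.elim (α := PrimeSpectrum k) ((toUnit Z).left.base p) ((toUnit Z).left.base q)]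

/-- Over an algebraically closed field `[n]` is finite and surjective. -/
theorem isFinite_surjective_of_isAlgClosed {n : ℕ} (hn : n ≠ 0) :
    IsFinite (𝟙 A ^ n : A ⟶ A).left ∧ Surjective (𝟙 A ^ n : A ⟶ A).left := by
  have := GrpschAbsch.isCommMonObj_of_isProper A
  have : IsMonHom (𝟙 A ^ n : A ⟶ A) := by
    rw [← zpow_natCast]; infer_instance
  set f : A ⟶ A := 𝟙 A ^ n with hf
  have : IsSeparated A.hom := inferInstance
  have : IsProper (f.left ≫ A.hom) := by rw [Over.w]; infer_instance
  have : IsProper f.left := IsProper.of_comp f.left A.hom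
  have := LocallyOfFiniteType.jacobsonSpace A.hom
  have : LocallyQuasiFinite f.left := by
    rw [← Scheme.Hom.quasiFiniteLocus_eq_top_iff]
    refine Opens.ext (Set.eq_univ_of_forall fun x => ?_)
    by_contra hx
    obtain ⟨c, hc, hcc⟩ := nonempty_inter_closedPoints (Z := (f.left.quasiFiniteLocus : Set A.left)ᶜ)
      ⟨x, hx⟩ f.left.quasiFiniteLocus.2.isClosed_compl.isLocallyClosed
    refine hc ?_
    have hy : IsClosed ({f.left c} : Set A.left) := by
      have := f.left.closePoints_subset_preimage_closedPoints hcc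
      exact this
    have : Finite (f.left.fiber (f.left c)) := by
      have := (finite_preimage_closed (A := A) hn hy).to_subtype
      exact Finite.of_equiv _ (f.left.fiberHomeo (f.left c)).toEquiv.symm
    have : JacobsonSpace (f.left.fiber (f.left c)) :=
      LocallyOfFiniteType.jacobsonSpace (f.left.fiberToSpecResidueField _)
    exact (Scheme.Hom.quasiFiniteAt_iff_isOpen_singleton_asFiber).2 (isOpen_discrete _)
  have hfin : IsFinite f.left := IsFinite.of_isProper_of_locallyQuasiFinite f.left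
  have := Groth.Abvar.isIntegral_left A
  exact ⟨hfin, Groth.Abvar.Hom.surjective_of_isFinite f rfl⟩

end AlgClosed

set_option backward.isDefEq.respectTransparency false in
/-- `[n]` is surjective. -/
theorem surjective_pow [IsProper A.hom] [GeometricallyIntegral A.hom] {n : ℕ} (hn : n ≠ 0) :
    Surjective (𝟙 A ^ n : A ⟶ A).left := by
  let K := AlgebraicClosure k
  let t : Spec (CommRingCat.of K) ⟶ Spec (CommRingCat.of k) :=
    Spec.map (CommRingCat.ofHom (algebraMap k K))
  have : Surjective t := ⟨fun x => ⟨IsLocalRing.closedPoint K,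
    Subsingleton.elim (α := PrimeSpectrum k) _ _⟩⟩
  let : GrpObj ((Over.pullback t).obj A) := Functor.grpObjObj
  have : IsProper ((Over.pullback t).obj A).hom := inferInstanceAs (IsProper (pullback.snd A.hom t))
  have : GeometricallyIntegral ((Over.pullback t).obj A).hom :=
    inferInstanceAs (GeometricallyIntegral (pullback.snd A.hom t))
  have e : (Over.pullback t).map (𝟙 A ^ n : A ⟶ A) = 𝟙 _ ^ n := by
    have := ((Over.pullback t).homMonoidHom (X := A) (M := A)).map_pow (𝟙 A) n
    simpa using this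
  have hs := (isFinite_surjective_of_isAlgClosed (A := (Over.pullback t).obj A) hn).2
  rw [← e] at hs
  have : Surjective (pullback.fst A.hom t) := inferInstance
  have w : ((Over.pullback t).map (𝟙 A ^ n : A ⟶ A)).left ≫ pullback.fst A.hom t =
      pullback.fst A.hom t ≫ (𝟙 A ^ n : A ⟶ A).left := pullback.lift_fst _ _ _
  have : Surjective (pullback.fst A.hom t ≫ (𝟙 A ^ n : A ⟶ A).left) := by
    rw [← w]; exact MorphismProperty.comp_mem _ _ _ hs ‹_›
  exact Surjective.of_comp (pullback.fst A.hom t) _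

/-- **Multiplication by a nonzero integer on an abelian variety is an isogeny.** -/
theorem isogeny_zpow [IsProper A.hom] [GeometricallyIntegral A.hom] {d : ℤ} (hd : d ≠ 0) :
    IsFinite (𝟙 A ^ d : A ⟶ A).left ∧ Flat (𝟙 A ^ d : A ⟶ A).left ∧
      Surjective (𝟙 A ^ d : A ⟶ A).left := by
  have := GrpschAbsch.isCommMonObj_of_isProper A
  have : IsMonHom (𝟙 A ^ d : A ⟶ A) := inferInstance
  have hsurj : Surjective (𝟙 A ^ d : A ⟶ A).left := by
    have hn : d.natAbs ≠ 0 := Int.natAbs_ne_zero.2 hd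
    obtain ⟨m, rfl | rfl⟩ := Int.eq_nat_or_neg d
    · rw [zpow_natCast]; exact surjective_pow (by simpa using hn)
    · have e : (𝟙 A ^ (-(m : ℤ)) : A ⟶ A) = (𝟙 A ^ m : A ⟶ A) ≫ ι[A] := by
        rw [GrpObj.inv_eq_inv, GrpObj.comp_inv, Category.comp_id, zpow_neg, zpow_natCast]
      have hι : IsIso (ι[A] : A ⟶ A).left := by
        have hιι : (ι[A] : A ⟶ A) ≫ ι[A] = 𝟙 A := by
          rw [GrpObj.inv_eq_inv, GrpObj.comp_inv, Category.comp_id, _root_.inv_inv]
        have : IsIso (ι[A] : A ⟶ A) := ⟨ι[A], hιι, hιι⟩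
        exact inferInstanceAs (IsIso ((Over.forget _).map (ι[A] : A ⟶ A)))
      rw [e, Over.comp_left]
      have := surjective_pow (A := A) (n := m) (by simpa using hn)
      infer_instance
  have := Groth.Abvar.isIntegral_left A
  have : Flat (𝟙 A ^ d : A ⟶ A).left := Groth.Abvar.Hom.flat_of_surjective _
  exact ⟨Groth.Abvar.Hom.isFinite_of_flat _ rfl, this, hsurj⟩

end Groth.AbVarMul
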