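import Groth.Agent.S10828
import Groth.Agent.AbvarAlb.FiniteDescend
import Groth.Agent.AbVarMul.Relative

/-!
# Quotients by finite Galois stable groups of points
-/

set_option autoImplicit false
universe u

open CategoryTheory Limits MonoidalCategory CartesianMonoidalCategory MonObj GrpObj AlgebraicGeometry

namespace Groth.AbVarMul

variable {k : Type u} [Field k] {Ω : Type u} [Field Ω] [Algebra k Ω] [IsAlgClosure k Ω]

local notation "Ω₀" => (SGA7.pt (K := k) Ω)

/-- The image of the closed point under a geometric point. -/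
noncomputable def ptImage {Z : Over (Spec (CommRingCat.of k))} (u : Ω₀ ⟶ Z) : Z.left :=
  u.left.base (IsLocalRing.closedPoint Ω)

omit [IsAlgClosure k Ω] in
theorem ptImage_comp {Z Z' : Over (Spec (CommRingCat.of k))} (u : Ω₀ ⟶ Z) (f : Z ⟶ Z') :
    ptImage (u ≫ f) = f.left.base (ptImage u) := by
  simp only [ptImage, Over.comp_left, Scheme.Hom.comp_base]
  rfl

/-- Closed points are images of geometric points, two of which over the same point are conjugate. -/
theorem exists_ptImage {Z : Over (Spec (CommRingCat.of k))} [LocallyOfFiniteType Z.hom] {z : Z.left}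
    (hz : IsClosed ({z} : Set Z.left)) : ∃ u : Ω₀ ⟶ Z, ptImage u = z := by
  obtain ⟨p, hp, hpz⟩ := ((Groth.Agent.S10828.result k Ω Z.hom).1 z).1 hz
  exact ⟨Over.homMk p hp, hpz⟩

theorem exists_galAct_eq {Z : Over (Spec (CommRingCat.of k))} [LocallyOfFiniteType Z.hom]
    (u u' : Ω₀ ⟶ Z) (h : ptImage u = ptImage u') : ∃ σ : Ω ≃ₐ[k] Ω, u' = SGA7.galAct σ u := by
  obtain ⟨σ, hσ⟩ := ((Groth.Agent.S10828.result k Ω Z.hom).2 u.left u'.left (Over.w u) (Over.w u')).1 h
  exact ⟨σ, Over.OverMorphism.ext hσ⟩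

/-- **The quotient by a finite Galois stable group of points of order prime to the characteristic.** -/
theorem exists_quotient_of_galois_stable (A : Over (Spec (CommRingCat.of k))) [GrpObj A]
    [IsCommMonObj A] [IsProper A.hom] [GeometricallyIntegral A.hom] {n : ℕ} (hn : (n : k) ≠ 0)
    (H : Subgroup (Ω₀ ⟶ A)) (hH : ∀ x ∈ H, x ^ n = 1)
    (hgal : ∀ (σ : Ω ≃ₐ[k] Ω), ∀ x ∈ H, SGA7.galAct σ x ∈ H) :
    ∃ (Y : Over (Spec (CommRingCat.of k))) (_ : GrpObj Y) (_ : IsCommMonObj Y)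
      (q : A ⟶ Y) (v : Y ⟶ A), IsProper Y.hom ∧ GeometricallyIntegral Y.hom ∧ IsMonHom q ∧
        IsMonHom v ∧ q ≫ v = (𝟙 A : A ⟶ A) ^ n ∧ v ≫ q = (𝟙 Y : Y ⟶ Y) ^ n ∧
        ∀ x : Ω₀ ⟶ A, x ≫ q = 1 ↔ x ∈ H := by
  classical
  have hn0 : n ≠ 0 := fun h => hn (by rw [h, Nat.cast_zero])
  have : IsMonHom (𝟙 A ^ n : A ⟶ A) := by rw [← zpow_natCast]; infer_instance
  obtain ⟨K, _, j, _, _, hjc, hK⟩ := AlgGrpAb.exists_kernel (𝟙 A ^ n : A ⟶ A)
  have hKfin : IsFinite K.hom := by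
    have : IsFinite (𝟙 A ^ n : A ⟶ A).left := by
      rw [← zpow_natCast]
      exact (isogeny_zpow (A := A) (d := (n : ℤ)) (by exact_mod_cast hn0)).1
    exact MorphismProperty.of_isPullback (P := @IsFinite) (hK.map (Over.forget _)) this
  have hKet : Etale K.hom := by
    have : Etale (𝟙 A ^ n : A ⟶ A).left := by
      rw [← zpow_natCast]
      exact GrpschAbsch.etale_zpow (n : ℤ) (by exact_mod_cast hn)
    exact MorphismProperty.of_isPullback (P := @Etale) (hK.map (Over.forget _)) this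
  have : DiscreteTopology K.left := AbvarAlb.discreteTopology_of_isFinite K.hom
  have : Mono j := Over.mono_of_mono_left j
  let SK : Set K.left := {x | ∃ u : Ω₀ ⟶ K, u ≫ j ∈ H ∧ ptImage u = x}
  have hmem : ∀ u : Ω₀ ⟶ K, ptImage u ∈ SK → u ≫ j ∈ H := by
    rintro u ⟨u', hu', he⟩
    obtain ⟨σ, rfl⟩ := exists_galAct_eq u' u he
    rw [SGA7.galAct, Category.assoc]
    exact hgal σ _ hu'
  let U : K.left.Opens := ⟨SK, isOpen_discrete _⟩
  let F : Over (Spec (CommRingCat.of k)) := Over.mk (U.ι ≫ K.hom)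
  let incl : F ⟶ K := Over.homMk U.ι
  have hincl : IsOpenImmersion incl.left := inferInstanceAs (IsOpenImmersion U.ι)
  have : IsClosedImmersion incl.left := .of_isPreimmersion _ (isClosed_discrete _)
  let i : F ⟶ A := incl ≫ j
  have : IsClosedImmersion i.left := inferInstanceAs (IsClosedImmersion (incl.left ≫ j.left))
  have : Mono i := Over.mono_of_mono_left i
  have hFfin : IsFinite F.hom := by
    have : IsFinite (incl.left ≫ K.hom) := inferInstance
    rwa [Over.w] at this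
  have hrange : ∀ {T : Over (Spec (CommRingCat.of k))} (z : T ⟶ K),
      (∃ w : T ⟶ F, w ≫ incl = z) ↔ Set.range z.left.base ⊆ SK := by
    intro T z
    constructor
    · rintro ⟨w, rfl⟩ _ ⟨t, rfl⟩
      exact (w.left.base t).2
    · intro h
      refine ⟨Over.homMk (IsOpenImmersion.lift U.ι z.left (by rwa [Scheme.Opens.range_ι])) ?_,
        Over.OverMorphism.ext (IsOpenImmersion.lift_fac _ _ _)⟩
      show IsOpenImmersion.lift _ _ _ ≫ U.ι ≫ K.hom = _
      rw [IsOpenImmersion.lift_fac_assoc, Over.w]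
  -- universal check: a map from a finite scheme lands in `SK` if all its geometric points do
  have hfin : ∀ {T : Over (Spec (CommRingCat.of k))} [IsFinite T.hom] (z : T ⟶ K),
      (∀ u : Ω₀ ⟶ T, u ≫ z ≫ j ∈ H) → ∃ w : T ⟶ F, w ≫ incl = z := by
    intro T _ z h
    refine (hrange z).2 ?_
    rintro _ ⟨t, rfl⟩
    have : DiscreteTopology T.left := AbvarAlb.discreteTopology_of_isFinite T.hom
    obtain ⟨u, rfl⟩ := exists_ptImage (Ω := Ω) (isClosed_discrete ({t} : Set T.left))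
    exact ⟨u ≫ z, by rw [Category.assoc]; exact h u, ptImage_comp u z⟩
  have hcl : ∀ {T : Over (Spec (CommRingCat.of k))} [IsFinite T.hom] (g : T ⟶ A), g ^ n = 1 →
      (∀ u : Ω₀ ⟶ T, u ≫ g ∈ H) → ∃ w : T ⟶ F, w ≫ i = g := by
    intro T _ g hg h
    obtain ⟨z, rfl⟩ := AlgGrp1.IsKernel.exists_lift hK g (by
      rw [MonObj.comp_pow, Category.comp_id, hg])
    obtain ⟨w, rfl⟩ := hfin z h
    exact ⟨w, (Category.assoc w incl j).symm⟩
  have hin : ∀ (u : Ω₀ ⟶ F), u ≫ i ∈ H := fun u => by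
    rw [show u ≫ i = (u ≫ incl) ≫ j from (Category.assoc u incl j).symm]
    exact hmem _ ((hrange (u ≫ incl)).1 ⟨u, rfl⟩ ⟨_, rfl⟩)
  have hi1 : i ^ n = 1 := by
    show (incl ≫ j) ^ n = 1
    rw [← MonObj.comp_pow, show j ^ n = 1 from ?_, MonObj.comp_one]
    have h := AlgGrp1.IsKernel.comp_eq_one hK
    rwa [MonObj.comp_pow, Category.comp_id] at h
  obtain ⟨e₀, he₀⟩ : ∃ w : 𝟙_ _ ⟶ F, w ≫ i = (1 : 𝟙_ _ ⟶ A) := by
    have : IsFinite (𝟙_ (Over (Spec (CommRingCat.of k)))).hom := inferInstanceAs (IsFinite (𝟙 _))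
    exact hcl 1 (one_pow n) fun u => by rw [MonObj.comp_one]; exact H.one_mem
  obtain ⟨m₀, hm₀⟩ : ∃ w : F ⊗ F ⟶ F, w ≫ i = (fst F F ≫ i) * (snd F F ≫ i) := by
    have : IsFinite (F ⊗ F).hom := inferInstanceAs (IsFinite (pullback.fst F.hom F.hom ≫ F.hom))
    refine hcl _ ?_ fun u => ?_
    · rw [mul_pow, ← MonObj.comp_pow i n (fst F F), ← MonObj.comp_pow i n (snd F F), hi1,
        MonObj.comp_one, MonObj.comp_one, _root_.one_mul]
    · rw [MonObj.comp_mul, ← Category.assoc u (fst F F) i, ← Category.assoc u (snd F F) i]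
      exact H.mul_mem (hin _) (hin _)
  obtain ⟨inv₀, hinv₀⟩ : ∃ w : F ⟶ F, w ≫ i = i⁻¹ :=
    hcl _ (by rw [inv_pow, hi1, inv_one]) fun u => by
      rw [GrpObj.comp_inv]; exact H.inv_mem (hin u)
  obtain ⟨_, hi⟩ := Groth.Agf.exists_grpObj_of_subgroup i (fun T g => ∃ w : T ⟶ F, w ≫ i = g)
    (fun T g => Iff.rfl)
    (fun T => ⟨toUnit T ≫ e₀, by rw [Category.assoc, he₀, MonObj.comp_one]⟩)
    (by
      rintro T _ _ ⟨a, rfl⟩ ⟨b, rfl⟩
      exact ⟨lift a b ≫ m₀, by
        rw [Category.assoc, hm₀, MonObj.comp_mul, lift_fst_assoc, lift_snd_assoc]⟩)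
    (by
      rintro T _ ⟨a, rfl⟩
      exact ⟨a ≫ inv₀, by rw [Category.assoc, hinv₀, GrpObj.comp_inv]⟩)
  obtain ⟨Y, _, q, hYp, hYg, hq, hqf, hqs, hker⟩ := AbvarAlb.exists_quotient i
  have := hYp; have := hYg
  have := GrpschAbsch.isCommMonObj_of_isProper Y
  have hqc : IsProper (q.left ≫ Y.hom) := by rw [Over.w]; infer_instance
  have : IsProper q.left := IsProper.of_comp q.left Y.hom
  have hpts : ∀ x : Ω₀ ⟶ A, x ≫ q = 1 ↔ x ∈ H := fun x => by
    constructor
    · intro hx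
      obtain ⟨w, rfl⟩ := AlgGrp1.IsKernel.exists_lift hker x hx
      exact hin w
    · intro hx
      obtain ⟨z, hz⟩ := AlgGrp1.IsKernel.exists_lift hK x (by
        rw [MonObj.comp_pow, Category.comp_id, hH x hx])
      obtain ⟨w, hw⟩ := (hrange z).2 (by
        rintro _ ⟨t, rfl⟩
        refine ⟨z, hz ▸ hx, ?_⟩
        exact congrArg z.left.base (Subsingleton.elim (α := PrimeSpectrum Ω) _ _))
      rw [← hz, ← hw, show (w ≫ incl) ≫ j = w ≫ i from Category.assoc w incl j, Category.assoc,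
        AlgGrp1.IsKernel.comp_eq_one hker, MonObj.comp_one]
  obtain ⟨v, hv, hqv⟩ := exists_factor_of_flat q (𝟙 A ^ n : A ⟶ A) fun T t ht => by
    obtain ⟨w, rfl⟩ := AlgGrp1.IsKernel.exists_lift hker t ht
    rw [Category.assoc, MonObj.comp_pow, Category.comp_id, hi1, MonObj.comp_one]
  have := epi_of_flat_surjective q
  refine ⟨Y, inferInstance, inferInstance, q, v, hYp, hYg, hq, hv, hqv, ?_, hpts⟩
  rw [← cancel_epi q, ← Category.assoc, hqv, MonObj.pow_comp, Category.id_comp, MonObj.comp_pow,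
    Category.comp_id]

end Groth.AbVarMul
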