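import Groth.Agent.AbVarMul.HomForm

/-!
# The positive definite form on `Hom(A, B)` and endomorphisms acting on classes by powers

A Frobenius endomorphism is a similitude for the form.
-/

universe u

open CategoryTheory Limits MonoidalCategory CartesianMonoidalCategory MonObj GrpObj AlgebraicGeometry
  TopologicalSpace Groth.Abvar Groth.Abvar.PicCalc BlowUp

namespace Groth.AbVarMul

variable {k : Type u} [Field k] {A B : Over (Spec (CommRingCat.of k))} [GrpObj A] [GrpObj B]
  [IsCommMonObj A] [IsProper A.hom] [GeometricallyIntegral A.hom] [IsCommMonObj B]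
  [IsProper B.hom] [GeometricallyIntegral B.hom]

/-- The positive definite symmetric form, of which endomorphisms raising classes to the `q`-th power
are similitudes. -/
theorem exists_homForm_similitude :
    ∃ b : EndAV.Hom A B →+ EndAV.Hom A B →+ ℤ, (∀ φ, φ ≠ 0 → 0 < b φ φ) ∧
      (∀ φ ψ, b φ ψ = b ψ φ) ∧
      ∀ (F : EndAV.Hom B B) (q : ℕ), (∀ c : PicLoc.PicSet B.left, opull F.toHom c = c ^ q) →
        ∀ φ ψ : EndAV.Hom A B, b (EndAV.Hom.of (φ.toHom ≫ F.toHom))
          (EndAV.Hom.of (ψ.toHom ≫ F.toHom)) = (q : ℤ) * b φ ψ := by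
  have := Groth.Abvar.isIntegral_left A
  letI : A.left.Over (Spec (CommRingCat.of k)) := ⟨A.hom⟩
  haveI : IsProper (A.left ↘ Spec (CommRingCat.of k)) := ‹IsProper A.hom›
  have : IsLocallyNoetherian A.left := LocallyOfFiniteType.isLocallyNoetherian A.hom
  obtain ⟨W, J, hW, heW, hJ, hJs⟩ := exists_affine_divisor B
  set c : PicLoc.PicSet B.left := cls (PicAux.isInvertible_idealMod hJ) with hc
  obtain ⟨L, hL⟩ := exists_isAmple (A := A)
  obtain ⟨M, hM, hLM⟩ := PicAux.exists_isInverseOf hL.1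
  have hMa : Inter.IsAmpleInv M := ⟨L, hL, hLM⟩
  obtain ⟨g, hg⟩ := Groth.FibreDim.exists_dim_eq_nat A
  set l := List.replicate (g - 1) M with hl
  have hlinv : ∀ N ∈ l, PicF.IsInvertible N := fun N hN => (List.eq_of_mem_replicate hN) ▸ hM
  set O := Coh.structureModule A.left
  have hOc : Coh.IsCoh O := Inter.isCoh_of_isInvertible (EulerDeg.isInvertible_structureModule _)
  have hOd : topologicalKrullDim (CohB1.support O) ≤ (l.length + 1 : ℕ) := by
    refine (Topology.IsInducing.subtypeVal.topologicalKrullDim_le).trans (hg.trans_le ?_)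
    simp only [hl, List.length_replicate]
    exact_mod_cast (by omega : g ≤ g - 1 + 1)
  obtain ⟨d, hd⟩ := exists_pairing (k := k) hlinv hOc hOd
  let Q : EndAV.Hom A B → ℤ := fun φ => d (Additive.ofMul (opull φ.toHom c))
  have hQ0 : Q 0 = 0 := by
    show d (Additive.ofMul (opull (1 : A ⟶ B) c)) = 0
    rw [opull_one, ofMul_one, map_zero]
  have hcube : ∀ φ ψ χ, Q (φ + ψ + χ) + Q φ + Q ψ + Q χ = Q (φ + ψ) + Q (φ + χ) + Q (ψ + χ) := by
    intro φ ψ χ
    have e := congrArg (fun x => d (Additive.ofMul x))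
      (Groth.Abvar.Cube.opull_cube c φ.toHom ψ.toHom χ.toHom)
    simpa only [ofMul_mul, map_add, Q, EndAV.Hom.toHom_add] using e
  let b : EndAV.Hom A B →+ EndAV.Hom A B →+ ℤ :=
    AddMonoidHom.mk' (fun φ => AddMonoidHom.mk' (fun ψ => Q (φ + ψ) - Q φ - Q ψ) fun ψ χ => by
      have := hcube φ ψ χ
      rw [← add_assoc φ ψ χ]
      linarith) fun φ χ => by
      refine AddMonoidHom.ext fun ψ => ?_
      simp only [AddMonoidHom.mk'_apply, AddMonoidHom.add_apply]
      have := hcube φ χ ψ
      linarith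
  have hpos : ∀ φ, φ ≠ 0 → 0 < Q φ := by
    intro φ hφ
    set f := φ.toHom with hf
    obtain ⟨z, hz⟩ : ∃ z, f.left z ∉ W := by
      by_contra hne
      push Not at hne
      exact hφ (EndAV.Hom.ext (eq_one_of_subset_affine f hW hne))
    have hη : f.left (genericPoint A.left) ∈ W := by
      refine ((genericPoint_specializes (η[A].left.base (IsLocalRing.closedPoint k))).map
        f.left.continuous).mem_open W.2 ?_
      rw [← Scheme.Hom.comp_apply, ← Over.comp_left, IsMonHom.one_hom f]
      exact heW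
    have hK : IsEffCartierIdeal (J.comap f.left) :=
      Divisors.isEffCartierIdeal_comap_reduced f.left hJ fun ξ hξ h => (hJs _).1 h (by
        have : genericPoint A.left = ξ := hξ _ (genericPoint_specializes ξ)
        exact this ▸ hη)
    have hzK : z ∈ (J.comap f.left).support := by
      rw [Scheme.IdealSheafData.support_comap]; exact (hJs _).2 hz
    have hηK : genericPoint A.left ∉ (J.comap f.left).support := by
      rw [Scheme.IdealSheafData.support_comap]; exact fun h => (hJs _).1 h hη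
    have hcls : opull f c = cls (PicAux.isInvertible_idealMod hK) := by
      rw [show opull f = pull f.left from rfl, hc, pull_cls, ← nonempty_iso_iff]
      exact PicAux.pullback_idealMod f.left hJ hK
    show 0 < d (Additive.ofMul (opull f c))
    rw [hcls, hd]
    exact delta_divisor_pos hMa hK hηK hzK hg
  refine ⟨b, fun φ hφ => ?_, fun φ ψ => ?_, fun F q hF φ ψ => ?_⟩
  · have h1 := hpos φ hφ
    have h2 := hpos (-φ) (by simpa using hφ)
    have h3 : b φ (-φ) = Q (φ + -φ) - Q φ - Q (-φ) := rfl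
    rw [add_neg_cancel, hQ0, map_neg] at h3
    linarith
  · show Q (φ + ψ) - Q φ - Q ψ = Q (ψ + φ) - Q ψ - Q φ
    rw [add_comm φ ψ]
    ring
  · have hQF : ∀ χ : EndAV.Hom A B, Q (EndAV.Hom.of (χ.toHom ≫ F.toHom)) = (q : ℤ) * Q χ := by
      intro χ
      show d (Additive.ofMul (opull (χ.toHom ≫ F.toHom) c)) = _
      rw [opull_comp, hF, map_pow, ofMul_pow, map_nsmul, nsmul_eq_mul]
    show Q (EndAV.Hom.of (φ.toHom ≫ F.toHom) + EndAV.Hom.of (ψ.toHom ≫ F.toHom)) - _ - _ = _
    rw [show EndAV.Hom.of (φ.toHom ≫ F.toHom) + EndAV.Hom.of (ψ.toHom ≫ F.toHom) =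
        EndAV.Hom.of ((φ + ψ).toHom ≫ F.toHom) from EndAV.Hom.ext (by
          rw [EndAV.Hom.toHom_add, EndAV.Hom.toHom_of, EndAV.Hom.toHom_of, EndAV.Hom.toHom_of,
            EndAV.Hom.toHom_add, MonObj.mul_comp]), hQF, hQF, hQF]
    show _ = (q : ℤ) * (Q (φ + ψ) - Q φ - Q ψ)
    ring

end Groth.AbVarMul
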