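import Groth.Agent.AbVarMul.HomForm
import Groth.Agent.AbVarMul.TateDivBC
import Groth.Agent.AbVarMul.IsogenyPts
import Groth.Agent.FBaseGeom.Dim
import Groth.Prelude.Def_EndTate
import Mathlib.LinearAlgebra.Dimension.Finrank
import Mathlib.RingTheory.Noetherian.Basic

/-!
# `Hom(A, B)` is a lattice: finite generation and injectivity on Tate modules
-/

universe u

open CategoryTheory Limits MonoidalCategory CartesianMonoidalCategory MonObj GrpObj AlgebraicGeometry
  TopologicalSpace
open AbDual

namespace Groth.AbVarMul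

section Lattice

variable {M : Type*} [AddCommGroup M]

/-- The elements with a nonzero multiple in `N`. -/
def satur (N : Submodule ℤ M) : Submodule ℤ M where
  carrier := {x | ∃ n : ℤ, n ≠ 0 ∧ n • x ∈ N}
  add_mem' := by
    rintro x y ⟨a, ha, hax⟩ ⟨b, hb, hby⟩
    refine ⟨a * b, mul_ne_zero ha hb, ?_⟩
    rw [smul_add]
    refine N.add_mem ?_ ?_
    · rw [mul_comm, mul_smul]; exact N.smul_mem b hax
    · rw [mul_smul]; exact N.smul_mem a hby
  zero_mem' := ⟨1, one_ne_zero, by simp⟩
  smul_mem' := by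
    rintro c x ⟨a, ha, hax⟩
    exact ⟨a, ha, by rw [smul_comm]; exact N.smul_mem c hax⟩

variable (b : M →+ M →+ ℤ) (hb : ∀ x, x ≠ 0 → 0 < b x x)

include hb in
theorem noZeroSMulDivisors_of_form : Module.IsTorsionFree ℤ M := by
  refine Module.IsTorsionFree.of_smul_eq_zero fun n x h => ?_
  by_contra hne
  push Not at hne
  have h1 : b (n • x) x = 0 := by rw [h]; simp
  rw [map_zsmul, AddMonoidHom.smul_apply, smul_eq_mul] at h1
  exact (mul_ne_zero hne.1 (hb x hne.2).ne') h1

include hb in
/-- The saturation of a finitely generated subgroup is finitely generated. -/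
theorem finite_satur (N : Submodule ℤ M) [Module.Finite ℤ N] : Module.Finite ℤ (satur N) := by
  obtain ⟨s, hs⟩ := ‹Module.Finite ℤ N›.fg_top
  let Φ : satur N →ₗ[ℤ] (s → ℤ) :=
    { toFun := fun x e => b (x : M) ((e : N) : M)
      map_add' := fun x y => funext fun e => by simp
      map_smul' := fun c x => funext fun e => by simp [map_zsmul] }
  have hΦ : Function.Injective Φ := by
    rw [← LinearMap.ker_eq_bot, LinearMap.ker_eq_bot']
    rintro ⟨x, n, hn, hnx⟩ hx
    have hy : ∀ y : N, b x (y : M) = 0 := fun y => by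
      have hy : y ∈ Submodule.span ℤ (s : Set N) := hs ▸ Submodule.mem_top
      induction hy using Submodule.span_induction with
      | mem y hy => exact congrFun hx ⟨y, hy⟩
      | zero => simp
      | add y z _ _ hy hz => simp [hy, hz]
      | smul c y _ hy => simp [hy]
    refine Subtype.ext ?_
    by_contra hne
    have h := hy ⟨n • x, hnx⟩
    simp only [map_zsmul, smul_eq_mul] at h
    exact (mul_ne_zero hn (hb x hne).ne') h
  exact Module.Finite.of_injective Φ hΦ

/-- A finitely generated saturation has a common denominator. -/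
theorem exists_denominator (N : Submodule ℤ M) [Module.Finite ℤ (satur N)] :
    ∃ D : ℤ, D ≠ 0 ∧ ∀ x ∈ satur N, D • x ∈ N := by
  classical
  obtain ⟨s, hs⟩ := ‹Module.Finite ℤ (satur N)›.fg_top
  choose n hn hnx using fun e : s => (e : satur N).2
  refine ⟨∏ e, n e, Finset.prod_ne_zero_iff.2 fun e _ => hn e, ?_⟩
  suffices h : ∀ y : satur N, (∏ e, n e) • (y : M) ∈ N from fun x hx => h ⟨x, hx⟩
  intro y
  have hy : y ∈ Submodule.span ℤ (s : Set (satur N)) := hs ▸ Submodule.mem_top
  induction hy using Submodule.span_induction with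
  | mem y hy =>
    rw [← Finset.prod_erase_mul _ _ (Finset.mem_univ (⟨y, hy⟩ : s)), mul_smul]
    exact N.smul_mem _ (hnx ⟨y, hy⟩)
  | zero => simp
  | add y z _ _ hy hz => rw [Submodule.coe_add, smul_add]; exact N.add_mem hy hz
  | smul c y _ hy => rw [Submodule.coe_smul, smul_comm]; exact N.smul_mem c hy

include hb in
/-- A lattice whose independent families have bounded length is finitely generated. -/
theorem finite_of_form {r : ℕ}
    (hr : ∀ (n : ℕ) (e : Fin n → M), LinearIndependent ℤ e → n ≤ r) : Module.Finite ℤ M := by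
  classical
  have h0 : ∃ n, ∃ e : Fin n → M, LinearIndependent ℤ e :=
    ⟨0, Fin.elim0, linearIndependent_empty_type⟩
  let n := Nat.findGreatest (fun n => ∃ e : Fin n → M, LinearIndependent ℤ e) r
  obtain ⟨e, he⟩ : ∃ e : Fin n → M, LinearIndependent ℤ e :=
    Nat.findGreatest_spec (P := fun n => ∃ e : Fin n → M, LinearIndependent ℤ e) (Nat.zero_le r)
      ⟨Fin.elim0, linearIndependent_empty_type⟩
  have : Module.Finite ℤ (Submodule.span ℤ (Set.range e)) :=
    Module.Finite.span_of_finite ℤ (Set.finite_range e)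
  have hfin := finite_satur b hb (Submodule.span ℤ (Set.range e))
  have htop : satur (Submodule.span ℤ (Set.range e)) = ⊤ := by
    refine eq_top_iff.2 fun x _ => ?_
    by_contra hx
    have hli : LinearIndependent ℤ (Fin.cons x e : Fin (n + 1) → M) := by
      rw [Fintype.linearIndependent_iff]
      intro g hg
      rw [Fin.sum_univ_succ] at hg
      simp only [Fin.cons_zero, Fin.cons_succ] at hg
      have hg0 : g 0 = 0 := by
        by_contra hg0
        refine hx ⟨g 0, hg0, ?_⟩
        rw [eq_neg_of_add_eq_zero_left hg]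
        exact neg_mem (sum_mem fun i _ => Submodule.smul_mem _ _
          (Submodule.subset_span (Set.mem_range_self i)))
      rw [hg0, zero_smul, zero_add] at hg
      exact fun i => Fin.cases hg0 (Fintype.linearIndependent_iff.1 he _ hg) i
    have hle := hr _ _ hli
    have := Nat.le_findGreatest (P := fun n => ∃ e : Fin n → M, LinearIndependent ℤ e) hle ⟨_, hli⟩
    omega
  rw [htop] at hfin
  exact Module.Finite.equiv Submodule.topEquiv

/-- Rank bound for a lattice which stays independent after `l`-adic completion. -/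
theorem le_of_linearIndependent_image {n r : ℕ} {R V : Type*} [CommRing R] [Nontrivial R]
    [AddCommGroup V] [Module R V] [Module.Finite R V] [Module.Free R V] (hV : Module.finrank R V = r)
    {v : Fin n → V} (hv : LinearIndependent R v) : n ≤ r := by
  simpa [hV] using hv.fintype_card_le_finrank

end Lattice

variable {k : Type u} [Field k] {A B : Over (Spec (CommRingCat.of k))} [GrpObj A] [GrpObj B]
  [IsCommMonObj A] [IsProper A.hom] [GeometricallyIntegral A.hom] [IsCommMonObj B]
  [IsProper B.hom] [GeometricallyIntegral B.hom]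

/-- Independence on Tate modules, given detection of divisibility. -/
theorem linearIndependent_of_div {l : ℕ} [Fact l.Prime] {V : Type*} [AddCommGroup V]
    [Module ℤ_[l] V] (T : EndAV.Hom A B →+ V)
    (hdiv : ∀ (φ : EndAV.Hom A B) (m : ℕ) (u : V), T φ = ((l : ℤ_[l]) ^ m) • u →
      ∃ ψ : EndAV.Hom A B, φ = ((l : ℤ) ^ m) • ψ)
    {J : Type*} [Fintype J] (e : J → EndAV.Hom A B) (he : LinearIndependent ℤ e) :
    LinearIndependent ℤ_[l] (fun i => T (e i)) := by
  obtain ⟨b, hb⟩ := exists_homForm (A := A) (B := B)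
  set N := Submodule.span ℤ (Set.range e)
  have : Module.Finite ℤ N := Module.Finite.span_of_finite ℤ (Set.finite_range e)
  have := finite_satur b hb N
  obtain ⟨D, hD, hDN⟩ := exists_denominator N
  rw [Fintype.linearIndependent_iff]
  intro c hc i
  have hlp : (l : ℤ) ≠ 0 := by exact_mod_cast (Fact.out : l.Prime).ne_zero
  have key : ∀ m : ℕ, (D : ℤ_[l]) * c i ∈ (Ideal.span {(l : ℤ_[l]) ^ m} : Ideal ℤ_[l]) := by
    intro m
    choose d hd using fun j => Ideal.mem_span_singleton'.1 (PadicInt.appr_spec m (c j))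
    obtain ⟨φ, hφdef⟩ : ∃ φ : EndAV.Hom A B, φ = ∑ j, ((c j).appr m : ℤ) • e j := ⟨_, rfl⟩
    have hφ : T φ = ((l : ℤ_[l]) ^ m) • (-∑ j, d j • T (e j)) := by
      rw [hφdef, map_sum, smul_neg, Finset.smul_sum, eq_neg_iff_add_eq_zero,
        ← Finset.sum_add_distrib]
      refine Eq.trans (Finset.sum_congr rfl fun j _ => ?_) hc
      rw [map_zsmul, ← Int.cast_smul_eq_zsmul ℤ_[l], ← mul_smul, mul_comm, hd, ← add_smul]
      push_cast
      ring_nf
    obtain ⟨ψ, hψ⟩ := hdiv φ m _ hφ
    have hψN : D • ψ ∈ N := hDN ψ ⟨(l : ℤ) ^ m, pow_ne_zero _ hlp, by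
      rw [← hψ, hφdef]
      exact sum_mem fun j _ => N.smul_mem _ (Submodule.subset_span (Set.mem_range_self j))⟩
    obtain ⟨a, ha⟩ := Submodule.mem_span_range_iff_exists_fun ℤ |>.1 hψN
    have heq : ∑ j, (D * ((c j).appr m : ℤ) - (l : ℤ) ^ m * a j) • e j = 0 := by
      simp only [sub_smul, mul_smul, Finset.sum_sub_distrib, ← Finset.smul_sum, ha, ← hφdef, hψ]
      rw [smul_comm, sub_self]
    have hi := Fintype.linearIndependent_iff.1 he _ heq i
    rw [Ideal.mem_span_singleton']
    refine ⟨(a i : ℤ_[l]) + (D : ℤ_[l]) * d i, ?_⟩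
    have hi' : (D : ℤ_[l]) * ((c i).appr m : ℤ_[l]) = (l : ℤ_[l]) ^ m * (a i : ℤ_[l]) := by
      have := congrArg (fun z : ℤ => (z : ℤ_[l])) (sub_eq_zero.1 hi)
      push_cast at this
      exact this
    linear_combination (D : ℤ_[l]) * hd i - hi'
  have h0 : (D : ℤ_[l]) * c i = 0 := by
    by_contra hne
    obtain ⟨v, u, hu⟩ : ∃ (v : ℕ) (u : ℤ_[l]ˣ), (D : ℤ_[l]) * c i = u * (l : ℤ_[l]) ^ v :=
      ⟨_, _, PadicInt.unitCoeff_spec hne⟩
    obtain ⟨w, hw⟩ := Ideal.mem_span_singleton'.1 (key (v + 1))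
    rw [hu] at hw
    have hl0 : (l : ℤ_[l]) ^ v ≠ 0 :=
      pow_ne_zero _ (by exact_mod_cast (Fact.out : l.Prime).ne_zero)
    have : (w * (l : ℤ_[l])) * (l : ℤ_[l]) ^ v = (u : ℤ_[l]) * (l : ℤ_[l]) ^ v := by
      rw [← hw, pow_succ]; ring
    exact PadicInt.prime_p.not_unit
      (isUnit_of_mul_isUnit_right (mul_right_cancel₀ hl0 this ▸ u.isUnit))
  exact (mul_eq_zero.1 h0).resolve_left (by exact_mod_cast hD)

/-- A homomorphism divisible on morphisms is divisible in `Hom`. -/
theorem exists_eq_zsmul_of_comp {φ : EndAV.Hom A B} {n : ℕ} {ψ : A ⟶ B} [IsMonHom ψ]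
    (h : φ.toHom = (𝟙 A ^ n : A ⟶ A) ≫ ψ) :
    φ = (n : ℤ) • EndAV.Hom.of ψ := by
  refine EndAV.Hom.ext ?_
  rw [natCast_zsmul, EndAV.Hom.toHom_nsmul, EndAV.Hom.toHom_of, h]
  clear h
  induction n with
  | zero => rw [_root_.pow_zero, _root_.pow_zero, MonObj.one_comp]
  | succ n ih => rw [pow_succ, pow_succ, MonObj.mul_comp, Category.id_comp, ih]

/-- **`ℤ_l ⊗ Hom(A, B) → Hom(T_l A, T_l B)` is injective**, points in an algebraically closed
extension field. -/
theorem linearIndependent_tateMap_bc (K : Type u) [Field K] [Algebra k K] [IsAlgClosed K] {l : ℕ}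
    [Fact l.Prime] (hl : (l : k) ≠ 0) {J : Type*} [Fintype J] (e : J → EndAV.Hom A B)
    (he : LinearIndependent ℤ e) :
    LinearIndependent ℤ_[l]
      (fun i => EndAV.Hom.tateMap (A := A) (B := B) l (SGA7.pt (K := k) K) (e i)) := by
  refine linearIndependent_of_div (EndAV.Hom.tateMap (A := A) (B := B) l (SGA7.pt (K := k) K))
    (fun φ m u h => ?_) e he
  obtain ⟨ψ, hψ, hφ⟩ := exists_eq_pow_comp_bc K hl φ.toHom m u h
  exact ⟨EndAV.Hom.of ψ, by rw [← Nat.cast_pow]; exact exists_eq_zsmul_of_comp hφ⟩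

/-- The same with points over an algebraically closed ground field. -/
theorem linearIndependent_tateMap [IsAlgClosed k] {l : ℕ}
    [Fact l.Prime] (hl : (l : k) ≠ 0) {J : Type*} [Fintype J] (e : J → EndAV.Hom A B)
    (he : LinearIndependent ℤ e) :
    LinearIndependent ℤ_[l]
      (fun i => EndAV.Hom.tateMap (A := A) (B := B) l (Over.mk (𝟙 (Spec (CommRingCat.of k)))) (e i)) := by
  refine linearIndependent_of_div
    (EndAV.Hom.tateMap (A := A) (B := B) l (Over.mk (𝟙 (Spec (CommRingCat.of k)))))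
    (fun φ m u h => ?_) e he
  obtain ⟨ψ, hψ, hφ⟩ := exists_eq_pow_comp hl φ.toHom m u h
  exact ⟨EndAV.Hom.of ψ, by rw [← Nat.cast_pow]; exact exists_eq_zsmul_of_comp hφ⟩

/-- `Hom(A, B)` is torsion free. -/
theorem isTorsionFree_hom : Module.IsTorsionFree ℤ (EndAV.Hom A B) := by
  obtain ⟨b, hb⟩ := exists_homForm (A := A) (B := B)
  exact noZeroSMulDivisors_of_form b hb

/-- Independent homomorphisms are at most `4 g h` in number. -/
theorem le_four_mul {g h : ℕ} (hg : topologicalKrullDim A.left = g)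
    (hh : topologicalKrullDim B.left = h) {n : ℕ} (e : Fin n → EndAV.Hom A B)
    (he : LinearIndependent ℤ e) : n ≤ 4 * g * h := by
  let K := AlgebraicClosure k
  obtain ⟨l, hlp, hl⟩ : ∃ l : ℕ, l.Prime ∧ (l : k) ≠ 0 := by
    obtain ⟨p, hp⟩ := CharP.exists k
    obtain ⟨l, hpl, hlp⟩ := Nat.exists_infinite_primes (p + 1)
    refine ⟨l, hlp, fun h => ?_⟩
    rcases (CharP.char_is_prime_or_zero k p) with hp' | rfl
    · have := (Nat.prime_dvd_prime_iff_eq hp' hlp).1 ((CharP.cast_eq_zero_iff k p l).1 h)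
      omega
    · exact hlp.ne_zero (Nat.eq_zero_of_zero_dvd ((CharP.cast_eq_zero_iff k 0 l).1 h))
  have := Fact.mk hlp
  have hlK : (l : K) ≠ 0 := by
    rw [← map_natCast (algebraMap k K)]; exact fun h => hl ((algebraMap k K).injective (h.trans (map_zero _).symm))
  have := isProper_bcF K A
  have := geometricallyIntegral_bcF K A
  have := isProper_bcF K B
  have := geometricallyIntegral_bcF K B
  obtain ⟨eA⟩ := nonempty_tateMod_bc (K := K) (A := A) (g := g)
    ((Groth.FBaseGeom.dim_bc A.hom K).trans hg) hlK (l := l)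
  obtain ⟨eB⟩ := nonempty_tateMod_bc (K := K) (A := B) (g := h)
    ((Groth.FBaseGeom.dim_bc B.hom K).trans hh) hlK (l := l)
  have := Module.Free.of_equiv eA
  have := Module.Finite.equiv eA
  have := Module.Free.of_equiv eB
  have := Module.Finite.equiv eB
  refine le_of_linearIndependent_image ?_ (linearIndependent_tateMap_bc K hl e he)
  rw [Module.finrank_linearMap, ← eA.finrank_eq, ← eB.finrank_eq, Module.finrank_fin_fun,
    Module.finrank_fin_fun]
  ring

/-- **`Hom(A, B)` is free of rank at most `4 g h`.** -/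
theorem free_finite_hom {g h : ℕ} (hg : topologicalKrullDim A.left = g)
    (hh : topologicalKrullDim B.left = h) :
    Module.Free ℤ (EndAV.Hom A B) ∧ Module.Finite ℤ (EndAV.Hom A B) ∧
      Module.finrank ℤ (EndAV.Hom A B) ≤ 4 * g * h := by
  obtain ⟨b, hb⟩ := exists_homForm (A := A) (B := B)
  have hfin := finite_of_form b hb (fun n e he => le_four_mul hg hh e he)
  have := noZeroSMulDivisors_of_form b hb
  have hfree : Module.Free ℤ (EndAV.Hom A B) := inferInstance
  refine ⟨hfree, hfin, ?_⟩
  let bs := Module.Free.chooseBasis ℤ (EndAV.Hom A B)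
  rw [Module.finrank_eq_card_chooseBasisIndex]
  exact le_four_mul hg hh _ (bs.linearIndependent.comp _ (Fintype.equivFin _).symm.injective)

end Groth.AbVarMul
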