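import Groth.Agent.GrpschAbsch.Tangent
import Mathlib.RingTheory.Filtration

/-!
# Multiplication by the characteristic contracts infinitesimal neighbourhoods of the unit
-/

universe u

open CategoryTheory CategoryTheory.Limits MonoidalCategory CartesianMonoidalCategory MonObj GrpObj
  AlgebraicGeometry TopologicalSpace TrivSqZeroExt
open Groth.GrpschAbsch

namespace Groth.AbVarMul

variable {k : Type u} [Field k]

/-- An element killed by all tangent vectors at a rational point lies in the square of the ideal. -/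
theorem mem_sq_of_tangent {A : Type u} [CommRing A] [Algebra k A] (ε : A →ₐ[k] k) {a : A}
    (ha : ε a = 0)
    (h : ∀ φ : A →ₐ[k] TrivSqZeroExt k k, (∀ b, (φ b).fst = ε b) → φ a = 0) :
    a ∈ RingHom.ker ε.toRingHom * RingHom.ker ε.toRingHom := by
  let m : Ideal A := RingHom.ker ε.toRingHom
  let W : Submodule k A := (m * m).restrictScalars k ⊔ k ∙ (1 : A)
  by_contra hna
  have hW : a ∉ W := fun hmem ↦ by
    obtain ⟨p, hp, q, hq, hpq⟩ := Submodule.mem_sup.mp hmem
    obtain ⟨c, rfl⟩ := Submodule.mem_span_singleton.mp hq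
    have hp' : ε p = 0 := (Ideal.mul_le_left (I := m) hp : p ∈ m)
    rw [← hpq, map_add, map_smul, map_one, hp'] at ha
    simp at ha
    rw [ha, zero_smul, add_zero] at hpq
    exact hna (hpq ▸ hp)
  obtain ⟨l, hla, hlW⟩ := Submodule.exists_dual_map_eq_bot_of_notMem hW inferInstance
  have hlW' : ∀ w ∈ W, l w = 0 := fun w hw ↦ by
    have : l w ∈ W.map l := ⟨w, hw, rfl⟩
    rw [hlW] at this; exact this
  have hl1 : l 1 = 0 := hlW' 1 (Submodule.mem_sup_right (Submodule.mem_span_singleton_self _))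
  have hleib : ∀ b c : A, l (b * c) = ε b * l c + ε c * l b := fun b c ↦ by
    have hmem : ∀ b : A, b - algebraMap k A (ε b) ∈ m := fun b ↦ by
      show ε (b - algebraMap k A (ε b)) = 0
      simp
    have h2 := hlW' _ (Submodule.mem_sup_left (Ideal.mul_mem_mul (hmem b) (hmem c)))
    rw [show (b - algebraMap k A (ε b)) * (c - algebraMap k A (ε c)) =
        b * c - ε b • c - ε c • b + (ε b * ε c) • (1 : A) by
      simp only [Algebra.smul_def, map_mul]; ring] at h2
    simp only [map_add, map_sub, map_smul, smul_eq_mul, hl1, mul_zero, add_zero] at h2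
    linear_combination h2
  let φ : A →ₐ[k] TrivSqZeroExt k k := AlgHom.ofLinearMap
    { toFun := fun b ↦ inl (ε b) + inr (l b)
      map_add' := fun b c ↦ by ext <;> simp
      map_smul' := fun r b ↦ by ext <;> simp }
    (by ext <;> simp [hl1]) (fun b c ↦ by ext <;> simp [hleib]; ring)
  have := congrArg TrivSqZeroExt.snd (h φ (fun b => by simp [φ]))
  simp [φ] at this
  exact hla this

variable {X : Over (Spec (CommRingCat.of k))} [GrpObj X] {p : ℕ} (hp : (p : k) = 0)
  {A : Type u} [CommRing A] [Algebra k A] (f : specOver k A ⟶ X) [IsOpenImmersion f.left]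
  (ε : A →ₐ[k] k) (hε : specOverMap ε ≫ f = 1)

include hp hε in
/-- The `p`-th power maps the `J`-neighbourhood of the unit into the `J ^ 2`-neighbourhood. -/
theorem exists_pow_neighbourhood {R : Type u} [CommRing R] [Algebra k R] (J : Ideal R)
    (hJ : IsNilpotent J) (ψ : A →ₐ[k] R) (hψ : ∀ a, ε a = 0 → ψ a ∈ J) :
    ∃ ψ' : A →ₐ[k] R, specOverMap ψ' ≫ f = (specOverMap ψ ≫ f) ^ p ∧
      ∀ a, ε a = 0 → ψ' a ∈ J ^ 2 := by
  let q : specOver k A ⟶ X := f ≫ (𝟙 X ^ p)
  let x₀ : PrimeSpectrum A := (specOverMap ε).left (IsLocalRing.closedPoint k)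
  have hx₀ : q.left x₀ = f.left x₀ := by
    have h1 : specOverMap ε ≫ q = specOverMap ε ≫ f := by
      rw [← Category.assoc, hε, MonObj.comp_pow, Category.comp_id, one_pow]
    exact congr(($h1).left (IsLocalRing.closedPoint k))
  obtain ⟨_, ⟨g, rfl⟩, hxg, hgW⟩ :=
    PrimeSpectrum.isTopologicalBasis_basic_opens.exists_subset_of_mem_open
      (show x₀ ∈ q.left.base ⁻¹' Set.range f.left.base from ⟨x₀, hx₀.symm⟩)
      (f.left.isOpenEmbedding.isOpen_range.preimage q.left.continuous)
  have hεg : ε g ≠ 0 := by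
    intro h0
    refine hxg ?_
    show ε g ∈ (IsLocalRing.closedPoint k).asIdeal
    rw [h0]
    exact zero_mem _
  let Ag := Localization.Away g
  let loc : A →ₐ[k] Ag := IsScalarTower.toAlgHom k A Ag
  let εg : Ag →ₐ[k] k := IsLocalization.Away.liftAlgHom g (Ne.isUnit hεg)
  have hεl : εg.comp loc = ε := AlgHom.ext fun a => IsLocalization.Away.lift_eq g (Ne.isUnit hεg) a
  have hr : Set.range ((specOverMap loc ≫ q).left.base) ⊆ Set.range f.left.base := by
    rintro _ ⟨s, rfl⟩
    refine hgW ?_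
    exact (PrimeSpectrum.localization_away_comap_range Ag g).le ⟨s, rfl⟩
  obtain ⟨φ₀, hφ₀⟩ : ∃ φ₀ : A →ₐ[k] Ag, specOverMap φ₀ ≫ f = specOverMap loc ≫ q := by
    let L := IsOpenImmersion.lift f.left (specOverMap loc ≫ q).left hr
    have hL : L ≫ f.left = (specOverMap loc ≫ q).left := IsOpenImmersion.lift_fac _ _ _
    obtain ⟨r, hr'⟩ := Spec.map_surjective L
    have hc : CommRingCat.ofHom (algebraMap k A) ≫ r = CommRingCat.ofHom (algebraMap k Ag) := by
      apply Spec.map_injective
      rw [Spec.map_comp, hr']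
      exact ((congrArg (L ≫ ·) (Over.w f).symm).trans ((Category.assoc _ _ _).symm.trans
        (congrArg (· ≫ X.hom) hL))).trans (Over.w (specOverMap loc ≫ q))
    refine ⟨{ r.hom with commutes' := fun c => congr(($hc).hom c) }, Over.OverMorphism.ext ?_⟩
    show Spec.map (CommRingCat.ofHom r.hom) ≫ f.left = _
    rw [CommRingCat.ofHom_hom, hr', hL]
  have hsq : ∀ a, ε a = 0 → φ₀ a ∈ RingHom.ker εg.toRingHom * RingHom.ker εg.toRingHom := by
    intro a ha
    have key : ∀ χ : Ag →ₐ[k] TrivSqZeroExt k k, (∀ b, (χ b).fst = εg b) →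
        χ (φ₀ a) = algebraMap k _ (ε a) := by
      intro χ hχ
      let z : specOver k (TrivSqZeroExt k k) ⟶ X := specOverMap (χ.comp loc) ≫ f
      have hb : Groth.GrpschAbsch.base ≫ z = 1 := by
        have h1 : (TrivSqZeroExt.fstHom k k k).comp (χ.comp loc) = ε :=
          AlgHom.ext fun b => (hχ (loc b)).trans congr($hεl b)
        show specOverMap _ ≫ specOverMap _ ≫ f = 1
        rw [← Category.assoc, specOverMap_comp, h1, hε]
      have h2 : z ^ p = 1 := by
        have e : scale (0 : k) = specOverMap (Algebra.ofId k (TrivSqZeroExt k k)) ≫ Groth.GrpschAbsch.base := by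
          simp only [scale, Groth.GrpschAbsch.base, specOverMap_comp]
          refine specOverMap_congr fun x ↦ ?_
          ext <;> simp [TrivSqZeroExt.algebraMap_eq_inl]
        rw [← zpow_natCast, ← scale_intCast_comp hb, Int.cast_natCast, hp, e, Category.assoc, hb,
          MonObj.comp_one]
      have h3 : specOverMap (χ.comp φ₀) ≫ f =
          specOverMap ((Algebra.ofId k (TrivSqZeroExt k k)).comp ε) ≫ f := by
        rw [← specOverMap_comp, ← specOverMap_comp, Category.assoc, Category.assoc, hφ₀, hε,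
          MonObj.comp_one, ← Category.assoc, specOverMap_comp]
        show specOverMap (χ.comp loc) ≫ f ≫ (𝟙 X ^ p) = 1
        rw [← Category.assoc, MonObj.comp_pow, Category.comp_id]
        exact h2
      have h4 := Spec.map_injective ((cancel_mono f.left).1
        (congrArg (fun w : specOver k (TrivSqZeroExt k k) ⟶ X => w.left) h3))
      exact congr(($h4).hom a)
    have h0 : εg (φ₀ a) = 0 := by
      have h := key ((Algebra.ofId k (TrivSqZeroExt k k)).comp εg) fun b => by
        simp [Algebra.ofId_apply, TrivSqZeroExt.algebraMap_eq_inl]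
      rw [ha, map_zero] at h
      simpa [Algebra.ofId_apply, TrivSqZeroExt.algebraMap_eq_inl] using congrArg TrivSqZeroExt.fst h
    exact mem_sq_of_tangent εg h0 fun χ hχ => (key χ hχ).trans (by rw [ha, map_zero])
  have hu : IsUnit (ψ g) := by
    obtain ⟨n, hn⟩ := hJ
    have hmem : ψ g - algebraMap k R (ε g) ∈ J := by
      have h := hψ (g - algebraMap k A (ε g)) (by simp)
      rwa [map_sub, AlgHom.commutes] at h
    have hnil : IsNilpotent (ψ g - algebraMap k R (ε g)) := ⟨n, by
      have h' := Ideal.pow_mem_pow hmem n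
      rw [hn] at h'
      exact h'⟩
    have := hnil.isUnit_add_left_of_commute ((Ne.isUnit hεg).map (algebraMap k R)) (Commute.all _ _)
    rwa [add_sub_cancel] at this
  let ψg : Ag →ₐ[k] R := IsLocalization.Away.liftAlgHom g hu
  have hψl : ψg.comp loc = ψ := AlgHom.ext fun a => IsLocalization.Away.lift_eq g hu a
  refine ⟨ψg.comp φ₀, ?_, fun a ha => ?_⟩
  · rw [← specOverMap_comp, Category.assoc, hφ₀, ← Category.assoc, specOverMap_comp, hψl]
    show specOverMap ψ ≫ f ≫ (𝟙 X ^ p) = _
    rw [← Category.assoc, MonObj.comp_pow, Category.comp_id]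
  · have hle : (RingHom.ker εg.toRingHom).map ψg.toRingHom ≤ J := by
      rw [Ideal.map_le_iff_le_comap]
      intro x hx
      obtain ⟨n, b, hb⟩ := IsLocalization.Away.surj g x
      show ψg x ∈ J
      have hb0 : ε b = 0 := by
        have h := congrArg εg hb
        rw [map_mul, show εg x = 0 from hx, zero_mul] at h
        exact congr($hεl b).symm.trans h.symm
      have h := congrArg ψg hb
      rw [map_mul, show ψg (algebraMap A Ag b) = ψ b from congr($hψl b), map_pow,
        show ψg (algebraMap A Ag g) = ψ g from congr($hψl g)] at h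
      exact (Ideal.mul_unit_mem_iff_mem J (hu.pow n)).1 (h ▸ hψ b hb0)
    have := Ideal.mem_map_of_mem ψg.toRingHom (hsq a ha)
    rw [Ideal.map_mul] at this
    rw [pow_two]
    exact Ideal.mul_mono hle hle this

include hp hε in
/-- The `r`-th infinitesimal neighbourhood of the unit is killed by `p ^ r`. -/
theorem pow_neighbourhood_eq_one (r : ℕ) :
    (specOverMap (Ideal.Quotient.mkₐ k (RingHom.ker ε.toRingHom ^ r)) ≫ f :
      specOver k (A ⧸ RingHom.ker ε.toRingHom ^ r) ⟶ X) ^ p ^ r = 1 := by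
  set m := RingHom.ker ε.toRingHom
  set J : Ideal (A ⧸ m ^ r) := m.map (Ideal.Quotient.mk (m ^ r))
  have hJr : J ^ r = ⊥ := by
    rw [← Ideal.map_pow, Ideal.map_quotient_self]
  have hnil : ∀ N : ℕ, IsNilpotent (J ^ 2 ^ N) := fun N =>
    (show IsNilpotent J from ⟨r, hJr⟩).pow_of_pos (Nat.two_pow_pos N).ne'
  have key : ∀ N : ℕ, ∃ ψ : A →ₐ[k] A ⧸ m ^ r,
      specOverMap ψ ≫ f = (specOverMap (Ideal.Quotient.mkₐ k (m ^ r)) ≫ f :
        specOver k (A ⧸ m ^ r) ⟶ X) ^ p ^ N ∧ ∀ a, ε a = 0 → ψ a ∈ J ^ 2 ^ N := by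
    intro N
    induction N with
    | zero =>
      refine ⟨Ideal.Quotient.mkₐ k _, by rw [pow_zero, pow_one], fun a ha => ?_⟩
      rw [pow_zero, pow_one]
      exact Ideal.mem_map_of_mem _ ha
    | succ N ih =>
      obtain ⟨ψ, hψ₁, hψ₂⟩ := ih
      obtain ⟨ψ', h₁, h₂⟩ := exists_pow_neighbourhood hp f ε hε (J ^ 2 ^ N) (hnil N) ψ hψ₂
      refine ⟨ψ', by rw [h₁, hψ₁, ← pow_mul, ← pow_succ], fun a ha => ?_⟩
      rw [pow_succ, pow_mul]
      exact h₂ a ha
  obtain ⟨ψ, hψ₁, hψ₂⟩ := key r
  rw [← hψ₁]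
  have hψe : ψ = (Algebra.ofId k _).comp ε := AlgHom.ext fun a => by
    have h := hψ₂ (a - algebraMap k A (ε a)) (by simp)
    have hb : J ^ 2 ^ r ≤ ⊥ := hJr ▸ Ideal.pow_le_pow_right (Nat.lt_two_pow_self).le
    rw [map_sub, AlgHom.commutes] at h
    exact sub_eq_zero.1 (hb h)
  rw [hψe, ← specOverMap_comp, Category.assoc, hε, MonObj.comp_one]

end Groth.AbVarMul
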