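import Groth.Agent.AbVarMul.DegForm
import Groth.Agent.AbVarMul.TateCoker
import Groth.Agent.GrpschAbsch.Cartier
import Mathlib.RingTheory.Artinian.Ring
import Mathlib.AlgebraicGeometry.Morphisms.FlatRank

/-!
# The number of rational points of the kernel divides the degree of an isogeny

The fibre over the origin is the spectrum of a finite algebra on which the translations by the
kernel act transitively on points, so all its local factors have the same dimension.
-/

universe u

open CategoryTheory Limits MonoidalCategory CartesianMonoidalCategory MonObj GrpObj AlgebraicGeometry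
  TopologicalSpace
open Groth.GrpschAbsch (specOver specOverMap specOverMap_comp)

namespace Groth.AbVarMul

variable {k : Type u} [Field k]

/-- A finite algebra over an algebraically closed field with a transitive group of automorphisms on
its points has dimension a multiple of their number. -/
theorem natCard_algHom_dvd_finrank [IsAlgClosed k] (R : Type u) [CommRing R] [Algebra k R]
    [Module.Finite k R]
    (h : ∀ χ χ' : R →ₐ[k] k, ∃ σ : R ≃ₐ[k] R, χ' = χ.comp σ.toAlgHom) :
    Nat.card (R →ₐ[k] k) ∣ Module.finrank k R := by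
  classical
  have : IsArtinianRing R := IsArtinianRing.of_finite k R
  have hbij : ∀ m : MaximalSpectrum R,
      Function.Bijective (Algebra.ofId k (R ⧸ m.asIdeal)) := fun m => by
    have := m.isMaximal
    exact IsAlgClosed.algebraMap_bijective_of_isIntegral (k := k) (K := R ⧸ m.asIdeal)
  let e : (R →ₐ[k] k) ≃ MaximalSpectrum R :=
    { toFun := fun χ => ⟨RingHom.ker χ.toRingHom, RingHom.ker_isMaximal_of_surjective _
        fun c => ⟨algebraMap k R c, χ.commutes c⟩⟩
      invFun := fun m => ((AlgEquiv.ofBijective (Algebra.ofId k (R ⧸ m.asIdeal))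
        (hbij m)).symm.toAlgHom.comp (Ideal.Quotient.mkₐ k m.asIdeal))
      left_inv := fun χ => by
        ext r
        show (AlgEquiv.ofBijective (Algebra.ofId k (R ⧸ RingHom.ker χ.toRingHom))
          (hbij ⟨RingHom.ker χ.toRingHom, RingHom.ker_isMaximal_of_surjective _
            fun c => ⟨algebraMap k R c, χ.commutes c⟩⟩)).symm (Ideal.Quotient.mk _ r) = χ r
        rw [AlgEquiv.symm_apply_eq]
        show Ideal.Quotient.mk _ r = algebraMap k (R ⧸ _) (χ r)
        rw [IsScalarTower.algebraMap_apply k R (R ⧸ _), Ideal.Quotient.algebraMap_eq,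
          Ideal.Quotient.mk_eq_mk_iff_sub_mem, RingHom.mem_ker]
        simp
      right_inv := fun m => by
        refine MaximalSpectrum.ext ?_
        ext r
        show (AlgEquiv.ofBijective (Algebra.ofId k (R ⧸ m.asIdeal)) (hbij m)).symm
          (Ideal.Quotient.mk m.asIdeal r) = 0 ↔ _
        rw [EmbeddingLike.map_eq_zero_iff, Ideal.Quotient.eq_zero_iff_mem] }
  obtain ⟨N, hN⟩ := IsArtinianRing.isNilpotent_jacobson_bot (R := R)
  have : Fintype (MaximalSpectrum R) := Fintype.ofFinite _
  let I : MaximalSpectrum R → Ideal R := fun m => m.asIdeal ^ (N + 1)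
  have hcop : Pairwise (fun a b => IsCoprime (I a) (I b)) := fun a b hab =>
    (Ideal.isCoprime_iff_sup_eq.2 (a.isMaximal.coprime_of_ne b.isMaximal
      fun h => hab (MaximalSpectrum.ext h))).pow
  have hbot : ⨅ m, I m = ⊥ := by
    rw [eq_bot_iff, ← Ideal.zero_eq_bot]
    refine le_trans ?_ ((Ideal.pow_le_pow_right (Nat.le_succ N)).trans hN.le)
    have h1 : (⨅ m, I m) = ∏ m, I m := by
      rw [Ideal.prod_eq_iInf_of_pairwise_isCoprime (s := Finset.univ) (J := I)
        fun a _ b _ hab => hcop hab]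
      simp
    rw [h1, Finset.prod_pow]
    refine Ideal.pow_right_mono ?_ _
    rw [Ideal.jacobson, Ideal.prod_eq_iInf_of_pairwise_isCoprime (s := Finset.univ)
      (fun a _ b _ hab => Ideal.isCoprime_iff_sup_eq.2 (a.isMaximal.coprime_of_ne b.isMaximal
        fun h => hab (MaximalSpectrum.ext h)))]
    exact le_sInf fun J hJ => iInf₂_le (⟨J, hJ.2⟩ : MaximalSpectrum R) (Finset.mem_univ _)
  let Φ : R →ₗ[k] ((m : MaximalSpectrum R) → R ⧸ I m) :=
    LinearMap.pi fun m => (Ideal.Quotient.mkₐ k (I m)).toLinearMap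
  have hΦ : Function.Bijective Φ := by
    refine ⟨?_, fun y => ?_⟩
    · rw [← LinearMap.ker_eq_bot, LinearMap.ker_eq_bot']
      intro r hr
      have : r ∈ ⨅ m, I m := Ideal.mem_iInf.2 fun m =>
        Ideal.Quotient.eq_zero_iff_mem.1 (congrFun hr m)
      rwa [hbot] at this
    · obtain ⟨x, hx⟩ := Ideal.quotientInfToPiQuotient_surj hcop y
      obtain ⟨r, rfl⟩ := Ideal.Quotient.mk_surjective x
      exact ⟨r, hx⟩
  rw [(LinearEquiv.ofBijective Φ hΦ).finrank_eq, Module.finrank_pi_fintype]
  rcases isEmpty_or_nonempty (MaximalSpectrum R) with h0 | ⟨⟨m₀⟩⟩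
  · simp
  refine ⟨Module.finrank k (R ⧸ I m₀), ?_⟩
  rw [Nat.card_congr e, Nat.card_eq_fintype_card, ← smul_eq_mul, ← Finset.card_univ, ← Finset.sum_const]
  refine Finset.sum_congr rfl fun m _ => ?_
  obtain ⟨σ, hσ⟩ := h (e.symm m₀) (e.symm m)
  refine LinearEquiv.finrank_eq (Ideal.quotientEquivAlg (I m) (I m₀) σ ?_).toLinearEquiv
  have hker : m.asIdeal = m₀.asIdeal.comap (σ : R →+* R) := by
    rw [← e.apply_symm_apply m, hσ]
    conv_rhs => rw [← e.apply_symm_apply m₀]
    exact (RingHom.comap_ker _ _).symm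
  show m₀.asIdeal ^ (N + 1) = Ideal.map (σ : R →+* R) (m.asIdeal ^ (N + 1))
  rw [Ideal.map_pow, hker, Ideal.map_comap_of_surjective (σ : R →+* R) σ.surjective]

/-- Morphisms between spectra over the ground field come from algebra maps. -/
theorem exists_eq_specOverMap {R R' : Type u} [CommRing R] [CommRing R'] [Algebra k R] [Algebra k R']
    (φ : specOver k R' ⟶ specOver k R) : ∃ h : R →ₐ[k] R', φ = specOverMap h := by
  let g := Spec.preimage φ.left
  have hg : Spec.map g = φ.left := Spec.map_preimage _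
  have hc : CommRingCat.ofHom (algebraMap k R) ≫ g = CommRingCat.ofHom (algebraMap k R') :=
    Spec.map_injective (by rw [Spec.map_comp, hg]; exact Over.w φ)
  exact ⟨⟨g.hom, fun c => congr($hc c)⟩, Over.OverMorphism.ext hg.symm⟩

theorem specOverMap_injective {R R' : Type u} [CommRing R] [CommRing R'] [Algebra k R] [Algebra k R']
    {h h' : R →ₐ[k] R'} (e : specOverMap h = specOverMap h') : h = h' := by
  have e' := Spec.map_injective (congrArg Over.Hom.left e)
  exact AlgHom.ext fun r => congr($e' r)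

/-- Rational points of an affine scheme. -/
theorem exists_pointsEquiv (R : Type u) [CommRing R] [Algebra k R] :
    ∃ e : (R →ₐ[k] k) ≃ (𝟙_ (Over (Spec (CommRingCat.of k))) ⟶ specOver k R),
      ∀ (χ : R →ₐ[k] k) (σ : R →ₐ[k] R), e (χ.comp σ) = e χ ≫ specOverMap σ := by
  let j : 𝟙_ (Over (Spec (CommRingCat.of k))) ⟶ specOver k k := Over.homMk (𝟙 _) (by
    show 𝟙 _ ≫ Spec.map (CommRingCat.ofHom (algebraMap k k)) = _
    rw [Algebra.algebraMap_self]
    exact (Category.id_comp _).trans (Spec.map_id _))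
  let j' : specOver k k ⟶ 𝟙_ (Over (Spec (CommRingCat.of k))) := toUnit _
  have hj : j ≫ j' = 𝟙 _ := toUnit_unique _ _
  have hj' : j' ≫ j = 𝟙 _ := Over.OverMorphism.ext (by
    refine (Category.comp_id j'.left).trans ((Over.w j').trans ?_ |> fun h => (Category.comp_id _).symm.trans h)
    show Spec.map (CommRingCat.ofHom (algebraMap k k)) = _
    rw [Algebra.algebraMap_self]
    exact Spec.map_id _)
  refine ⟨Equiv.ofBijective (fun χ => j ≫ specOverMap χ) ⟨fun χ χ' h => ?_, fun z => ?_⟩,
    fun χ σ => ?_⟩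
  · refine specOverMap_injective ?_
    have h' := congrArg (j' ≫ ·) h
    simp only [← Category.assoc, hj', Category.id_comp] at h'
    exact h'
  · obtain ⟨χ, hχ⟩ := exists_eq_specOverMap (j' ≫ z)
    exact ⟨χ, by show j ≫ specOverMap χ = z; rw [← hχ, ← Category.assoc, hj, Category.id_comp]⟩
  · show j ≫ specOverMap (χ.comp σ) = (j ≫ specOverMap χ) ≫ specOverMap σ
    rw [Category.assoc, specOverMap_comp]

variable [IsAlgClosed k] {A B : Over (Spec (CommRingCat.of k))} [GrpObj A] [GrpObj B]
  [IsProper A.hom] [GeometricallyIntegral A.hom] [IsProper B.hom] [GeometricallyIntegral B.hom]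

local notation "pt" => 𝟙_ (Over (Spec (CommRingCat.of k)))

/-- **The number of points of the kernel divides the degree.** -/
theorem natCard_ker_dvd_homDeg (f : A ⟶ B) [IsMonHom f] [IsFinite f.left]
    (hdim : topologicalKrullDim A.left = topologicalKrullDim B.left) :
    Nat.card {z : pt ⟶ A // z ≫ f = 1} ∣ homDeg f := by
  let N : Over (Spec (CommRingCat.of k)) := Over.mk (pullback.snd f.left η[B].left)
  let i : N ⟶ A := Over.homMk (pullback.fst f.left η[B].left) (by
    show pullback.fst f.left η[B].left ≫ A.hom = pullback.snd f.left η[B].left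
    rw [← Over.w f, ← Category.assoc, pullback.condition, Category.assoc]
    exact (congrArg (pullback.snd f.left η[B].left ≫ ·) (Over.w η[B])).trans (Category.comp_id _))
  have hif : i ≫ f = 1 := Over.OverMorphism.ext pullback.condition
  have hlift : ∀ {T : Over (Spec (CommRingCat.of k))} (t : T ⟶ A), t ≫ f = 1 → ∃ s : T ⟶ N, s ≫ i = t :=
    fun {T} t ht => ⟨Over.homMk (pullback.lift t.left T.hom (congrArg Over.Hom.left ht))
      (pullback.lift_snd _ _ _), Over.OverMorphism.ext (pullback.lift_fst _ _ _)⟩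
  have hinj : ∀ {T : Over (Spec (CommRingCat.of k))} (s s' : T ⟶ N), s ≫ i = s' ≫ i → s = s' :=
    fun s s' h => Over.OverMorphism.ext (pullback.hom_ext (congrArg Over.Hom.left h)
      ((Over.w s).trans (Over.w s').symm))
  have : IsFinite N.hom := inferInstanceAs (IsFinite (pullback.snd f.left η[B].left))
  have : IsAffine N.left := isAffine_of_isAffineHom N.hom
  let R : Type u := Γ(N.left, ⊤)
  let : Algebra k R := ((Scheme.ΓSpecIso (CommRingCat.of k)).inv ≫ N.hom.appTop).hom.toAlgebra
  have hNe : N.left.isoSpec.hom ≫ Spec.map (CommRingCat.ofHom (algebraMap k R)) = N.hom := by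
    show N.left.isoSpec.hom ≫ Spec.map ((Scheme.ΓSpecIso (CommRingCat.of k)).inv ≫ N.hom.appTop) = _
    rw [Scheme.isoSpec_hom, Spec.map_comp, ← Scheme.toSpecΓ_naturality_assoc, ← Scheme.isoSpec_hom]
    simp [Scheme.isoSpec_Spec_hom, ← Spec.map_comp]
  let ε : N ≅ specOver k R := Over.isoMk N.left.isoSpec hNe
  have : IsIso ε.hom.left := inferInstanceAs (IsIso N.left.isoSpec.hom)
  have hmap : ε.inv.left ≫ N.hom = Spec.map (CommRingCat.ofHom (algebraMap k R)) := Over.w ε.inv
  have hfinR : Module.Finite k R := by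
    have h1 : IsFinite (Spec.map (CommRingCat.ofHom (algebraMap k R))) := by
      have : IsIso ε.inv.left := inferInstanceAs (IsIso N.left.isoSpec.inv)
      rw [← hmap]; infer_instance
    exact RingHom.finite_algebraMap.1 ((IsFinite.SpecMap_iff _).1 h1)
  obtain ⟨h2, -⟩ := flat_surjective_of_isFinite f hdim
  have : LocallyOfFinitePresentation f.left := Groth.AlgGrp1.lfp_left f
  have hrank : homDeg f = Module.finrank k R := by
    let y : (𝟙_ (Over (Spec (CommRingCat.of k)))).left := IsLocalRing.closedPoint k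
    have sq := IsPullback.of_hasPullback f.left η[B].left
    have e1 : (pullback.snd f.left η[B].left).finrank y = f.left.finrank (η[B].left y) :=
      Scheme.Hom.finrank_of_isPullback _ _ f.left η[B].left sq.flip.flip y
    rw [finrank_eq_homDeg f hdim] at e1
    rw [← e1]
    have : IsIso ε.inv.left := inferInstanceAs (IsIso N.left.isoSpec.inv)
    have h3 : Scheme.Hom.finrank (ε.inv.left ≫ N.hom) y = Module.rankAtStalk R y := by
      rw [hmap]
      exact Scheme.Hom.finrank_SpecMap_algebraMap k R y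
    rw [Scheme.Hom.finrank_comp_left_of_isIso ε.inv.left N.hom,
      Module.rankAtStalk_eq_finrank_of_free] at h3
    exact h3.trans (Nat.cast_id _)
  rw [hrank]
  obtain ⟨eP, heP⟩ := exists_pointsEquiv (k := k) R
  have hcount : Nat.card {z : pt ⟶ A // z ≫ f = 1} = Nat.card (R →ₐ[k] k) := by
    refine (Nat.card_congr ((Equiv.ofBijective (fun s : pt ⟶ N =>
      (⟨s ≫ i, by rw [Category.assoc, hif, MonObj.comp_one]⟩ : {z : pt ⟶ A // z ≫ f = 1}))
      ⟨fun s s' h => hinj s s' (congrArg Subtype.val h), fun z => ?_⟩).symm.trans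
        ((ε.homToEquiv).trans eP.symm)))
    obtain ⟨s, hs⟩ := hlift z.1 z.2
    exact ⟨s, Subtype.ext hs⟩
  rw [hcount]
  refine natCard_algHom_dvd_finrank R fun χ χ' => ?_
  set s := eP χ ≫ ε.inv with hs
  set s' := eP χ' ≫ ε.inv with hs'
  have hker : ∀ q : pt ⟶ N, (q ≫ i) ≫ f = 1 := fun q => by rw [Category.assoc, hif, MonObj.comp_one]
  obtain ⟨t, ht⟩ := hlift (i * (toUnit N ≫ ((s ≫ i)⁻¹ * (s' ≫ i)))) (by
    rw [MonObj.mul_comp, hif, _root_.one_mul, Category.assoc, MonObj.mul_comp, GrpObj.inv_comp, hker,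
      hker, inv_one, _root_.one_mul, MonObj.comp_one])
  obtain ⟨t', ht'⟩ := hlift (i * (toUnit N ≫ ((s' ≫ i)⁻¹ * (s ≫ i)))) (by
    rw [MonObj.mul_comp, hif, _root_.one_mul, Category.assoc, MonObj.mul_comp, GrpObj.inv_comp, hker,
      hker, inv_one, _root_.one_mul, MonObj.comp_one])
  have hcomm := GrpschAbsch.isCommMonObj_of_isProper A
  have htt : t ≫ t' = 𝟙 N := hinj _ _ (by
    rw [Category.assoc, ht', MonObj.comp_mul, ht, ← Category.assoc, toUnit_unique (t ≫ toUnit N) (toUnit N),
      Category.id_comp, _root_.mul_assoc, ← MonObj.comp_mul,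
      show (s ≫ i)⁻¹ * (s' ≫ i) * ((s' ≫ i)⁻¹ * (s ≫ i)) = 1 by group, MonObj.comp_one,
      _root_.mul_one])
  have ht't : t' ≫ t = 𝟙 N := hinj _ _ (by
    rw [Category.assoc, ht, MonObj.comp_mul, ht', ← Category.assoc, toUnit_unique (t' ≫ toUnit N) (toUnit N),
      Category.id_comp, _root_.mul_assoc, ← MonObj.comp_mul,
      show (s' ≫ i)⁻¹ * (s ≫ i) * ((s ≫ i)⁻¹ * (s' ≫ i)) = 1 by group, MonObj.comp_one,
      _root_.mul_one])
  have hst : s ≫ t = s' := hinj _ _ (by
    rw [Category.assoc, ht, MonObj.comp_mul, ← Category.assoc s (toUnit N),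
      toUnit_unique (s ≫ toUnit N) (𝟙 _), Category.id_comp]
    group)
  obtain ⟨σ₁, hσ₁⟩ := exists_eq_specOverMap (ε.inv ≫ t ≫ ε.hom)
  obtain ⟨σ₂, hσ₂⟩ := exists_eq_specOverMap (ε.inv ≫ t' ≫ ε.hom)
  have hinv : ∀ (p q : N ⟶ N), p ≫ q = 𝟙 N → ∀ (a b : R →ₐ[k] R),
      ε.inv ≫ p ≫ ε.hom = specOverMap a → ε.inv ≫ q ≫ ε.hom = specOverMap b →
      a.comp b = AlgHom.id k R := fun p q hpq a b ha hb => by
    refine specOverMap_injective ?_
    rw [← specOverMap_comp, ← ha, ← hb]
    simp only [Category.assoc, Iso.hom_inv_id_assoc]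
    rw [← Category.assoc p, hpq, Category.id_comp, Iso.inv_hom_id]
    exact Over.OverMorphism.ext (Spec.map_id _).symm
  refine ⟨AlgEquiv.ofAlgHom σ₁ σ₂ (hinv t t' htt σ₁ σ₂ hσ₁ hσ₂) (hinv t' t ht't σ₂ σ₁ hσ₂ hσ₁),
    eP.injective ?_⟩
  show eP χ' = eP (χ.comp σ₁)
  have h1 : eP χ' = eP χ ≫ ε.inv ≫ t ≫ ε.hom := by
    rw [← Category.assoc (eP χ), ← hs, ← Category.assoc, hst, hs', Category.assoc,
      Iso.inv_hom_id, Category.comp_id]
  rw [h1, hσ₁, heP]

end Groth.AbVarMul
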