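import Mathlib
import Groth.Prelude.Def_AbDual

/-!
# The Tate module of a group with divisible points and elementary `l`-torsion is free
-/

universe u

open CategoryTheory Limits MonoidalCategory CartesianMonoidalCategory MonObj GrpObj AlgebraicGeometry
open AbDual

namespace Groth.AbVarMul

theorem isPrecomplete_fun {R : Type*} [CommRing R] (I : Ideal R) [IsPrecomplete I R] (J : Type*)
    [Fintype J] [DecidableEq J] : IsPrecomplete I (J → R) := by
  have hmem : ∀ (n : ℕ) (x : J → R), x ∈ (I ^ n • ⊤ : Submodule R (J → R)) ↔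
      ∀ i, x i ∈ (I ^ n • ⊤ : Submodule R R) := fun n x => by
    constructor
    · intro hx i
      have := Submodule.mem_map_of_mem (f := LinearMap.proj (R := R) (φ := fun _ : J => R) i) hx
      rw [Submodule.map_smul''] at this
      exact Submodule.smul_mono le_rfl le_top this
    · intro hx
      rw [pi_eq_sum_univ' x]
      refine Submodule.sum_mem _ fun i _ => ?_
      have := hx i
      rw [smul_eq_mul, Ideal.mul_top] at this
      exact Submodule.smul_mem_smul this Submodule.mem_top
  refine ⟨fun f hf => ?_⟩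
  have h : ∀ i, ∃ L : R, ∀ n, f n i ≡ L [SMOD (I ^ n • ⊤ : Submodule R R)] := fun i =>
    IsPrecomplete.prec inferInstance (f := fun n => f n i) fun {m n} hmn => by
      rw [SModEq.sub_mem]
      exact (hmem m _).mp (SModEq.sub_mem.mp (hf hmn)) i
  choose L hL using h
  exact ⟨L, fun n => SModEq.sub_mem.mpr ((hmem n _).mpr fun i => SModEq.sub_mem.mp (hL i n))⟩

variable {S : Scheme.{u}} {A : Over S} [GrpObj A] [IsCommMonObj A] {l : ℕ} {T : Over S}

theorem nsmul_component_add (x : TateMod A l T) (m n : ℕ) :
    (l ^ n) • (x : ℕ → Additive (T ⟶ A)) (m + n) = (x : ℕ → Additive (T ⟶ A)) m := by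
  induction n with
  | zero => simp
  | succ n ih => rw [pow_succ, mul_nsmul', ← Nat.add_assoc, x.compat, ih]

theorem eq_zero_of_nsmul (x : TateMod A l T) (n : ℕ) (h : (l ^ n) • x = 0) : x = 0 :=
  TateMod.ext fun m => by
    rw [← nsmul_component_add x m n]
    exact congrFun (congrArg Subtype.val h) (m + n)

/-- Every `l`-torsion point is the first component of an element of the Tate module. -/
theorem exists_tateMod_component_one (hdiv : ∀ a : T ⟶ A, ∃ b : T ⟶ A, b ^ l = a)
    (b : Additive (T ⟶ A)) (hb : l • b = 0) :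
    ∃ x : TateMod A l T, (x : ℕ → Additive (T ⟶ A)) 1 = b := by
  have hdiv' : ∀ a : Additive (T ⟶ A), ∃ c : Additive (T ⟶ A), l • c = a := fun a => by
    obtain ⟨c, hc⟩ := hdiv a.toMul
    exact ⟨Additive.ofMul c, congrArg Additive.ofMul hc⟩
  choose d hd using hdiv'
  let s : ℕ → Additive (T ⟶ A) := fun n => Nat.rec 0 (fun m _ => d^[m] b) n
  have hs : ∀ n, l • s (n + 1) = s n := fun n => by
    cases n with
    | zero => exact hb
    | succ m =>
      show l • d^[m + 1] b = d^[m] b
      rw [Function.iterate_succ_apply', hd]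
  refine ⟨⟨s, fun n => ?_, hs⟩, rfl⟩
  induction n with
  | zero => exact nsmul_zero _
  | succ n ih => rw [pow_succ, mul_nsmul', hs, ih]

variable [Fact l.Prime]

/-- An element of the Tate module with vanishing first component is divisible by `l`. -/
theorem exists_eq_smul (y : TateMod A l T) (hy : (y : ℕ → Additive (T ⟶ A)) 1 = 0) :
    ∃ x : TateMod A l T, y = l • x := by
  refine ⟨⟨fun n => (y : ℕ → Additive (T ⟶ A)) (n + 1), fun n => ?_, fun n => y.compat (n + 1)⟩, ?_⟩
  · show (l ^ n) • (y : ℕ → Additive (T ⟶ A)) (n + 1) = 0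
    rw [Nat.add_comm n 1, nsmul_component_add, hy]
  · exact TateMod.ext fun n => (y.compat n).symm

theorem component_natCast_smul (c : ℕ) (x : TateMod A l T) (n : ℕ) :
    (((c : ℤ_[l]) • x : TateMod A l T) : ℕ → Additive (T ⟶ A)) n =
      c • (x : ℕ → Additive (T ⟶ A)) n := by
  rw [Nat.cast_smul_eq_nsmul]
  rfl

/-- The Tate module of a group with divisible points and `l`-torsion `(ℤ/l)^r` is `ℤ_l^r`. -/
theorem nonempty_tateMod_linearEquiv (hdiv : ∀ a : T ⟶ A, ∃ b : T ⟶ A, b ^ l = a) {r : ℕ}
    (e : torsPts A l T ≃* Multiplicative (Fin r → ZMod l)) :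
    Nonempty ((Fin r → ℤ_[l]) ≃ₗ[ℤ_[l]] TateMod A l T) := by
  have hl := (Fact.out : l.Prime)
  have : NeZero l := ⟨hl.ne_zero⟩
  let E : Additive (torsPts A l T) ≃+ (Fin r → ZMod l) := MulEquiv.toAdditiveLeft e
  let inc : Additive (torsPts A l T) →+ Additive (T ⟶ A) := (torsPts A l T).subtype.toAdditive
  have hincinj : Function.Injective inc := fun a b h => Subtype.ext h
  let b : Fin r → Additive (T ⟶ A) := fun i => inc (E.symm (Pi.single i 1))
  have hb : ∀ c : Fin r → ℕ, (∑ i, c i • b i) = inc (E.symm (fun i => (c i : ZMod l))) := fun c => by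
    conv_rhs => rw [← Finset.univ_sum_single (fun i => (c i : ZMod l))]
    rw [map_sum, map_sum]
    refine Finset.sum_congr rfl fun i _ => ?_
    rw [← map_nsmul, ← map_nsmul, ← Pi.single_smul, nsmul_one]
  have hbl : ∀ i, l • b i = 0 := fun i => by
    rw [← map_nsmul, ← map_nsmul, ← Pi.single_smul, nsmul_one, ZMod.natCast_self, Pi.single_zero,
      map_zero, map_zero]
  choose x hx using fun i => exists_tateMod_component_one hdiv (b i) (hbl i)
  let f : (Fin r → ℤ_[l]) →ₗ[ℤ_[l]] TateMod A l T := Fintype.linearCombination ℤ_[l] x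
  have hf1 : ∀ a, (f a : ℕ → Additive (T ⟶ A)) 1 = ∑ i, (a i).appr 1 • b i := fun a => by
    show TateMod.component A l T 1 (f a) = _
    rw [Fintype.linearCombination_apply, map_sum]
    refine Finset.sum_congr rfl fun i _ => ?_
    show _ = (a i).appr 1 • b i
    rw [← hx i]
    rfl
  have hI : IsLocalRing.maximalIdeal ℤ_[l] = Ideal.span {(l : ℤ_[l])} := PadicInt.maximalIdeal_eq_span_p
  -- injectivity
  have hinj : Function.Injective f := by
    rw [injective_iff_map_eq_zero]
    intro a ha
    have : ∀ (n : ℕ) (a : Fin r → ℤ_[l]), f a = 0 → ∀ i, (l : ℤ_[l]) ^ n ∣ a i := by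
      intro n
      induction n with
      | zero => intro a _ i; simp
      | succ n ih =>
        intro a ha
        have h1 : ∀ i, (l : ℤ_[l]) ∣ a i := fun i => by
          have h0 : (∑ i, (a i).appr 1 • b i) = 0 := by rw [← hf1, ha]; rfl
          rw [hb] at h0
          have h2 := congrArg E (hincinj (h0.trans (map_zero inc).symm))
          rw [AddEquiv.apply_symm_apply, map_zero] at h2
          have h3 : (a i).appr 1 = 0 := Nat.eq_zero_of_dvd_of_lt
            ((ZMod.natCast_eq_zero_iff _ _).mp (congrFun h2 i)) (by simpa using (a i).appr_lt 1)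
          have h4 := PadicInt.appr_spec 1 (a i)
          rw [h3, Nat.cast_zero, sub_zero, pow_one] at h4
          exact Ideal.mem_span_singleton.mp h4
        choose a' ha' using h1
        have ha'0 : f a' = 0 := by
          refine eq_zero_of_nsmul _ 1 ?_
          rw [pow_one, ← Nat.cast_smul_eq_nsmul ℤ_[l], ← map_smul]
          rw [show (l : ℤ_[l]) • a' = a from funext fun i => (ha' i).symm, ha]
        intro i
        rw [ha' i, pow_succ']
        exact mul_dvd_mul_left _ (ih a' ha'0 i)
    funext i
    by_contra h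
    have h' := this ((a i).valuation + 1) a ha i
    rw [← Ideal.mem_span_singleton, PadicInt.mem_span_pow_iff_le_valuation _ h] at h'
    omega
  -- surjectivity
  have : IsPrecomplete (IsLocalRing.maximalIdeal ℤ_[l]) (Fin r → ℤ_[l]) := isPrecomplete_fun _ _
  have : IsHausdorff (IsLocalRing.maximalIdeal ℤ_[l]) (TateMod A l T) := ⟨fun y hy => by
    refine TateMod.ext fun n => ?_
    have h := SModEq.zero.mp (hy n)
    rw [hI, Ideal.span_singleton_pow, Submodule.ideal_span_singleton_smul] at h
    obtain ⟨z, -, rfl⟩ := Submodule.mem_smul_pointwise_iff_exists _ _ _ |>.mp h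
    rw [← Nat.cast_pow, component_natCast_smul]
    exact z.torsion n⟩
  have hsurj : Function.Surjective f := by
    refine surjective_of_mkQ_comp_surjective (I := IsLocalRing.maximalIdeal ℤ_[l]) fun q => ?_
    obtain ⟨y, rfl⟩ := Submodule.mkQ_surjective _ q
    have hy : (y : ℕ → Additive (T ⟶ A)) 1 ∈ torsPts A l T := by
      have := y.torsion 1
      rwa [pow_one] at this
    let c : Fin r → ℕ := fun i => (E (Additive.ofMul ⟨_, hy⟩) i).val
    have hc : (∑ i, c i • b i) = (y : ℕ → Additive (T ⟶ A)) 1 := by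
      rw [hb]
      have : (fun i => (c i : ZMod l)) = E (Additive.ofMul ⟨_, hy⟩) :=
        funext fun i => ZMod.natCast_rightInverse _
      rw [this, E.symm_apply_apply]
      rfl
    let a : Fin r → ℤ_[l] := fun i => (c i : ℤ_[l])
    obtain ⟨z, hz⟩ := exists_eq_smul (y - f a) (by
      show TateMod.component A l T 1 (y - f a) = 0
      rw [map_sub, Fintype.linearCombination_apply, map_sum, sub_eq_zero]
      refine hc.symm.trans (Finset.sum_congr rfl fun i _ => ?_)
      rw [← hx i]
      exact (component_natCast_smul _ _ _).symm)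
    refine ⟨a, ?_⟩
    rw [LinearMap.comp_apply, Submodule.mkQ_apply, Submodule.mkQ_apply, eq_comm,
      Submodule.Quotient.eq, hz, ← Nat.cast_smul_eq_nsmul ℤ_[l]]
    exact Submodule.smul_mem_smul (by rw [hI]; exact Ideal.mem_span_singleton_self _)
      Submodule.mem_top
  exact ⟨LinearEquiv.ofBijective f ⟨hinj, hsurj⟩⟩

end Groth.AbVarMul
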