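import Mathlib

/-!
# Recognising `(ZMod n) ^ r` among abelian groups killed by `n`
-/

namespace Groth.AbVarMul

theorem exists_generators_mod_prime {G : Type*} [AddCommGroup G] [Finite G] {p r : ℕ} [Fact p.Prime]
    (h : Nat.card {x : G // p • x = 0} = p ^ r) :
    ∃ x : Fin r → G, ∀ g : G, ∃ (c : Fin r → ℤ) (y : G), g = (∑ i, c i • x i) + p • y := by
  let μ : G →+ G := nsmulAddMonoidHom p
  have hker : Nat.card μ.ker = p ^ r := h
  have hquot : Nat.card (G ⧸ μ.range) = p ^ r := by
    have h1 := AddSubgroup.card_eq_card_quotient_mul_card_addSubgroup μ.range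
    have h2 := AddSubgroup.card_eq_card_quotient_mul_card_addSubgroup μ.ker
    have h3 : Nat.card (G ⧸ μ.ker) = Nat.card μ.range :=
      Nat.card_congr (QuotientAddGroup.quotientKerEquivRange μ).toEquiv
    rw [h3, hker, mul_comm] at h2
    exact Nat.eq_of_mul_eq_mul_right (Nat.card_pos (α := μ.range)) (h1.symm.trans h2)
  have : Module (ZMod p) (G ⧸ μ.range) := AddCommGroup.zmodModule (fun q => by
    induction q using QuotientAddGroup.induction_on with
    | H g => exact (QuotientAddGroup.eq_zero_iff _).2 ⟨g, rfl⟩)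
  have : Module.Finite (ZMod p) (G ⧸ μ.range) := Module.Finite.of_finite
  have hr : Module.finrank (ZMod p) (G ⧸ μ.range) = r := by
    have := Module.natCard_eq_pow_finrank (K := ZMod p) (V := G ⧸ μ.range)
    rw [hquot, Nat.card_zmod] at this
    exact (Nat.pow_right_injective (Fact.out (p := p.Prime)).two_le this).symm
  let b : Module.Basis (Fin r) (ZMod p) (G ⧸ μ.range) :=
    Module.finBasisOfFinrankEq (ZMod p) (G ⧸ μ.range) hr
  choose x hx using fun i => QuotientAddGroup.mk_surjective (b i)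
  refine ⟨x, fun g => ?_⟩
  let c : Fin r → ℤ := fun i => ((b.repr (g : G ⧸ μ.range)) i).val
  have e : ((g - ∑ i, c i • x i : G) : G ⧸ μ.range) = 0 := by
    rw [QuotientAddGroup.mk_sub, sub_eq_zero]
    conv_lhs => rw [← b.sum_repr (g : G ⧸ μ.range)]
    refine Eq.trans ?_ (map_sum (QuotientAddGroup.mk' μ.range) _ _).symm
    refine Finset.sum_congr rfl fun i _ => ?_
    rw [map_zsmul, QuotientAddGroup.mk'_apply, hx, natCast_zsmul, ← Nat.cast_smul_eq_nsmul (ZMod p),
      ZMod.natCast_zmod_val]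
  obtain ⟨y, hy⟩ := (QuotientAddGroup.eq_zero_iff _).1 e
  exact ⟨c, y, by rw [show p • y = _ from hy, add_sub_cancel]⟩

/-- A group killed by `n` with `n ^ r` elements and `p ^ r` elements killed by each prime `p ∣ n`
is `(ZMod n) ^ r`. -/
theorem nonempty_addEquiv_fun_zmod {G : Type*} [AddCommGroup G] {n r : ℕ} (hn : 0 < n)
    (hkill : ∀ g : G, n • g = 0) (hcard : Nat.card G = n ^ r)
    (hp : ∀ p : ℕ, p.Prime → p ∣ n → Nat.card {x : G // p • x = 0} = p ^ r) :
    Nonempty (G ≃+ (Fin r → ZMod n)) := by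
  classical
  have : Finite G := Nat.finite_of_card_ne_zero (by rw [hcard]; positivity)
  have : NeZero n := ⟨hn.ne'⟩
  let s := n.primeFactors
  choose x hx using fun p : s => by
    have : Fact (p : ℕ).Prime := ⟨Nat.prime_of_mem_primeFactors p.2⟩
    exact exists_generators_mod_prime (hp _ this.out (Nat.dvd_of_mem_primeFactors p.2))
  have hco : ∀ p : s, ∃ c : ℤ, ((p : ℕ) : ℤ) ∣ c - 1 ∧ ∀ q : s, q ≠ p → ((q : ℕ) : ℤ) ∣ c := by
    intro p
    have hcop : IsCoprime ((p : ℕ) : ℤ) ((∏ q ∈ Finset.univ.erase p, (q : ℕ) : ℕ) : ℤ) := by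
      rw [Nat.isCoprime_iff_coprime]
      exact Nat.Coprime.prod_right fun q hq => (Nat.coprime_primes
        (Nat.prime_of_mem_primeFactors p.2) (Nat.prime_of_mem_primeFactors q.2)).2
          fun e => (Finset.mem_erase.1 hq).1 (Subtype.ext e).symm
    obtain ⟨a, b, hab⟩ := hcop
    refine ⟨b * ((∏ q ∈ Finset.univ.erase p, (q : ℕ) : ℕ) : ℤ), ⟨-a, by linear_combination hab⟩,
      fun q hq => Dvd.dvd.mul_left (by
        exact_mod_cast Finset.dvd_prod_of_mem (fun q : s => (q : ℕ))
          (Finset.mem_erase.2 ⟨hq, Finset.mem_univ _⟩)) _⟩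
  choose c hc1 hc0 using hco
  let z : Fin r → G := fun i => ∑ p, c p • x p i
  let H := (AddSubgroup.closure (Set.range z))
  have hgen : ∀ (p : s) (g : G), ∃ y : G, g - (p : ℕ) • y ∈ H := by
    intro p g
    obtain ⟨a, y, hay⟩ := hx p g
    choose w hw using fun i => (show ∃ w : G, z i - x p i = (p : ℕ) • w by
      obtain ⟨d, hd⟩ := hc1 p
      choose e he using fun q : { q : s // q ∈ Finset.univ.erase p } =>
        hc0 q.1 p (Finset.mem_erase.1 q.2).1.symm
      refine ⟨d • x p i + ∑ q : { q : s // q ∈ Finset.univ.erase p }, e q • x q.1 i, ?_⟩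
      have hz : z i = c p • x p i + ∑ q ∈ Finset.univ.erase p, c q • x q i :=
        (Finset.add_sum_erase _ _ (Finset.mem_univ p)).symm
      rw [hz, ← Finset.sum_coe_sort (Finset.univ.erase p), smul_add, Finset.smul_sum]
      simp only [he, ← natCast_zsmul, ← mul_smul, ← hd]
      rw [sub_smul, one_smul]; abel)
    refine ⟨y - ∑ i, a i • w i, ?_⟩
    have e : g - (p : ℕ) • (y - ∑ i, a i • w i) = ∑ i, a i • z i := by
      rw [hay, smul_sub, Finset.smul_sum,
        Finset.sum_congr rfl fun i _ => show (p : ℕ) • a i • w i = a i • z i - a i • x p i by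
          rw [smul_comm, ← hw, smul_sub], Finset.sum_sub_distrib]
      abel
    rw [e]
    exact sum_mem fun i _ => AddSubgroup.zsmul_mem H (AddSubgroup.subset_closure ⟨i, rfl⟩) _
  have hdiv : ∀ m : ℕ, m ≠ 0 → m ∣ n → ∀ g : G, ∃ y : G, g - m • y ∈ H := by
    intro m
    induction m using Nat.recOnPrimeCoprime with
    | zero => exact fun h => absurd rfl h
    | prime_pow p e hpp =>
      induction e with
      | zero => exact fun _ _ g => ⟨g, by simp⟩
      | succ e ih =>
        intro _ hd g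
        obtain ⟨y, hy⟩ := ih (pow_ne_zero e hpp.ne_zero) ((pow_dvd_pow p (Nat.le_succ e)).trans hd) g
        obtain ⟨w, hw⟩ := hgen ⟨p, Nat.mem_primeFactors.2
          ⟨hpp, (dvd_pow_self p (Nat.succ_ne_zero e)).trans hd, hn.ne'⟩⟩ y
        refine ⟨w, ?_⟩
        have := H.add_mem hy (H.nsmul_mem hw (p ^ e))
        rwa [smul_sub, ← mul_smul, ← pow_succ, sub_add_sub_cancel] at this
    | coprime a b ha hb _ iha ihb =>
      intro _ hd g
      obtain ⟨y, hy⟩ := iha (by omega) ((dvd_mul_right a b).trans hd) g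
      obtain ⟨w, hw⟩ := ihb (by omega) ((dvd_mul_left b a).trans hd) y
      refine ⟨w, ?_⟩
      have := H.add_mem hy (H.nsmul_mem hw a)
      rwa [smul_sub, ← mul_smul, sub_add_sub_cancel] at this
  have hH : H = ⊤ := by
    refine eq_top_iff.2 fun g _ => ?_
    obtain ⟨y, hy⟩ := hdiv n hn.ne' dvd_rfl g
    rwa [hkill, sub_zero] at hy
  have : Module (ZMod n) G := AddCommGroup.zmodModule hkill
  let Φ : (Fin r → ZMod n) →ₗ[ZMod n] G := Fintype.linearCombination (ZMod n) z
  have hΦ : Function.Surjective (Φ : (Fin r → ZMod n) → G) := by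
    intro g
    have hg : g ∈ H := hH ▸ AddSubgroup.mem_top g
    induction hg using AddSubgroup.closure_induction with
    | mem _ h => obtain ⟨i, rfl⟩ := h; exact ⟨Pi.single i 1, by simp [Φ]⟩
    | zero => exact ⟨0, map_zero _⟩
    | add _ _ _ _ h1 h2 =>
      obtain ⟨a, rfl⟩ := h1; obtain ⟨b, rfl⟩ := h2; exact ⟨a + b, map_add _ _ _⟩
    | neg _ _ h => obtain ⟨a, rfl⟩ := h; exact ⟨-a, map_neg _ _⟩
  exact ⟨(AddEquiv.ofBijective Φ ((Nat.bijective_iff_surjective_and_card _).2 ⟨hΦ, by
    rw [hcard, Nat.card_fun, Nat.card_zmod, Nat.card_fin]⟩)).symm⟩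

end Groth.AbVarMul
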