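import Groth.Agent.AbVarMul.Degree
import Groth.Agent.AbVarMul.ZModFree
import Groth.Agent.Pi1FEt.Points
import Groth.Agent.GrpschAbsch.AbVarEtale
import Groth.Prelude.Def_AbDual

/-!
# Torsion points of abelian varieties over algebraically closed fields
-/

universe u

open CategoryTheory Limits MonoidalCategory CartesianMonoidalCategory MonObj GrpObj AlgebraicGeometry
  TopologicalSpace

namespace Groth.AbVarMul

variable {k : Type u} [Field k] [IsAlgClosed k] {A : Over (Spec (CommRingCat.of k))} [GrpObj A]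
  [IsCommMonObj A] [IsProper A.hom] [GeometricallyIntegral A.hom]

local notation "pt" => (𝟙_ (Over (Spec (CommRingCat.of k))))

/-- Points over an algebraically closed field are `n`-divisible. -/
theorem exists_pow_eq {n : ℕ} (hn : n ≠ 0) (a : pt ⟶ A) : ∃ b : pt ⟶ A, b ^ n = a := by
  obtain ⟨hfin, hsurj⟩ := isFinite_surjective_of_isAlgClosed (A := A) hn
  have := LocallyOfFiniteType.jacobsonSpace A.hom
  have ha : IsClosed ({a.left.base (IsLocalRing.closedPoint k)} : Set A.left) :=
    (pointEquivClosedPoint A.hom ⟨a.left, Over.w a⟩).2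
  obtain ⟨c, hc, hcc⟩ := nonempty_inter_closedPoints
    (Z := (𝟙 A ^ n : A ⟶ A).left.base ⁻¹' {a.left.base (IsLocalRing.closedPoint k)})
    ⟨_, (hsurj.surj (a.left.base (IsLocalRing.closedPoint k))).choose_spec⟩
    (ha.preimage (𝟙 A ^ n : A ⟶ A).left.continuous).isLocallyClosed
  obtain ⟨b, hb⟩ := Groth.Abvar.exists_rationalPoint A hcc
  refine ⟨b, ?_⟩
  rw [show b ^ n = b ≫ (𝟙 A ^ n : A ⟶ A) by rw [MonObj.comp_pow, Category.comp_id]]
  refine Over.OverMorphism.ext (ext_of_apply_closedPoint_eq A.hom (Over.w _) (Over.w a) ?_)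
  rw [Over.comp_left, Scheme.Hom.comp_apply, hb]
  exact hc

/-- The prime-to-the-characteristic torsion has `n ^ (2 g)` points. -/
theorem natCard_torsPts {g : ℕ} (hg : topologicalKrullDim A.left = g) {n : ℕ} (hn : (n : k) ≠ 0) :
    Nat.card (AbDual.torsPts A n pt) = n ^ (2 * g) := by
  have hn0 : (n : ℤ) ≠ 0 := by
    have : n ≠ 0 := by rintro rfl; simp at hn
    exact_mod_cast this
  have hnk : ((n : ℤ) : k) ≠ 0 := by exact_mod_cast hn
  set f := (𝟙 A ^ (n : ℤ) : A ⟶ A)
  have : IsFinite f.left := (isogeny_zpow (A := A) hn0).1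
  have : Etale f.left := GrpschAbsch.etale_zpow (n : ℤ) hnk
  let e : AbDual.torsPts A n pt ≃ FEt.fiberObj η[A].left (Pi1FEt.cover f.left) :=
    { toFun := fun a => ⟨a.1.left, by
        show a.1.left ≫ f.left = η[A].left
        rw [← Over.comp_left, GrpObj.comp_zpow, Category.comp_id, zpow_natCast,
          show a.1 ^ n = 1 from a.2, ← MonObj.one_eq_one]⟩
      invFun := fun s => ⟨Over.homMk s.1 (by
          have h : s.1 ≫ f.left = η[A].left := s.2
          refine Eq.trans ?_ (Over.w η[A])
          exact (congrArg (s.1 ≫ ·) (Over.w f).symm).trans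
            ((Category.assoc _ _ _).symm.trans (congrArg (· ≫ A.hom) h))), by
        show _ = (1 : pt ⟶ A)
        rw [← MonObj.one_eq_one]
        refine Over.OverMorphism.ext ?_
        show (Over.homMk s.1 _ ^ n : pt ⟶ A).left = _
        rw [show ∀ a : pt ⟶ A, a ^ n = a ≫ f by
          intro a; rw [GrpObj.comp_zpow, Category.comp_id, zpow_natCast]]
        exact s.2⟩
      left_inv := fun a => Subtype.ext (Over.OverMorphism.ext rfl)
      right_inv := fun s => rfl }
  have : IsFinite (Pi1FEt.cover f.left).hom := ‹IsFinite f.left›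
  have : Etale (Pi1FEt.cover f.left).hom := ‹Etale f.left›
  rw [Nat.card_congr e, Pi1FEt.natCard_fiberObj]
  exact (finrank_zpow hg hn0 _).trans (by rw [Int.natAbs_natCast])

/-- The structure of the prime-to-the-characteristic torsion. -/
theorem nonempty_torsPts_mulEquiv {g : ℕ} (hg : topologicalKrullDim A.left = g) {n : ℕ}
    (hn : (n : k) ≠ 0) :
    Nonempty (AbDual.torsPts A n pt ≃* Multiplicative (Fin (2 * g) → ZMod n)) := by
  have hn0 : 0 < n := Nat.pos_of_ne_zero (by rintro rfl; simp at hn)
  obtain ⟨e⟩ : Nonempty (Additive (AbDual.torsPts A n pt) ≃+ (Fin (2 * g) → ZMod n)) := by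
    refine nonempty_addEquiv_fun_zmod hn0 (fun x => congrArg Additive.ofMul (Subtype.ext x.toMul.2))
      ((Nat.card_congr Additive.toMul).trans (natCard_torsPts hg hn)) (fun p hp hpn => ?_)
    have hpk : (p : k) ≠ 0 := fun h => hn (by
      obtain ⟨m, rfl⟩ := hpn
      rw [Nat.cast_mul, h, zero_mul])
    rw [← natCard_torsPts (A := A) hg hpk]
    refine Nat.card_congr
      { toFun := fun x => ⟨x.1.toMul.1, by
          show x.1.toMul.1 ^ p = 1
          exact congrArg (fun y : Additive (AbDual.torsPts A n pt) => (Additive.toMul y).1) x.2⟩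
        invFun := fun a => ⟨Additive.ofMul ⟨a.1, by
            obtain ⟨m, rfl⟩ := hpn
            show a.1 ^ (p * m) = 1
            rw [pow_mul, show a.1 ^ p = 1 from a.2, one_pow]⟩, congrArg Additive.ofMul (Subtype.ext a.2)⟩
        left_inv := fun x => rfl
        right_inv := fun a => rfl }
  exact ⟨AddEquiv.toMultiplicativeRight e⟩

end Groth.AbVarMul
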