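import Groth.Agent.AbVarMul.KernelComp
import Groth.Agent.AbVarMul.Torsion
import Groth.Agent.AbVarMul.TateModule
import Groth.Agent.Abvar.Image

/-!
# Homomorphisms of abelian varieties and their Tate modules
-/

universe u

open CategoryTheory Limits MonoidalCategory CartesianMonoidalCategory MonObj GrpObj AlgebraicGeometry
  TopologicalSpace
open AbDual
open Groth.NeronArea.FieldComponents (pp pp_comp)

namespace Groth.AbVarMul

variable {k : Type u} [Field k] [IsAlgClosed k] {A B : Over (Spec (CommRingCat.of k))} [GrpObj A]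
  [IsCommMonObj A] [IsProper A.hom]

local notation "pt" => (𝟙_ (Over (Spec (CommRingCat.of k))))

section

variable [GrpObj B] [IsProper B.hom]

/-- A homomorphism of proper groups with finitely many points in the kernel is finite. -/
theorem isFinite_of_finite_ker (α : A ⟶ B) [IsMonHom α]
    (hfin : {a : pt ⟶ A | a ≫ α = 1}.Finite) : IsFinite α.left := by
  have : IsProper (α.left ≫ B.hom) := by rw [Over.w]; infer_instance
  have : IsProper α.left := IsProper.of_comp α.left B.hom
  have := LocallyOfFiniteType.jacobsonSpace A.hom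
  have : LocallyQuasiFinite α.left := by
    rw [← Scheme.Hom.quasiFiniteLocus_eq_top_iff]
    refine Opens.ext (Set.eq_univ_of_forall fun x => ?_)
    by_contra hx
    obtain ⟨c, hc, hcc⟩ := nonempty_inter_closedPoints (Z := (α.left.quasiFiniteLocus : Set A.left)ᶜ)
      ⟨x, hx⟩ α.left.quasiFiniteLocus.2.isClosed_compl.isLocallyClosed
    refine hc ?_
    have := LocallyOfFiniteType.jacobsonSpace B.hom
    have hy : IsClosed ({α.left c} : Set B.left) := α.left.closePoints_subset_preimage_closedPoints hcc
    set F := α.left.base ⁻¹' {α.left c}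
    have hF : IsClosed F := hy.preimage α.left.continuous
    obtain ⟨z, rfl⟩ := exists_point' c hcc
    have hpts : (F ∩ closedPoints A.left).Finite := by
      refine (hfin.image fun a => pp (a * z)).subset ?_
      rintro q ⟨hq, hqc⟩
      obtain ⟨w, rfl⟩ := exists_point' q hqc
      refine ⟨w * z⁻¹, ?_, by simp⟩
      have hwz : w ≫ α = z ≫ α := point_ext' hq
      show (w * z⁻¹) ≫ α = 1
      rw [MonObj.mul_comp, GrpObj.inv_comp, hwz, mul_inv_cancel]
    have hclosed : IsClosed (F ∩ closedPoints A.left) := by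
      rw [← Set.biUnion_of_singleton (F ∩ closedPoints A.left)]
      exact hpts.isClosed_biUnion fun q hq => hq.2
    have hFfin : F.Finite := by
      rw [← (JacobsonSpace.closure_inter_closedPoints_eq_closure hF.isLocallyClosed).trans hF.closure_eq,
        hclosed.closure_eq]
      exact hpts
    have : Finite (α.left.fiber (α.left (pp z))) := by
      have := hFfin.to_subtype
      exact Finite.of_equiv _ (α.left.fiberHomeo _).toEquiv.symm
    have : JacobsonSpace (α.left.fiber (α.left (pp z))) :=
      LocallyOfFiniteType.jacobsonSpace (α.left.fiberToSpecResidueField _)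
    exact (Scheme.Hom.quasiFiniteAt_iff_isOpen_singleton_asFiber).2 (isOpen_discrete _)
  exact IsFinite.of_isProper_of_locallyQuasiFinite α.left

/-- A finite homomorphism has finitely many points in its kernel. -/
theorem finite_ker_of_isFinite (α : A ⟶ B) [IsFinite α.left] :
    {a : pt ⟶ A | a ≫ α = 1}.Finite := by
  refine Set.Finite.of_finite_image (f := fun a : pt ⟶ A => pp a) ?_ (fun a _ b _ h => point_ext' h)
  refine (α.left.finite_preimage_singleton (pp (1 : pt ⟶ B))).subset ?_
  rintro _ ⟨a, ha, rfl⟩
  exact congrArg pp ha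

end

variable {l : ℕ} [Fact l.Prime] [GeometricallyIntegral A.hom]

theorem tateMod_eq_zero_of_nsmul_eq {T : Over (Spec (CommRingCat.of k))} (x : TateMod A l T) (c : ℕ)
    (hc : 0 < c) (h : ∀ n, c • (x : ℕ → Additive (T ⟶ A)) n = 0) : x = 0 := by
  refine TateMod.ext fun n => ?_
  obtain ⟨i, hi, hgcd⟩ := (Nat.dvd_prime_pow (Fact.out : l.Prime)).1 (Nat.gcd_dvd_right c (l ^ (n + c)))
  have hic : i < c := by
    have h1 : l ^ i ≤ c := hgcd ▸ Nat.le_of_dvd hc (Nat.gcd_dvd_left _ _)
    exact (Nat.lt_pow_self (Fact.out : l.Prime).one_lt).trans_le h1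
  rw [← nsmul_component_add x n c, show l ^ c = l ^ (c - i) * l ^ i by
    rw [← pow_add, Nat.sub_add_cancel hic.le], mul_nsmul', ← hgcd,
    addOrderOf_dvd_iff_nsmul_eq_zero.1 (Nat.dvd_gcd (addOrderOf_dvd_iff_nsmul_eq_zero.2 (h (n + c))) (addOrderOf_dvd_iff_nsmul_eq_zero.2 (x.torsion (n + c)))), nsmul_zero]
  rfl

theorem tateMod_eq_zero_of_finite {T : Over (Spec (CommRingCat.of k))} (H : Subgroup (T ⟶ A))
    (hH : (H : Set (T ⟶ A)).Finite) (x : TateMod A l T)
    (hx : ∀ n, ((x : ℕ → Additive (T ⟶ A)) n).toMul ∈ H) : x = 0 := by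
  have := hH.to_subtype
  refine tateMod_eq_zero_of_nsmul_eq x (Nat.card H) Nat.card_pos fun n => ?_
  refine congrArg Additive.ofMul (?_ : ((x : ℕ → Additive (T ⟶ A)) n).toMul ^ Nat.card H = 1)
  exact congrArg Subtype.val (pow_card_eq_one' (x := (⟨_, hx n⟩ : H)))

/-- A nontrivial abelian variety has nonzero Tate module. -/
theorem exists_tateMod_ne_zero (hl : (l : k) ≠ 0) (hA : ¬ Subsingleton A.left) :
    ∃ x : TateMod A l pt, x ≠ 0 := by
  obtain ⟨h, hh⟩ := Groth.FibreDim.exists_dim_eq_nat A
  have h0 : h ≠ 0 := fun h0 => hA (by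
    have := Groth.Abvar.isIntegral_left A
    refine ⟨fun x y => ?_⟩
    have hgen : ∀ z : A.left, z = genericPoint A.left := fun z => by
      have hspec : genericPoint A.left ⤳ z := genericPoint_specializes z
      by_contra hne
      have h1 : (1 : WithBot ℕ∞) ≤ topologicalKrullDim A.left := by
        let s : LTSeries (IrreducibleCloseds A.left) :=
          (RelSeries.singleton _ (⟨closure {z}, isIrreducible_singleton.closure, isClosed_closure⟩ :
            IrreducibleCloseds A.left)).snoc
            ⟨Set.univ, IrreducibleSpace.isIrreducible_univ A.left, isClosed_univ⟩ (by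
              refine lt_of_le_of_ne (Set.subset_univ _) fun heq => hne ?_
              have huniv : genericPoint A.left ∈ closure ({z} : Set A.left) := by
                exact (Set.ext_iff.1 heq _).2 (Set.mem_univ _)
              exact (specializes_iff_mem_closure.2 huniv).antisymm hspec |>.eq)
        exact Order.LTSeries.length_le_krullDim s
      rw [hh, h0] at h1
      exact absurd h1 (by decide)
    rw [hgen x, hgen y])
  obtain ⟨e⟩ := nonempty_torsPts_mulEquiv (A := A) hh hl
  obtain ⟨E⟩ := nonempty_tateMod_linearEquiv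
    (fun a => exists_pow_eq (Fact.out : l.Prime).ne_zero a) e
  refine ⟨E (Pi.single ⟨0, by omega⟩ 1), fun h => ?_⟩
  have := congrFun (E.injective (h.trans (map_zero E).symm)) ⟨0, by omega⟩
  rw [Pi.single_eq_same] at this
  exact one_ne_zero this

/-- A homomorphism of abelian varieties is finite if and only if it is injective on Tate modules. -/
theorem isFinite_iff_injective_tateMap [GrpObj B] [IsCommMonObj B] [IsProper B.hom]
    (hl : (l : k) ≠ 0) (α : A ⟶ B) [IsMonHom α] :
    IsFinite α.left ↔ Function.Injective (tateMapₗ (l := l) (T := pt) α) := by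
  let H : Subgroup (pt ⟶ A) :=
    { carrier := {a | a ≫ α = 1}
      one_mem' := MonObj.one_comp α
      mul_mem' := fun {a b} ha hb => by
        show (a * b) ≫ α = 1
        rw [MonObj.mul_comp, ha, hb, _root_.one_mul]
      inv_mem' := fun {a} ha => by
        show a⁻¹ ≫ α = 1
        rw [GrpObj.inv_comp, ha, inv_one] }
  refine ⟨fun _ => (injective_iff_map_eq_zero _).2 fun x hx =>
    tateMod_eq_zero_of_finite H (finite_ker_of_isFinite α) x fun n => ?_, fun hinj => ?_⟩
  · exact congrArg (fun y : TateMod B l pt => ((y : ℕ → Additive (pt ⟶ B)) n).toMul) hx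
  · obtain ⟨C, _, i, _, _, _, _, _, hiα, -, hsub⟩ := exists_kernel_component α
    by_cases hC : Subsingleton C.left
    · exact isFinite_of_finite_ker α (hsub hC)
    · exfalso
      obtain ⟨y, hy⟩ := exists_tateMod_ne_zero (A := C) hl hC
      have : Mono i := Over.mono_of_mono_left i
      have hz : tateMapₗ (l := l) (T := pt) i y = 0 := by
        refine hinj ?_
        rw [map_zero]
        refine TateMod.ext fun n => congrArg Additive.ofMul ?_
        show (((y : ℕ → Additive (pt ⟶ C)) n).toMul ≫ i) ≫ α = 1
        rw [Category.assoc, hiα, MonObj.comp_one]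
      refine hy (TateMod.ext fun n => congrArg Additive.ofMul
        (?_ : ((y : ℕ → Additive (pt ⟶ C)) n).toMul = 1))
      have h1 : ((y : ℕ → Additive (pt ⟶ C)) n).toMul ≫ i = 1 :=
        congrArg (fun w : TateMod A l pt => ((w : ℕ → Additive (pt ⟶ A)) n).toMul) hz
      rw [← cancel_mono i, h1]
      exact (MonObj.one_comp i).symm

/-- A homomorphism vanishing on the Tate module is trivial. -/
theorem eq_one_of_tateMap_eq_zero [GrpObj B] [IsCommMonObj B] [IsProper B.hom]
    [GeometricallyIntegral B.hom]
    (hl : (l : k) ≠ 0) (α : A ⟶ B) [IsMonHom α] (h : tateMapₗ (l := l) (T := pt) α = 0) :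
    α = 1 := by
  have hlp := (Fact.out : l.Prime)
  -- every point of `A` killed by a power of `l` is killed by `α`
  have hkill : ∀ (n : ℕ) (a : pt ⟶ A), a ^ l ^ n = 1 → a ≫ α = 1 := by
    intro n a ha
    cases n with
    | zero => rw [pow_zero, pow_one] at ha; rw [ha, MonObj.one_comp]
    | succ n =>
      obtain ⟨x, hx⟩ : ∃ x : TateMod A l pt,
          (x : ℕ → Additive (pt ⟶ A)) (n + 1) = Additive.ofMul a := by
        obtain ⟨d, hd⟩ := Classical.axiomOfChoice fun b : Additive (pt ⟶ A) =>
          (exists_pow_eq (A := A) hlp.ne_zero b.toMul)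
        let s : ℕ → Additive (pt ⟶ A) := fun m =>
          if m ≤ n + 1 then l ^ (n + 1 - m) • Additive.ofMul a
          else (fun b => Additive.ofMul (d b))^[m - (n + 1)] (Additive.ofMul a)
        have hs : ∀ m, l • s (m + 1) = s m := fun m => by
          by_cases hm : m + 1 ≤ n + 1
          · simp only [s, if_pos hm, if_pos (show m ≤ n + 1 by omega)]
            rw [← mul_nsmul', ← pow_succ', show n + 1 - (m + 1) + 1 = n + 1 - m by omega]
          · simp only [s, if_neg hm]
            rw [show m + 1 - (n + 1) = m - (n + 1) + 1 by omega, Function.iterate_succ_apply']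
            show Additive.ofMul (d _ ^ l) = _
            rw [show ∀ b, Additive.ofMul (d b ^ l) = b from fun b => congrArg Additive.ofMul (hd b)]
            by_cases hm' : m ≤ n + 1
            · rw [if_pos hm', show m - (n + 1) = 0 by omega, show n + 1 - m = 0 by omega]
              simp
            · rw [if_neg hm']
        have ha' : l ^ (n + 1) • Additive.ofMul a = 0 := congrArg Additive.ofMul ha
        have hs' : ∀ m, l ^ m • s m = 0 := fun m => by
          induction m with
          | zero => rw [pow_zero, one_nsmul]; simpa [s] using ha'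
          | succ m ih => rw [pow_succ, mul_nsmul', hs, ih]
        exact ⟨⟨s, hs', hs⟩, by simp [s]⟩
      have := congrArg (fun f : TateMod A l pt →ₗ[ℤ_[l]] TateMod B l pt =>
        ((f x : TateMod B l pt) : ℕ → Additive (pt ⟶ B)) (n + 1)) h
      exact congrArg Additive.toMul ((congrArg (fun b : Additive (pt ⟶ A) =>
        Additive.ofMul (b.toMul ≫ α)) hx).symm.trans this)
  obtain ⟨Y, _, j, g, _, _, _, hsurj, rfl, _, _⟩ := Groth.Abvar.exists_image α
  have : Mono j := Over.mono_of_mono_left j
  have : IsCommMonObj Y := isCommMonObj_of_mono j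
  have hkillg : ∀ (n : ℕ) (a : pt ⟶ A), a ^ l ^ n = 1 → a ≫ g = 1 := fun n a ha => by
    rw [← cancel_mono j, Category.assoc, hkill n a ha, MonObj.one_comp]
  suffices hg : g = 1 by rw [hg, MonObj.one_comp]
  obtain ⟨C, _, i, _, _, _, _, _, hig, ⟨c, hc, hcC⟩, -⟩ := exists_kernel_component g
  -- `l ^ n`-torsion points of `Y` are killed by `c`
  have hY : ∀ (n : ℕ) (y : pt ⟶ Y), y ^ l ^ n = 1 → y ^ c = 1 := fun n y hy => by
    obtain ⟨q, hq, hqc⟩ : ∃ a : pt ⟶ A, a ≫ g = y ∧ True := by
      have := LocallyOfFiniteType.jacobsonSpace A.hom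
      have hycl : IsClosed ({pp y} : Set Y.left) :=
        (pointEquivClosedPoint Y.hom ⟨y.left, Over.w _⟩).2
      obtain ⟨q, hq, hqc⟩ := nonempty_inter_closedPoints (Z := g.left.base ⁻¹' {pp y})
        (hsurj.surj (pp y)) (hycl.preimage g.left.continuous).isLocallyClosed
      obtain ⟨w, rfl⟩ := exists_point' q hqc
      exact ⟨w, point_ext' hq, trivial⟩
    have h1 : (q ^ l ^ n) ≫ g = 1 := by rw [pow_comp', hq, hy]
    obtain ⟨z, hz⟩ := hcC _ h1
    obtain ⟨w, hw⟩ := exists_pow_eq (A := C) (pow_ne_zero n hlp.ne_zero) z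
    have h2 : (q ^ c * (w ≫ i)⁻¹) ^ l ^ n = 1 := by
      rw [mul_pow, inv_pow, ← pow_comp', hw, hz, ← pow_mul, ← pow_mul, mul_comm c, mul_inv_cancel]
    have h3 := hkillg n _ h2
    rw [MonObj.mul_comp, GrpObj.inv_comp, Category.assoc, hig, MonObj.comp_one, inv_one,
      _root_.mul_one, pow_comp', hq] at h3
    exact h3
  by_cases hYs : Subsingleton Y.left
  · have := Groth.Abvar.isIntegral_left A
    exact eq_of_points fun z => point_ext' (Subsingleton.elim _ _)
  · exfalso
    obtain ⟨x, hx⟩ := exists_tateMod_ne_zero (A := Y) hl hYs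
    refine hx (tateMod_eq_zero_of_nsmul_eq x c hc fun n => ?_)
    exact congrArg Additive.ofMul (hY n _ (congrArg Additive.toMul (x.torsion n)))

end Groth.AbVarMul
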