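import Groth.Agent.AbVarMul.DegForm
import Groth.Agent.AbVarMul.Isogeny
import Groth.Agent.FBaseGeom.Prod
import Groth.Agent.Abvar.Cube.AnyBase
import Groth.Agent.AlgGrp1.Basic
import Mathlib.LinearAlgebra.FreeModule.PID
import Mathlib.LinearAlgebra.Matrix.ToLin
import Mathlib.LinearAlgebra.Matrix.NonsingularInverse

/-!
The degree of an integer matrix acting on a power of an abelian variety.
-/

set_option autoImplicit false
set_option linter.style.haveILetI false
universe u

noncomputable section

namespace Groth.AbVarMul.MatrixDeg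

section Matrix

/-- Smith normal form of a square integer matrix with nonzero determinant. -/
theorem exists_smith {r : ℕ} (α : Matrix (Fin r) (Fin r) ℤ) (hα : α.det ≠ 0) :
    ∃ (U V : Matrix (Fin r) (Fin r) ℤ) (a : Fin r → ℤ), IsUnit U ∧ IsUnit V ∧
      α = U * Matrix.diagonal a * V := by
  classical
  let f := α.mulVecLin
  have hf : Function.Injective f := LinearMap.ker_eq_bot.1 (LinearMap.ker_eq_bot'.2 fun _ => Matrix.eq_zero_of_mulVec_eq_zero hα)
  let e := LinearEquiv.ofInjective f hf
  obtain ⟨b', a, ab, hab⟩ := Submodule.exists_smith_normal_form_of_rank_eq (N := LinearMap.range f)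
    (Pi.basisFun ℤ (Fin r)) e.finrank_eq.symm
  let w : Module.Basis (Fin r) ℤ (Fin r → ℤ) := ab.map e.symm
  let U := (Pi.basisFun ℤ (Fin r)).toMatrix b'
  let W := (Pi.basisFun ℤ (Fin r)).toMatrix w
  have hU : IsUnit U := by
    haveI := (Pi.basisFun ℤ (Fin r)).invertibleToMatrix b'
    exact isUnit_of_invertible U
  have hW : IsUnit W := by
    haveI := (Pi.basisFun ℤ (Fin r)).invertibleToMatrix w
    exact isUnit_of_invertible W
  have key : α * W = U * Matrix.diagonal a := by
    ext i j
    rw [Matrix.mul_diagonal, Matrix.mul_apply]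
    have h1 : f (w j) = a j • b' j := by
      rw [← hab j]
      exact congrArg Subtype.val (e.apply_symm_apply (ab j))
    have h2 := congrFun h1 i
    simp only [W, U, Module.Basis.toMatrix_apply, Pi.basisFun_repr]
    rw [show (∑ x, α i x * w j x) = f (w j) i from rfl, h2, Pi.smul_apply, smul_eq_mul, mul_comm]
  obtain ⟨W', hW'⟩ := hW
  refine ⟨U, ↑W'⁻¹, a, hU, W'⁻¹.isUnit, ?_⟩
  rw [← key, ← hW', Units.mul_inv_cancel_right]

/-- A multiplicative function which is a power of the absolute value on scalar matrices is a power of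
the absolute value of the determinant. -/
theorem apply_eq_natAbs_det {r : ℕ} (D : Matrix (Fin r) (Fin r) ℤ →* ℕ) (e : ℕ)
    (hD : ∀ d : ℤ, d ≠ 0 → D (Matrix.diagonal fun _ => d) = d.natAbs ^ (e * r))
    (α : Matrix (Fin r) (Fin r) ℤ) (hα : α.det ≠ 0) : D α = α.det.natAbs ^ e := by
  classical
  let δ : (Fin r → ℤ) →* ℕ :=
    D.comp (Matrix.diagonalRingHom (Fin r) ℤ).toMonoidHom
  have hunit : ∀ U : Matrix (Fin r) (Fin r) ℤ, IsUnit U → D U = 1 := fun U hU =>
    Nat.isUnit_iff.1 (hU.map D)
  have hswap : ∀ (i j : Fin r) (d : ℤ), δ (Pi.mulSingle i d) = δ (Pi.mulSingle j d) := by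
    intro i j d
    let S : Matrix (Fin r) (Fin r) ℤ := (Equiv.swap i j).toPEquiv.toMatrix
    have hS : S * S = 1 := by
      simp only [S]
      rw [← PEquiv.toMatrix_trans, ← Equiv.toPEquiv_trans, Equiv.swap_swap, Equiv.toPEquiv_refl,
        PEquiv.toMatrix_refl]
    have hSu : IsUnit S := ⟨⟨S, S, hS, hS⟩, rfl⟩
    have e1 : S * Matrix.diagonal (Pi.mulSingle i d : Fin r → ℤ) =
        Matrix.diagonal (Pi.mulSingle j d : Fin r → ℤ) * S := by
      ext a b
      simp only [S, Matrix.mul_diagonal, Matrix.diagonal_mul, PEquiv.toMatrix_apply,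
        Equiv.toPEquiv_apply, Option.mem_some_iff]
      by_cases h : Equiv.swap i j a = b
      · subst h
        rw [if_pos rfl, one_mul, mul_one, Pi.mulSingle_apply, Pi.mulSingle_apply]
        refine if_congr ?_ rfl rfl
        rw [Equiv.swap_apply_eq_iff, Equiv.swap_apply_left]
      · rw [if_neg h, zero_mul, mul_zero]
    have := congrArg D e1
    rw [map_mul, map_mul, hunit S hSu, one_mul, mul_one] at this
    exact this
  have hsingle : ∀ (i : Fin r) (d : ℤ), d ≠ 0 → δ (Pi.mulSingle i d) = d.natAbs ^ e := by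
    intro i d hd
    have h := hD d hd
    have hall : (fun _ : Fin r => d) = ∏ j, Pi.mulSingle j d :=
      (Finset.univ_prod_mulSingle (fun _ : Fin r => d)).symm
    rw [show D (Matrix.diagonal fun _ => d) = δ (fun _ : Fin r => d) from rfl, hall, map_prod,
      Finset.prod_congr rfl fun j _ => hswap j i d, Finset.prod_const, Finset.card_univ,
      Fintype.card_fin, pow_mul] at h
    exact Nat.pow_left_injective i.pos.ne' h
  obtain ⟨U, V, a, hU, hV, rfl⟩ := exists_smith α hα
  have hUd : U.det.natAbs = 1 := Int.natAbs_of_isUnit ((Matrix.isUnit_iff_isUnit_det U).1 hU)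
  have hVd : V.det.natAbs = 1 := Int.natAbs_of_isUnit ((Matrix.isUnit_iff_isUnit_det V).1 hV)
  have ha : ∀ i, a i ≠ 0 := fun i hi => hα (by
    rw [Matrix.det_mul, Matrix.det_mul, Matrix.det_diagonal,
      Finset.prod_eq_zero (Finset.mem_univ i) hi, mul_zero, zero_mul])
  rw [Matrix.det_mul, Matrix.det_mul, Matrix.det_diagonal, Int.natAbs_mul, Int.natAbs_mul, hUd, hVd,
    one_mul, mul_one, map_mul, map_mul, hunit U hU, hunit V hV, one_mul, mul_one,
    show D (Matrix.diagonal a) = δ a from rfl]
  conv_lhs => rw [← Finset.univ_prod_mulSingle a]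
  rw [map_prod, Finset.prod_congr rfl fun i _ => hsingle i (a i) (ha i), Finset.prod_pow]
  congr 1
  exact (map_prod Int.natAbsHom _ _).symm

end Matrix

open CategoryTheory Limits MonoidalCategory CartesianMonoidalCategory MonObj GrpObj AlgebraicGeometry

theorem geometricallyIntegral_id (S : Scheme.{u}) : GeometricallyIntegral (𝟙 S) := by
  constructor
  intro K _ y Z a b h
  have : IsIso b := MorphismProperty.of_isPullback (P := MorphismProperty.isomorphisms Scheme) h
    (inferInstanceAs (IsIso (𝟙 S)))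
  have : Nonempty Z := ⟨(inv b).base (IsLocalRing.closedPoint K)⟩
  exact isIntegral_of_isOpenImmersion b

variable {k : Type u} [Field k] {X : Over (Spec (CommRingCat.of k))} [GrpObj X]

local notation "pw" => fun r : ℕ => (∏ᶜ fun _ : Fin r => X)

section Grp

variable {r : ℕ}

/-- The group structure on a power. -/
instance powGrp : GrpObj (∏ᶜ fun _ : Fin r => X) where
  one := Pi.lift fun _ => η[X]
  mul := Pi.lift fun i =>
    (fst _ _ ≫ Pi.π (fun _ : Fin r => X) i) * (snd _ _ ≫ Pi.π (fun _ : Fin r => X) i)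
  inv := Pi.lift fun i => (Pi.π (fun _ : Fin r => X) i)⁻¹
  one_mul := by
    refine Pi.hom_ext _ _ fun i => ?_
    rw [Category.assoc, Pi.lift_π, MonObj.comp_mul, ← Category.assoc, ← Category.assoc, whiskerRight_fst,
      whiskerRight_snd, Category.assoc, Pi.lift_π, toUnit_unique (fst (𝟙_ _) _) (toUnit _), leftUnitor_hom]
    exact _root_.one_mul _
  mul_one := by
    refine Pi.hom_ext _ _ fun i => ?_
    rw [Category.assoc, Pi.lift_π, MonObj.comp_mul, ← Category.assoc, ← Category.assoc, whiskerLeft_fst,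
      whiskerLeft_snd, Category.assoc, Pi.lift_π, toUnit_unique (snd _ (𝟙_ _)) (toUnit _), rightUnitor_hom]
    exact _root_.mul_one _
  mul_assoc := by
    refine Pi.hom_ext _ _ fun i => ?_
    simp only [Category.assoc, Pi.lift_π, MonObj.comp_mul, whiskerRight_fst_assoc, whiskerRight_snd_assoc,
      whiskerLeft_fst_assoc, whiskerLeft_snd_assoc, associator_hom_fst_assoc, associator_hom_snd_fst_assoc,
      associator_hom_snd_snd_assoc]
    exact _root_.mul_assoc _ _ _
  left_inv := by
    refine Pi.hom_ext _ _ fun i => ?_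
    rw [Category.assoc, Pi.lift_π, MonObj.comp_mul, lift_fst_assoc, lift_snd_assoc, Pi.lift_π,
      Category.id_comp, inv_mul_cancel, Category.assoc, Pi.lift_π]
    rfl
  right_inv := by
    refine Pi.hom_ext _ _ fun i => ?_
    rw [Category.assoc, Pi.lift_π, MonObj.comp_mul, lift_fst_assoc, lift_snd_assoc, Pi.lift_π,
      Category.id_comp, mul_inv_cancel, Category.assoc, Pi.lift_π]
    rfl

instance isMonHom_proj (i : Fin r) : IsMonHom (Pi.π (fun _ : Fin r => X) i) :=
  Groth.AlgGrp1.isMonHom_of_points _ fun T a b => by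
    rw [Hom.mul_def, Category.assoc]
    show lift a b ≫ (Pi.lift _ ≫ _) = _
    rw [Pi.lift_π, MonObj.comp_mul, lift_fst_assoc, lift_snd_assoc]

theorem hom_ext' {T : Over (Spec (CommRingCat.of k))} {a b : T ⟶ ∏ᶜ fun _ : Fin r => X}
    (h : ∀ i, a ≫ Pi.π (fun _ : Fin r => X) i = b ≫ Pi.π (fun _ : Fin r => X) i) : a = b :=
  Pi.hom_ext _ _ h

instance isCommMonObj_pow [IsCommMonObj X] : IsCommMonObj (∏ᶜ fun _ : Fin r => X) := by
  rw [isCommMonObj_iff_isMulCommutative]
  exact fun T => ⟨⟨fun a b => hom_ext' fun i => by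
    rw [MonObj.mul_comp, MonObj.mul_comp, _root_.mul_comm]⟩⟩

end Grp

theorem properties (g : ℕ) (hg : topologicalKrullDim ↥X.left = g) [IsProper X.hom]
    [GeometricallyIntegral X.hom] : ∀ r : ℕ,
    IsProper (∏ᶜ fun _ : Fin r => X).hom ∧ GeometricallyIntegral (∏ᶜ fun _ : Fin r => X).hom ∧
      topologicalKrullDim ↥(∏ᶜ fun _ : Fin r => X).left = ((r * g : ℕ) : WithBot ℕ∞) := by
  intro r
  induction r with
  | zero =>
    let e : (∏ᶜ fun _ : Fin 0 => X) ≅ 𝟙_ (Over (Spec (CommRingCat.of k))) :=
      { hom := toUnit _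
        inv := Pi.lift fun i => i.elim0
        hom_inv_id := hom_ext' fun i => i.elim0
        inv_hom_id := toUnit_unique _ _ }
    haveI : IsIso e.hom.left := ((Over.forget _).mapIso e).isIso_hom
    have hs : (∏ᶜ fun _ : Fin 0 => X).hom = e.hom.left := by
      rw [← Over.w e.hom]; exact (Category.comp_id _).trans rfl
    haveI := geometricallyIntegral_id (Spec (CommRingCat.of k))
    refine ⟨hs ▸ inferInstance, hs ▸ (MorphismProperty.cancel_left_of_respectsIso
      (P := @GeometricallyIntegral) e.hom.left (𝟙 (Spec (CommRingCat.of k)))).2 ‹_› |> fun h => by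
        simpa using h, ?_⟩
    rw [IsHomeomorph.topologicalKrullDim_eq _ (TopCat.homeoOfIso (asIso e.hom.left.base)).isHomeomorph, Nat.zero_mul]
    exact (PrimeSpectrum.topologicalKrullDim_eq_ringKrullDim k).trans ((ringKrullDim_eq_zero_of_field k).trans Nat.cast_zero.symm)
  | succ r ih =>
    obtain ⟨h1, h2, h3⟩ := ih
    let e : (∏ᶜ fun _ : Fin (r + 1) => X) ≅ X ⊗ ∏ᶜ fun _ : Fin r => X :=
      { hom := lift (Pi.π (fun _ : Fin (r + 1) => X) 0)
          (Pi.lift fun i : Fin r => Pi.π (fun _ : Fin (r + 1) => X) i.succ)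
        inv := Pi.lift (Fin.cons (fst _ _) (fun i : Fin r => snd X _ ≫ Pi.π (fun _ : Fin r => X) i))
        hom_inv_id := hom_ext' fun i => by
          rw [Category.assoc, Pi.lift_π, Category.id_comp]
          cases i using Fin.cases with
          | zero => rw [Fin.cons_zero, lift_fst]
          | succ j => rw [Fin.cons_succ, ← Category.assoc, lift_snd, Pi.lift_π]
        inv_hom_id := by
          apply CartesianMonoidalCategory.hom_ext
          · rw [Category.assoc, lift_fst, Pi.lift_π, Fin.cons_zero, Category.id_comp]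
          · refine hom_ext' fun i => ?_
            simp only [Category.assoc, lift_snd_assoc, Pi.lift_π, Fin.cons_succ, Category.id_comp] }
    haveI : IsIso e.hom.left := ((Over.forget _).mapIso e).isIso_hom
    have hw := Over.w e.hom
    haveI := Groth.Abvar.Cube.isProper_tensor X (∏ᶜ fun _ : Fin r => X)
    haveI := Groth.Abvar.Cube.geometricallyIntegral_tensor X (∏ᶜ fun _ : Fin r => X)
    refine ⟨hw ▸ inferInstance, hw ▸ (MorphismProperty.cancel_left_of_respectsIso
      (P := @GeometricallyIntegral) e.hom.left _).2 inferInstance, ?_⟩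
    rw [IsHomeomorph.topologicalKrullDim_eq _ (TopCat.homeoOfIso (asIso e.hom.left.base)).isHomeomorph]
    show topologicalKrullDim ↥(pullback X.hom (∏ᶜ fun _ : Fin r => X).hom) = _
    rw [Groth.FBaseGeom.dim_prod, hg, h3, Nat.succ_mul, Nat.cast_add]
    exact add_comm _ _

section Act

variable [IsCommMonObj X] {r : ℕ}

/-- The endomorphism of a power given by a matrix. -/
abbrev act (α : Matrix (Fin r) (Fin r) ℤ) : (∏ᶜ fun _ : Fin r => X) ⟶ (∏ᶜ fun _ : Fin r => X) :=
  Pi.lift fun i => ∏ j : Fin r, (Pi.π (fun _ : Fin r => X) j) ^ (α i j)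

theorem comp_prod' {T Y : Over (Spec (CommRingCat.of k))} (a : T ⟶ Y) {J : Type} (s : Finset J)
    (f : J → (Y ⟶ X)) : a ≫ (∏ j ∈ s, f j) = ∏ j ∈ s, a ≫ f j :=
  map_prod
    ({ toFun := fun x : Y ⟶ X => a ≫ x
       map_one' := MonObj.comp_one a
       map_mul' := MonObj.comp_mul a } : (Y ⟶ X) →* (T ⟶ X)) f s

theorem comp_act {T : Over (Spec (CommRingCat.of k))} (a : T ⟶ ∏ᶜ fun _ : Fin r => X)
    (α : Matrix (Fin r) (Fin r) ℤ) (i : Fin r) :
    a ≫ act α ≫ Pi.π (fun _ : Fin r => X) i = ∏ j : Fin r, (a ≫ Pi.π (fun _ : Fin r => X) j) ^ (α i j) := by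
  rw [act, Pi.lift_π, comp_prod']
  exact Finset.prod_congr rfl fun j _ => GrpObj.comp_zpow _ _ _

instance isMonHom_act (α : Matrix (Fin r) (Fin r) ℤ) : IsMonHom (act (X := X) α) :=
  Groth.AlgGrp1.isMonHom_of_points _ fun T a b => hom_ext' fun i => by
    conv_rhs => rw [MonObj.mul_comp]
    rw [Category.assoc, Category.assoc, Category.assoc, comp_act, comp_act, comp_act,
      ← Finset.prod_mul_distrib]
    exact Finset.prod_congr rfl fun j _ => by rw [MonObj.mul_comp, mul_zpow]

theorem prod_zpow_sum {G : Type*} [CommGroup G] {J : Type} (g : G) (f : J → ℤ) (s : Finset J) :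
    ∏ j ∈ s, g ^ f j = g ^ (∑ j ∈ s, f j) := by
  classical
  induction s using Finset.induction with
  | empty => simp
  | insert a s ha ih => rw [Finset.prod_insert ha, Finset.sum_insert ha, ih, zpow_add]

theorem act_mul (α β : Matrix (Fin r) (Fin r) ℤ) : act (X := X) (α * β) = act β ≫ act α := by
  refine hom_ext' fun i => ?_
  rw [Category.assoc, comp_act, act, Pi.lift_π]
  simp only [act, Pi.lift_π]
  simp only [Matrix.mul_apply, ← Finset.prod_zpow, ← zpow_mul]
  rw [Finset.prod_comm]
  refine Finset.prod_congr rfl fun l _ => ?_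
  rw [prod_zpow_sum]
  exact congrArg _ (Finset.sum_congr rfl fun _ _ => mul_comm _ _)

theorem act_diagonal (d : ℤ) :
    act (X := X) (Matrix.diagonal fun _ : Fin r => d) = (𝟙 (∏ᶜ fun _ : Fin r => X)) ^ d := by
  refine hom_ext' fun i => ?_
  rw [GrpObj.zpow_comp, Category.id_comp, act, Pi.lift_π,
    Finset.prod_eq_single i (fun j _ hj => by rw [Matrix.diagonal_apply_ne' _ hj, zpow_zero])
      (fun h => absurd (Finset.mem_univ i) h), Matrix.diagonal_apply_eq]

theorem act_one : act (X := X) (1 : Matrix (Fin r) (Fin r) ℤ) = 𝟙 _ := by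
  rw [← Matrix.diagonal_one, act_diagonal, zpow_one]

/-- **The degree of an integer matrix.** -/
theorem isFinite_flat_finrank (g : ℕ) (hg : topologicalKrullDim ↥X.left = g) [IsProper X.hom]
    [GeometricallyIntegral X.hom] (α : Matrix (Fin r) (Fin r) ℤ) (hα : α.det ≠ 0) :
    IsFinite (act (X := X) α).left ∧ Flat (act (X := X) α).left ∧
      ∀ y, Scheme.Hom.finrank (act (X := X) α).left y = α.det.natAbs ^ (2 * g) := by
  obtain ⟨hP, hI, hdim⟩ := properties (X := X) g hg r
  haveI := hP
  haveI := hI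
  have hfin : IsFinite (act (X := X) α).left := by
    have h : act (X := X) α ≫ act α.adjugate = (𝟙 (∏ᶜ fun _ : Fin r => X)) ^ α.det := by
      rw [← act_mul, Matrix.adjugate_mul, ← act_diagonal, ← Matrix.smul_one_eq_diagonal]
    have : IsFinite ((act (X := X) α).left ≫ (act (X := X) α.adjugate).left) := by
      rw [← Over.comp_left, h]; exact (isogeny_zpow hα).1
    haveI : IsProper ((act (X := X) α.adjugate).left ≫ (∏ᶜ fun _ : Fin r => X).hom) := by
      rw [Over.w]; infer_instance
    haveI : IsProper (act (X := X) α.adjugate).left := IsProper.of_comp _ (∏ᶜ fun _ : Fin r => X).hom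
    exact IsFinite.of_comp _ (act (X := X) α.adjugate).left
  haveI := hfin
  refine ⟨hfin, (flat_surjective_of_isFinite _ rfl).1, fun y => ?_⟩
  rw [finrank_eq_homDeg _ rfl]
  let D : Matrix (Fin r) (Fin r) ℤ →* ℕ :=
    { toFun := fun β => homDeg (act (X := X) β)
      map_one' := by rw [act_one]; exact homDeg_id hdim
      map_mul' := fun β δ => by
        rw [act_mul, homDeg_comp _ _ hdim hdim hdim, _root_.mul_comm] }
  refine apply_eq_natAbs_det D (2 * g) (fun d hd => ?_) α hα
  show homDeg (act (X := X) (Matrix.diagonal fun _ : Fin r => d)) = _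
  rw [act_diagonal]
  haveI := (isogeny_zpow (A := ∏ᶜ fun _ : Fin r => X) hd).1
  rw [← finrank_eq_homDeg _ rfl (η[∏ᶜ fun _ : Fin r => X].left.base (IsLocalRing.closedPoint k)),
    finrank_zpow hdim hd]
  congr 1
  ring

end Act

end Groth.AbVarMul.MatrixDeg
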