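import Groth.Agent.GrpschAbsch.Tangent
import Groth.Agent.GrpschAbsch.FrobDeriv
import Mathlib.RingTheory.Localization.FractionRing
import Mathlib.RingTheory.Jacobson.Ring
import Mathlib.RingTheory.Nullstellensatz

/-!
# Pull-backs along `[p]` are `p`-th powers in the function field
-/

universe u

open CategoryTheory CategoryTheory.Limits MonoidalCategory CartesianMonoidalCategory MonObj GrpObj
  AlgebraicGeometry TopologicalSpace TrivSqZeroExt

namespace Groth.AbVarMul

variable {k : Type u} [Field k] [IsAlgClosed k] (p : ℕ) [Fact p.Prime] [CharP k p]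

/-- An element of a finitely generated domain over an algebraically closed field of characteristic `p`
whose differential vanishes at all closed points is a `p`-th power in the fraction field. -/
theorem exists_pow_eq_of_forall_snd_eq_zero {B : Type u} [CommRing B] [IsDomain B] [Algebra k B]
    [Algebra.FiniteType k B] (K : Type u) [Field K] [Algebra B K] [IsFractionRing B K] [Algebra k K]
    [IsScalarTower k B K] (h : B)
    (hh : ∀ φ : B →ₐ[k] TrivSqZeroExt k k, (φ h).snd = 0) :
    ∃ y : K, y ^ p = algebraMap B K h := by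
  classical
  by_contra! hne
  have : CharP K p := charP_of_injective_algebraMap (algebraMap k K).injective p
  obtain ⟨D, hD⟩ := Groth.GrpschAbsch.exists_derivation_eq_one p hne
  have hDk : ∀ c : k, D (algebraMap k K c) = 0 := fun c => by
    obtain ⟨d, rfl⟩ := IsAlgClosed.exists_pow_nat_eq c (Fact.out : p.Prime).pos
    rw [map_pow, D.leibniz_pow, nsmul_eq_mul, CharP.cast_eq_zero, zero_mul]
  obtain ⟨G, hG⟩ := (inferInstance : Algebra.FiniteType k B).out
  obtain ⟨v, hv⟩ := IsLocalization.exist_integer_multiples (nonZeroDivisors B) G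
    (fun b => D (algebraMap B K b))
  have hmem : ∀ b : B, ∃ c : B, algebraMap B K c = algebraMap B K v * D (algebraMap B K b) := by
    intro b
    have hb : b ∈ Algebra.adjoin k (G : Set B) := by rw [hG]; trivial
    induction hb using Algebra.adjoin_induction with
    | mem x hx =>
      obtain ⟨c, hc⟩ := hv x hx
      exact ⟨c, by rw [hc, Algebra.smul_def]⟩
    | algebraMap r =>
      exact ⟨0, by rw [← IsScalarTower.algebraMap_apply, hDk, map_zero, mul_zero]⟩
    | add x y _ _ hx hy =>
      obtain ⟨c, hc⟩ := hx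
      obtain ⟨d, hd⟩ := hy
      exact ⟨c + d, by rw [map_add, map_add, map_add, mul_add, hc, hd]⟩
    | mul x y _ _ hx hy =>
      obtain ⟨c, hc⟩ := hx
      obtain ⟨d, hd⟩ := hy
      exact ⟨x * d + y * c, by
        rw [map_add, map_mul, map_mul, hc, hd, map_mul, D.leibniz, smul_eq_mul, smul_eq_mul]; ring⟩
  choose δ hδ using hmem
  have hinj := IsFractionRing.injective B K
  have hδh : δ h = v := hinj (by rw [hδ, hD, _root_.mul_one])
  obtain ⟨m, hm, hvm⟩ : ∃ m : Ideal B, m.IsMaximal ∧ (v : B) ∉ m := by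
    by_contra! hcon
    have : (v : B) ∈ (⊥ : Ideal B).jacobson := Ideal.mem_sInf.2 fun {m} hm => hcon m hm.2
    have hJ : IsJacobsonRing B := isJacobsonRing_of_finiteType (A := k) (B := B)
    rw [IsJacobsonRing.out hJ (Ideal.isPrime_bot (α := B)).isRadical] at this
    exact nonZeroDivisors.ne_zero v.2 this
  have : IsJacobsonRing B := isJacobsonRing_of_finiteType (A := k) (B := B)
  let : Field (B ⧸ m) := Ideal.Quotient.field m
  have : Module.Finite k (B ⧸ m) := finite_of_finite_type_of_isJacobsonRing k (B ⧸ m)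
  let e : k ≃ₐ[k] (B ⧸ m) := AlgEquiv.ofBijective (Algebra.ofId k (B ⧸ m))
    IsAlgClosed.algebraMap_bijective_of_isIntegral
  let χ : B →ₐ[k] k := e.symm.toAlgHom.comp (Ideal.Quotient.mkₐ k m)
  have hleib : ∀ a b : B, δ (a * b) = a * δ b + b * δ a := fun a b => hinj (by
    rw [map_add, map_mul, map_mul, hδ, hδ, hδ, map_mul, D.leibniz, smul_eq_mul, smul_eq_mul]; ring)
  have hadd : ∀ a b : B, δ (a + b) = δ a + δ b := fun a b => hinj (by
    rw [map_add, hδ, hδ, hδ, map_add, map_add]; ring)
  have hconst : ∀ c : k, δ (algebraMap k B c) = 0 := fun c => hinj (by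
    rw [hδ, ← IsScalarTower.algebraMap_apply, hDk, mul_zero, map_zero])
  let φ : B →ₐ[k] TrivSqZeroExt k k := AlgHom.ofLinearMap
    { toFun := fun b => inl (χ b) + inr (χ (δ b))
      map_add' := fun a b => by ext <;> simp [hadd]
      map_smul' := fun r b => by
        ext <;> simp [Algebra.smul_def, hleib, hconst, TrivSqZeroExt.algebraMap_eq_inl] }
    (by
      have h1 : δ 1 = 0 := by simpa using hconst 1
      ext <;> simp [h1])
    (fun a b => by ext <;> simp [hleib]; ring)
  have h0 := hh φ
  have : (φ h).snd = χ (δ h) := by simp [φ]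
  rw [this, hδh] at h0
  have : Ideal.Quotient.mk m (v : B) = 0 := e.symm.injective (h0.trans (map_zero e.symm).symm)
  exact hvm (Ideal.Quotient.eq_zero_iff_mem.1 this)

variable {A : Over (Spec (CommRingCat.of k))} [GrpObj A] [IsCommMonObj A]

open Groth.GrpschAbsch in
/-- Tangent vectors are sent to constant ones by `[p]`. -/
theorem tangent_comp_pow (z : specOver k (TrivSqZeroExt k k) ⟶ A) :
    z ≫ (𝟙 A ^ p : A ⟶ A) =
      specOverMap (Algebra.ofId k (TrivSqZeroExt k k)) ≫ (base ≫ z) ≫ (𝟙 A ^ p : A ⟶ A) := by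
  let r : specOver k (TrivSqZeroExt k k) ⟶ specOver k k := specOverMap (Algebra.ofId k _)
  have hbr : base ≫ r = 𝟙 _ := by
    simp only [r, base, specOverMap_comp]
    refine Eq.trans (specOverMap_congr (g := AlgHom.id k _) fun x ↦ ?_)
      (Over.OverMorphism.ext (Spec.map_id _))
    simp
  let w := z * (r ≫ base ≫ z)⁻¹
  have hw : base ≫ w = 1 := by
    simp only [w, MonObj.comp_mul, GrpObj.comp_inv, reassoc_of% hbr, mul_inv_cancel]
  have hwp : w ^ p = 1 := by
    rw [← zpow_natCast, ← scale_intCast_comp hw]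
    have e : scale ((p : ℤ) : k) = r ≫ base := by
      simp only [scale, base, r, specOverMap_comp]
      refine specOverMap_congr fun x ↦ ?_
      ext <;> simp [TrivSqZeroExt.algebraMap_eq_inl]
    rw [e, Category.assoc, hw, MonObj.comp_one]
  have hz : z = w * (r ≫ base ≫ z) := (inv_mul_cancel_right _ _).symm
  rw [MonObj.comp_pow, MonObj.comp_pow, Category.comp_id, Category.comp_id]
  conv_lhs => rw [hz, mul_pow, hwp, _root_.one_mul]
  rw [MonObj.comp_pow]

open Groth.GrpschAbsch in
/-- A function pulled back along `[p]` is a `p`-th power in the function field. -/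
theorem exists_pow_eq_appLE {U V : A.left.Opens} (hU : IsAffineOpen U) (hV : IsAffineOpen V)
    (e : V ≤ (𝟙 A ^ p : A ⟶ A).left ⁻¹ᵁ U) [IsDomain Γ(A.left, V)] [LocallyOfFiniteType A.hom]
    (K : Type u) [Field K] [Algebra Γ(A.left, V) K] [IsFractionRing Γ(A.left, V) K] (s : Γ(A.left, U)) :
    ∃ y : K, y ^ p = algebraMap Γ(A.left, V) K ((𝟙 A ^ p : A ⟶ A).left.appLE U V e s) := by
  set f := (𝟙 A ^ p : A ⟶ A)
  let ι₀ : CommRingCat.of k ⟶ Γ(A.left, V) := Spec.preimage (hV.fromSpec ≫ A.hom)
  let : Algebra k Γ(A.left, V) := ι₀.hom.toAlgebra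
  have hι : Spec.map (CommRingCat.ofHom (algebraMap k Γ(A.left, V))) = hV.fromSpec ≫ A.hom :=
    Spec.map_preimage _
  have : Algebra.FiniteType k Γ(A.left, V) := by
    have : LocallyOfFiniteType (Spec.map (CommRingCat.ofHom (algebraMap k Γ(A.left, V)))) := by
      rw [hι]; infer_instance
    exact (HasRingHomProperty.Spec_iff (P := @LocallyOfFiniteType)).mp this
  let : Algebra k K := ((algebraMap Γ(A.left, V) K).comp (algebraMap k Γ(A.left, V))).toAlgebra
  have : IsScalarTower k Γ(A.left, V) K := IsScalarTower.of_algebraMap_eq fun _ => rfl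
  refine exists_pow_eq_of_forall_snd_eq_zero (k := k) p K _ fun φ => ?_
  let z : specOver k (TrivSqZeroExt k k) ⟶ A := Over.homMk
    (Spec.map (CommRingCat.ofHom φ.toRingHom) ≫ hV.fromSpec) (by
      show (_ ≫ hV.fromSpec) ≫ A.hom = Spec.map _
      rw [Category.assoc, ← hι, ← Spec.map_comp, ← CommRingCat.ofHom_comp]
      exact congrArg (fun r ↦ Spec.map (CommRingCat.ofHom r)) φ.comp_algebraMap)
  have hzf : (z ≫ f).left =
      Spec.map (f.left.appLE U V e ≫ CommRingCat.ofHom φ.toRingHom) ≫ hU.fromSpec := by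
    rw [Spec.map_comp, Category.assoc, IsAffineOpen.SpecMap_appLE_fromSpec, Over.comp_left]
    rfl
  have h := tangent_comp_pow p z
  rw [Category.assoc base z] at h
  have h' := congrArg (fun g => g.left) h
  simp only [hzf, Over.comp_left] at h'
  rw [← Over.comp_left, hzf] at h'
  change _ = Spec.map _ ≫ Spec.map _ ≫ _ at h'
  rw [← Spec.map_comp_assoc, ← Spec.map_comp_assoc, cancel_mono, Spec.map_inj] at h'
  have := congrArg TrivSqZeroExt.snd (congr($h' s))
  simpa [TrivSqZeroExt.algebraMap_eq_inl] using this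

end Groth.AbVarMul
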