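import Groth.Agent.AbVarMul.PDiff
import Groth.Agent.AbVarMul.FrobLength
import Groth.Agent.Ega4Algebra1.RegularNormal
import Groth.Agent.NeronArea.WeilExtension
import Groth.Agent.Variety2.DimScheme
import Groth.Agent.GrpschAbsch.GrpEtaleRel
import Groth.Agent.GrpschAbsch.FibreFlat
import Mathlib.AlgebraicGeometry.FunctionField

/-!
# `[p]` pulls the maximal ideals back into the `p`-th powers
-/

universe u

open CategoryTheory CategoryTheory.Limits MonoidalCategory CartesianMonoidalCategory MonObj GrpObj
  AlgebraicGeometry TopologicalSpace IsLocalRing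

namespace Groth.AbVarMul

variable {k : Type u} [Field k] {A : Over (Spec (CommRingCat.of k))} [GrpObj A]

/-- The local rings of a geometrically integral group of finite type are regular. -/
theorem isRegularLocalRing_stalk_left [IsProper A.hom] [GeometricallyIntegral A.hom] (a : A.left) :
    IsRegularLocalRing (A.left.presheaf.stalk a) := by
  have : Smooth A.hom := GrpschAbsch.smooth_of_geometricallyReduced A
  have hfld : IsField ((Spec (CommRingCat.of k)).presheaf.stalk (A.hom a)) := by
    obtain ⟨q, hq⟩ := Groth.GrpschAbsch.FibreFlat.exists_isField_stalk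
      (Spec (CommRingCat.of k)) (A.hom a)
    have : Subsingleton ↥(Spec (CommRingCat.of k)) := inferInstanceAs (Subsingleton (PrimeSpectrum k))
    rwa [Subsingleton.elim (A.hom a) q]
  have : IsRegularLocalRing ((Spec (CommRingCat.of k)).presheaf.stalk (A.hom a)) := by
    let := hfld.toField
    infer_instance
  exact Groth.NeronArea.Weil.isRegularLocalRing_of_smooth A.hom a this

variable [IsAlgClosed k] [IsProper A.hom] [GeometricallyIntegral A.hom] (p : ℕ) [Fact p.Prime]
  [CharP k p] [IsCommMonObj A]

/-- `[p]` pulls the maximal ideal back into the ideal of `p`-th powers. -/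
theorem stalkMap_mem_frobIdeal (a : A.left) [CharP (A.left.presheaf.stalk a) p]
    (t : A.left.presheaf.stalk ((𝟙 A ^ p : A ⟶ A).left a))
    (ht : t ∈ maximalIdeal (A.left.presheaf.stalk ((𝟙 A ^ p : A ⟶ A).left a))) :
    (𝟙 A ^ p : A ⟶ A).left.stalkMap a t ∈ frobIdeal (R := A.left.presheaf.stalk a) p := by
  revert t ht
  set f := (𝟙 A ^ p : A ⟶ A).left with hf
  intro t ht
  have := Groth.Abvar.isIntegral_left A
  have := isRegularLocalRing_stalk_left (A := A) a
  obtain ⟨_, ⟨U, hU, rfl⟩, hoU, -⟩ := A.left.isBasis_affineOpens.exists_subset_of_mem_open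
    (Set.mem_univ (f a)) isOpen_univ
  obtain ⟨_, ⟨V, hV, rfl⟩, haV, hVU⟩ := A.left.isBasis_affineOpens.exists_subset_of_mem_open
    (show a ∈ ((f ⁻¹ᵁ U : A.left.Opens) : Set A.left) from hoU) (f ⁻¹ᵁ U).2
  have e : V ≤ f ⁻¹ᵁ U := hVU
  have : Nonempty V := ⟨⟨a, haV⟩⟩
  have := functionField_isFractionRing_of_isAffineOpen A.left V hV
  have := Groth.Ega4Algebra1.isIntegrallyClosed_of_isRegularLocalRing (A.left.presheaf.stalk a)
  -- generators
  have key : ∀ s : Γ(A.left, U),
      A.left.presheaf.germ U (f a) hoU s ∈ maximalIdeal (A.left.presheaf.stalk (f a)) →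
      f.stalkMap a (A.left.presheaf.germ U (f a) hoU s) ∈ frobIdeal (R := A.left.presheaf.stalk a) p := by
    intro s hs
    have hmem : f.stalkMap a (A.left.presheaf.germ U (f a) hoU s) ∈
        maximalIdeal (A.left.presheaf.stalk a) := map_nonunit (f.stalkMap a).hom _ hs
    obtain ⟨y, hy⟩ := exists_pow_eq_appLE (A := A) p hU hV e A.left.functionField s
    have hgerm : f.stalkMap a (A.left.presheaf.germ U (f a) hoU s) =
        A.left.presheaf.germ V a haV (f.appLE U V e s) := by
      rw [Scheme.Hom.germ_stalkMap_apply]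
      exact (TopCat.Presheaf.germ_res_apply _ _ _ _ _).symm
    have hy' : y ^ p = algebraMap (A.left.presheaf.stalk a) A.left.functionField
        (A.left.presheaf.germ V a haV (f.appLE U V e s)) := by
      rw [Scheme.algebraMap_germ_eq_germToFunctionField]
      exact hy
    obtain ⟨z, hz⟩ := IsIntegrallyClosed.exists_algebraMap_eq_of_isIntegral_pow
      (R := A.left.presheaf.stalk a) (Fact.out : p.Prime).pos (x := y)
      (hy' ▸ isIntegral_algebraMap)
    have hzp : z ^ p = f.stalkMap a (A.left.presheaf.germ U (f a) hoU s) := by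
      refine IsFractionRing.injective (A.left.presheaf.stalk a) A.left.functionField ?_
      rw [map_pow, hz, hy', hgerm]
    rw [← hzp]
    exact mem_frobIdeal p ((IsLocalRing.maximalIdeal.isMaximal _).isPrime.mem_of_pow_mem p (hzp ▸ hmem))
  have := hU.isLocalization_stalk ⟨f a, hoU⟩
  algebraize [(A.left.presheaf.germ U (f a) hoU).hom]
  obtain ⟨⟨s, q⟩, hsq⟩ := IsLocalization.surj (hU.primeIdealOf ⟨f a, hoU⟩).asIdeal.primeCompl t
  have hunit : IsUnit (algebraMap Γ(A.left, U) (A.left.presheaf.stalk (f a)) q) :=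
    IsLocalization.map_units _ q
  have hk := key s (by
    show algebraMap Γ(A.left, U) (A.left.presheaf.stalk (f a)) s ∈ _
    rw [← hsq]
    exact Ideal.mul_mem_right _ _ ht)
  change f.stalkMap a (algebraMap Γ(A.left, U) (A.left.presheaf.stalk (f a)) s) ∈ _ at hk
  rw [← hsq, map_mul] at hk
  exact ((frobIdeal (R := A.left.presheaf.stalk a) p).mul_unit_mem_iff_mem
    (hunit.map (f.stalkMap a).hom)).1 hk

end Groth.AbVarMul
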