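import Groth.Agent.AbVarMul.PDiff
import Groth.Agent.AbVarMul.PTorsion
import Groth.Agent.AbVarMul.Isogeny

/-!
# Over a perfect field the pull-back along `[p ^ i]` consists of `p ^ i`-th powers
-/

universe u

open CategoryTheory CategoryTheory.Limits MonoidalCategory CartesianMonoidalCategory MonObj GrpObj
  AlgebraicGeometry TopologicalSpace TrivSqZeroExt Opposite

namespace Groth.AbVarMul

variable {k : Type u} [Field k] (p : ℕ) [Fact p.Prime] [CharP k p]

/-- An element of a finitely generated domain over a perfect field of characteristic `p`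
whose differential vanishes at all geometric points is a `p`-th power in the fraction field. -/
theorem exists_pow_eq_of_forall_snd_eq_zero_ext (hperf : ∀ c : k, ∃ d : k, d ^ p = c)
    (Ω : Type u) [Field Ω] [Algebra k Ω] [IsAlgClosed Ω] {B : Type u} [CommRing B] [IsDomain B] [Algebra k B]
    [Algebra.FiniteType k B] (K : Type u) [Field K] [Algebra B K] [IsFractionRing B K] [Algebra k K]
    [IsScalarTower k B K] (h : B)
    (hh : ∀ φ : B →ₐ[k] TrivSqZeroExt Ω Ω, (φ h).snd = 0) :
    ∃ y : K, y ^ p = algebraMap B K h := by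
  classical
  by_contra! hne
  have : CharP K p := charP_of_injective_algebraMap (algebraMap k K).injective p
  obtain ⟨D, hD⟩ := Groth.GrpschAbsch.exists_derivation_eq_one p hne
  have hDk : ∀ c : k, D (algebraMap k K c) = 0 := fun c => by
    obtain ⟨d, rfl⟩ := hperf c
    rw [map_pow, D.leibniz_pow, nsmul_eq_mul, CharP.cast_eq_zero, zero_mul]
  obtain ⟨G, hG⟩ := (inferInstance : Algebra.FiniteType k B).out
  obtain ⟨v, hv⟩ := IsLocalization.exist_integer_multiples (nonZeroDivisors B) G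
    (fun b => D (algebraMap B K b))
  have hmem : ∀ b : B, ∃ c : B, algebraMap B K c = algebraMap B K v * D (algebraMap B K b) := by
    intro b
    have hb : b ∈ Algebra.adjoin k (G : Set B) := by rw [hG]; trivial
    induction hb using Algebra.adjoin_induction with
    | mem x hx =>
      obtain ⟨c, hc⟩ := hv x hx
      exact ⟨c, by rw [hc, Algebra.smul_def]⟩
    | algebraMap r =>
      exact ⟨0, by rw [← IsScalarTower.algebraMap_apply, hDk, map_zero, mul_zero]⟩
    | add x y _ _ hx hy =>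
      obtain ⟨c, hc⟩ := hx
      obtain ⟨d, hd⟩ := hy
      exact ⟨c + d, by rw [map_add, map_add, map_add, mul_add, hc, hd]⟩
    | mul x y _ _ hx hy =>
      obtain ⟨c, hc⟩ := hx
      obtain ⟨d, hd⟩ := hy
      exact ⟨x * d + y * c, by
        rw [map_add, map_mul, map_mul, hc, hd, map_mul, D.leibniz, smul_eq_mul, smul_eq_mul]; ring⟩
  choose δ hδ using hmem
  have hinj := IsFractionRing.injective B K
  have hδh : δ h = v := hinj (by rw [hδ, hD, _root_.mul_one])
  obtain ⟨m, hm, hvm⟩ : ∃ m : Ideal B, m.IsMaximal ∧ (v : B) ∉ m := by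
    by_contra! hcon
    have : (v : B) ∈ (⊥ : Ideal B).jacobson := Ideal.mem_sInf.2 fun {m} hm => hcon m hm.2
    have hJ : IsJacobsonRing B := isJacobsonRing_of_finiteType (A := k) (B := B)
    rw [IsJacobsonRing.out hJ (Ideal.isPrime_bot (α := B)).isRadical] at this
    exact nonZeroDivisors.ne_zero v.2 this
  have : IsJacobsonRing B := isJacobsonRing_of_finiteType (A := k) (B := B)
  let : Field (B ⧸ m) := Ideal.Quotient.field m
  have : Module.Finite k (B ⧸ m) := finite_of_finite_type_of_isJacobsonRing k (B ⧸ m)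
  have : Algebra.IsAlgebraic k (B ⧸ m) := Algebra.IsAlgebraic.of_finite k (B ⧸ m)
  let e : (B ⧸ m) →ₐ[k] Ω := IsAlgClosed.lift
  let χ : B →ₐ[k] Ω := e.comp (Ideal.Quotient.mkₐ k m)
  have hleib : ∀ a b : B, δ (a * b) = a * δ b + b * δ a := fun a b => hinj (by
    rw [map_add, map_mul, map_mul, hδ, hδ, hδ, map_mul, D.leibniz, smul_eq_mul, smul_eq_mul]; ring)
  have hadd : ∀ a b : B, δ (a + b) = δ a + δ b := fun a b => hinj (by
    rw [map_add, hδ, hδ, hδ, map_add, map_add]; ring)
  have hconst : ∀ c : k, δ (algebraMap k B c) = 0 := fun c => hinj (by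
    rw [hδ, ← IsScalarTower.algebraMap_apply, hDk, mul_zero, map_zero])
  let φ : B →ₐ[k] TrivSqZeroExt Ω Ω := AlgHom.ofLinearMap
    { toFun := fun b => inl (χ b) + inr (χ (δ b))
      map_add' := fun a b => by ext <;> simp [hadd]
      map_smul' := fun r b => by
        ext <;> simp [Algebra.smul_def, hleib, hconst, IsScalarTower.algebraMap_apply k Ω (TrivSqZeroExt Ω Ω), TrivSqZeroExt.algebraMap_eq_inl] }
    (by
      have h1 : δ 1 = 0 := by simpa using hconst 1
      ext <;> simp [h1])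
    (fun a b => by ext <;> simp [hleib]; ring)
  have h0 := hh φ
  have : (φ h).snd = χ (δ h) := by simp [φ]
  rw [this, hδh] at h0
  have : Ideal.Quotient.mk m (v : B) = 0 := e.toRingHom.injective (h0.trans (map_zero e).symm)
  exact hvm (Ideal.Quotient.eq_zero_iff_mem.1 this)

variable {A : Over (Spec (CommRingCat.of k))} [GrpObj A] [IsProper A.hom]
  [GeometricallyIntegral A.hom]

open Groth.GrpschAbsch in
set_option backward.isDefEq.respectTransparency false in
/-- Tangent vectors with values in an algebraically closed extension are made constant by `[p]`. -/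
theorem tangent_comp_pow_ext (Ω : Type u) [Field Ω] [Algebra k Ω] [IsAlgClosed Ω]
    (z : Spec (CommRingCat.of (TrivSqZeroExt Ω Ω)) ⟶ A.left)
    (hz : z ≫ A.hom = Spec.map (CommRingCat.ofHom (algebraMap k (TrivSqZeroExt Ω Ω)))) :
    z ≫ (𝟙 A ^ p : A ⟶ A).left =
      Spec.map (CommRingCat.ofHom ((algebraMap Ω (TrivSqZeroExt Ω Ω)).comp
        (TrivSqZeroExt.fstHom Ω Ω Ω).toRingHom)) ≫ z ≫ (𝟙 A ^ p : A ⟶ A).left := by
  let t : Spec (CommRingCat.of Ω) ⟶ Spec (CommRingCat.of k) :=
    Spec.map (CommRingCat.ofHom (algebraMap k Ω))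
  have : CharP Ω p := charP_of_injective_algebraMap (algebraMap k Ω).injective p
  let : GrpObj ((Over.pullback t).obj A) := Functor.grpObjObj
  have : IsProper ((Over.pullback t).obj A).hom := inferInstanceAs (IsProper (pullback.snd A.hom t))
  have : GeometricallyIntegral ((Over.pullback t).obj A).hom :=
    inferInstanceAs (GeometricallyIntegral (pullback.snd A.hom t))
  have := GrpschAbsch.isCommMonObj_of_isProper ((Over.pullback t).obj A)
  have e : (Over.pullback t).map (𝟙 A ^ p : A ⟶ A) = 𝟙 _ ^ p := by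
    have := ((Over.pullback t).homMonoidHom (X := A) (M := A)).map_pow (𝟙 A) p
    simpa using this
  let z' : specOver Ω (TrivSqZeroExt Ω Ω) ⟶ (Over.pullback t).obj A := Over.homMk
    (pullback.lift z (Spec.map (CommRingCat.ofHom (algebraMap Ω (TrivSqZeroExt Ω Ω)))) (by
      rw [hz, ← Spec.map_comp, ← CommRingCat.ofHom_comp, ← IsScalarTower.algebraMap_eq]))
    (pullback.lift_snd _ _ _)
  have hf : z'.left ≫ pullback.fst A.hom t = z := pullback.lift_fst _ _ _
  have w : ((Over.pullback t).map (𝟙 A ^ p : A ⟶ A)).left ≫ pullback.fst A.hom t =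
      pullback.fst A.hom t ≫ (𝟙 A ^ p : A ⟶ A).left := pullback.lift_fst _ _ _
  have h := tangent_comp_pow p z'
  rw [← e] at h
  have h' := congrArg (fun g => g.left ≫ pullback.fst A.hom t) h
  simp only [Over.comp_left, Category.assoc, w, reassoc_of% hf] at h'
  refine h'.trans ?_
  show Spec.map _ ≫ Spec.map _ ≫ _ = _
  rw [← Spec.map_comp_assoc]
  rfl

variable (hperf : ∀ c : k, ∃ d : k, d ^ p = c)
include hperf

/-- A function pulled back along `[p]` is a `p`-th power in the function field (perfect field). -/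
theorem exists_pow_eq_appLE_perfect {U V : A.left.Opens} (hU : IsAffineOpen U) (hV : IsAffineOpen V)
    (e : V ≤ (𝟙 A ^ p : A ⟶ A).left ⁻¹ᵁ U) [IsDomain Γ(A.left, V)]
    (K : Type u) [Field K] [Algebra Γ(A.left, V) K] [IsFractionRing Γ(A.left, V) K]
    (s : Γ(A.left, U)) :
    ∃ y : K, y ^ p = algebraMap Γ(A.left, V) K ((𝟙 A ^ p : A ⟶ A).left.appLE U V e s) := by
  set f := (𝟙 A ^ p : A ⟶ A)
  let ι₀ : CommRingCat.of k ⟶ Γ(A.left, V) := Spec.preimage (hV.fromSpec ≫ A.hom)
  let : Algebra k Γ(A.left, V) := ι₀.hom.toAlgebra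
  have hι : Spec.map (CommRingCat.ofHom (algebraMap k Γ(A.left, V))) = hV.fromSpec ≫ A.hom :=
    Spec.map_preimage _
  have : Algebra.FiniteType k Γ(A.left, V) := by
    have : LocallyOfFiniteType (Spec.map (CommRingCat.ofHom (algebraMap k Γ(A.left, V)))) := by
      rw [hι]; infer_instance
    exact (HasRingHomProperty.Spec_iff (P := @LocallyOfFiniteType)).mp this
  let : Algebra k K := ((algebraMap Γ(A.left, V) K).comp (algebraMap k Γ(A.left, V))).toAlgebra
  have : IsScalarTower k Γ(A.left, V) K := IsScalarTower.of_algebraMap_eq fun _ => rfl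
  let Ω := AlgebraicClosure k
  refine exists_pow_eq_of_forall_snd_eq_zero_ext (k := k) p hperf Ω K _ fun φ => ?_
  let z : Spec (CommRingCat.of (TrivSqZeroExt Ω Ω)) ⟶ A.left :=
    Spec.map (CommRingCat.ofHom φ.toRingHom) ≫ hV.fromSpec
  have hz : z ≫ A.hom = Spec.map (CommRingCat.ofHom (algebraMap k (TrivSqZeroExt Ω Ω))) := by
    rw [Category.assoc, ← hι, ← Spec.map_comp, ← CommRingCat.ofHom_comp]
    exact congrArg (fun r ↦ Spec.map (CommRingCat.ofHom r)) φ.comp_algebraMap
  have hzf : z ≫ f.left =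
      Spec.map (f.left.appLE U V e ≫ CommRingCat.ofHom φ.toRingHom) ≫ hU.fromSpec := by
    simp only [z]
    rw [Spec.map_comp, Category.assoc, Category.assoc, IsAffineOpen.SpecMap_appLE_fromSpec]
  have h' := tangent_comp_pow_ext p Ω z hz
  rw [hzf, ← Spec.map_comp_assoc, cancel_mono, Spec.map_inj] at h'
  have := congrArg TrivSqZeroExt.snd (congr($h' s))
  simpa [TrivSqZeroExt.algebraMap_eq_inl] using this

/-- Functions pulled back along `[p]` are, locally, `p`-th powers. -/
theorem exists_local_root (U : A.left.Opens) (s : Γ(A.left, U)) (a : A.left)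
    (ha : a ∈ (𝟙 A ^ p : A ⟶ A).left ⁻¹ᵁ U) :
    ∃ (W : A.left.Opens) (e : W ≤ (𝟙 A ^ p : A ⟶ A).left ⁻¹ᵁ U) (_ : a ∈ W) (y : Γ(A.left, W)),
      y ^ p = (𝟙 A ^ p : A ⟶ A).left.appLE U W e s := by
  set f := (𝟙 A ^ p : A ⟶ A).left
  have := Groth.Abvar.isIntegral_left A
  have := isRegularLocalRing_stalk_left (A := A) a
  have := Groth.Ega4Algebra1.isIntegrallyClosed_of_isRegularLocalRing (A.left.presheaf.stalk a)
  obtain ⟨_, ⟨U', hU', rfl⟩, hfU', hU'U⟩ := A.left.isBasis_affineOpens.exists_subset_of_mem_open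
    (show f a ∈ (U : Set A.left) from ha) U.2
  obtain ⟨_, ⟨V, hV, rfl⟩, haV, hVU⟩ := A.left.isBasis_affineOpens.exists_subset_of_mem_open
    (show a ∈ ((f ⁻¹ᵁ U' : A.left.Opens) : Set A.left) from hfU') (f ⁻¹ᵁ U').2
  have e' : V ≤ f ⁻¹ᵁ U' := hVU
  have e : V ≤ f ⁻¹ᵁ U := e'.trans (fun x hx => hU'U hx)
  have : Nonempty V := ⟨⟨a, haV⟩⟩
  have := functionField_isFractionRing_of_isAffineOpen A.left V hV
  obtain ⟨y, hy⟩ := exists_pow_eq_appLE_perfect p hperf hU' hV e' A.left.functionField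
    (A.left.presheaf.map (homOfLE hU'U).op s)
  rw [← CommRingCat.comp_apply, Scheme.Hom.map_appLE] at hy
  have hy' : y ^ p = algebraMap (A.left.presheaf.stalk a) A.left.functionField
      (A.left.presheaf.germ V a haV (f.appLE U V e s)) := by
    rw [Scheme.algebraMap_germ_eq_germToFunctionField]
    exact hy
  obtain ⟨z, hz⟩ := IsIntegrallyClosed.exists_algebraMap_eq_of_isIntegral_pow
    (R := A.left.presheaf.stalk a) (Fact.out : p.Prime).pos (x := y)
    (hy' ▸ isIntegral_algebraMap)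
  have hzp : z ^ p = A.left.presheaf.germ V a haV (f.appLE U V e s) := by
    refine IsFractionRing.injective (A.left.presheaf.stalk a) A.left.functionField ?_
    rw [map_pow, hz, hy']
  obtain ⟨W, haW, w, rfl⟩ := A.left.presheaf.exists_germ_eq z
  rw [← map_pow] at hzp
  obtain ⟨W', haW', i, j, hij⟩ := A.left.presheaf.germ_eq a haW haV _ _ hzp
  refine ⟨W', j.le.trans e, haW', A.left.presheaf.map i.op w, ?_⟩
  rw [← map_pow, hij, ← CommRingCat.comp_apply, Scheme.Hom.appLE_map]

/-- Functions pulled back along `[p ^ n]` are, locally, `p ^ n`-th powers. -/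
theorem exists_local_root_iter (n : ℕ) (U : A.left.Opens) (s : Γ(A.left, U)) (a : A.left)
    (ha : a ∈ (𝟙 A ^ (p ^ n) : A ⟶ A).left ⁻¹ᵁ U) :
    ∃ (W : A.left.Opens) (e : W ≤ (𝟙 A ^ (p ^ n) : A ⟶ A).left ⁻¹ᵁ U) (_ : a ∈ W) (y : Γ(A.left, W)),
      y ^ (p ^ n) = (𝟙 A ^ (p ^ n) : A ⟶ A).left.appLE U W e s := by
  induction n generalizing U s a with
  | zero =>
    exact ⟨_, le_rfl, ha, (𝟙 A ^ (p ^ 0) : A ⟶ A).left.appLE U _ le_rfl s, by
      simp only [pow_zero]; exact pow_one _⟩
  | succ n ih =>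
    have hcomp : (𝟙 A ^ (p ^ (n + 1)) : A ⟶ A).left =
        (𝟙 A ^ p : A ⟶ A).left ≫ (𝟙 A ^ (p ^ n) : A ⟶ A).left := by
      rw [← Over.comp_left, MonObj.comp_pow, Category.comp_id, ← pow_mul, pow_succ']
    revert ha
    rw [hcomp]
    intro ha
    obtain ⟨W₁, e₁, haW₁, y, hy⟩ := ih U s ((𝟙 A ^ p : A ⟶ A).left a) ha
    obtain ⟨W₂, e₂, haW₂, z, hz⟩ := exists_local_root p hperf W₁ y a haW₁
    refine ⟨W₂, e₂.trans ((Opens.map _).map (homOfLE e₁)).le, haW₂, z, ?_⟩
    rw [pow_succ', pow_mul, hz, ← map_pow, hy, ← CommRingCat.comp_apply,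
      Scheme.Hom.appLE_comp_appLE]

end Groth.AbVarMul
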