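import Groth.Agent.AbVarMul.PTorsion
import Groth.Agent.AbVarMul.Degree
import Groth.Agent.AbVarMul.KerTate

/-!
# At most `p ^ g` points are killed by `p` in characteristic `p`
-/

universe u

open CategoryTheory CategoryTheory.Limits MonoidalCategory CartesianMonoidalCategory MonObj GrpObj
  AlgebraicGeometry TopologicalSpace IsLocalRing
open Groth.NeronArea.FieldComponents (pp pp_comp)

namespace Groth.AbVarMul

variable {k : Type u} [Field k] [IsAlgClosed k] {A : Over (Spec (CommRingCat.of k))} [GrpObj A]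
  [IsProper A.hom] [GeometricallyIntegral A.hom] [IsCommMonObj A] (p : ℕ) [Fact p.Prime] [CharP k p]

local notation "pt" => (𝟙_ (Over (Spec (CommRingCat.of k))))

omit [Fact p.Prime] in
/-- The ground field in a local ring. -/
theorem charP_stalk (a : A.left) : CharP (A.left.presheaf.stalk a) p := by
  let ι₀ : CommRingCat.of k ⟶ A.left.presheaf.stalk a :=
    Spec.preimage (A.left.fromSpecStalk a ≫ A.hom)
  exact charP_of_injective_ringHom ι₀.hom.injective p

omit [IsCommMonObj A] in
/-- The local ring at a rational point has the dimension of the variety. -/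
theorem ringKrullDim_stalk_pp {g : ℕ} (hg : topologicalKrullDim A.left = g) (z : pt ⟶ A) :
    ringKrullDim (A.left.presheaf.stalk (pp z)) = g := by
  have := Groth.Abvar.isIntegral_left A
  have h := Variety2.Dim.ringKrullDim_stalk_add_height A.hom (pp z)
  have hmin : IsMin (pp z) := fun b hb => by
    have hz : IsClosed ({pp z} : Set A.left) :=
      (pointEquivClosedPoint A.hom ⟨z.left, Over.w _⟩).2
    have hb' : pp z ⤳ b := hb
    rw [show b = pp z from hz.closure_eq.le hb'.mem_closure]
  rw [Order.height_eq_zero.2 hmin, hg] at h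
  simpa using h

/-- In characteristic `p` at most `p ^ g` rational points are killed by `p`. -/
theorem finite_and_natCard_ker_pow_le {g : ℕ} (hg : topologicalKrullDim A.left = g) :
    {z : pt ⟶ A | z ^ p = 1}.Finite ∧ Nat.card {z : pt ⟶ A | z ^ p = 1} ≤ p ^ g := by
  classical
  have hp := (Fact.out : p.Prime)
  have hp0 : (p : ℤ) ≠ 0 := by exact_mod_cast hp.ne_zero
  have hiso := isogeny_zpow (A := A) hp0
  have hrank := finrank_zpow (A := A) hg hp0
  rw [zpow_natCast] at hiso
  simp only [zpow_natCast, Int.natAbs_natCast] at hrank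
  obtain ⟨_, _, _⟩ := hiso
  set f := (𝟙 A ^ p : A ⟶ A) with hf
  have hfp : ∀ z : pt ⟶ A, z ≫ f = z ^ p := fun z => by rw [hf, MonObj.comp_pow, Category.comp_id]
  have hfin : {z : pt ⟶ A | z ^ p = 1}.Finite := by
    refine (finite_ker_of_isFinite f).subset fun z hz => ?_
    show z ≫ f = 1
    rw [hfp]; exact hz
  refine ⟨hfin, ?_⟩
  -- the fibre over the unit
  let N : Scheme.{u} := pullback f.left η[A].left
  let sN : N ⟶ Spec (CommRingCat.of k) := pullback.snd f.left η[A].left
  have : IsFinite sN := inferInstanceAs (IsFinite (pullback.snd _ _))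
  have : Flat sN := inferInstanceAs (Flat (pullback.snd _ _))
  have : IsAffine N := isAffine_of_isAffineHom sN
  let ψ : CommRingCat.of k ⟶ Γ(N, ⊤) := Spec.preimage (N.isoSpec.inv ≫ sN)
  let : Algebra k Γ(N, ⊤) := ψ.hom.toAlgebra
  have hψ : Spec.map (CommRingCat.ofHom (algebraMap k Γ(N, ⊤))) = N.isoSpec.inv ≫ sN :=
    Spec.map_preimage _
  have : Module.Finite k Γ(N, ⊤) := by
    have : IsFinite (Spec.map (CommRingCat.ofHom (algebraMap k Γ(N, ⊤)))) := by
      rw [hψ]; infer_instance
    exact RingHom.finite_algebraMap.1 ((IsFinite.SpecMap_iff _).1 this)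
  have hR : Module.finrank k Γ(N, ⊤) = p ^ (2 * g) := by
    rw [← hrank (η[A].left (IsLocalRing.closedPoint k)),
      ← Scheme.Hom.finrank_pullback_snd f.left η[A].left (IsLocalRing.closedPoint k),
      ← Scheme.Hom.finrank_comp_left_of_isIso N.isoSpec.inv, ← hψ,
      Scheme.Hom.finrank_SpecMap_algebraMap, Module.rankAtStalk_eq_finrank_of_free]
    rfl
  -- the local rings
  let S := {z : pt ⟶ A | z ^ p = 1}
  let ι₀ : ∀ z : S, CommRingCat.of k ⟶ A.left.presheaf.stalk (pp z.1) := fun z =>
    Spec.preimage (A.left.fromSpecStalk (pp z.1) ≫ A.hom)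
  have hι₀ : ∀ z : S, Spec.map (ι₀ z) = A.left.fromSpecStalk (pp z.1) ≫ A.hom := fun z =>
    Spec.map_preimage _
  let χ : ∀ z : S, A.left.presheaf.stalk (pp z.1) ⟶ CommRingCat.of k := fun z =>
    Scheme.stalkClosedPointTo z.1.left
  have hχ : ∀ z : S, Spec.map (χ z) ≫ A.left.fromSpecStalk (pp z.1) = z.1.left := fun z =>
    Scheme.Spec_stalkClosedPointTo_fromSpecStalk _
  have hχι : ∀ z : S, ι₀ z ≫ χ z = 𝟙 _ := fun z => Spec.map_injective (by
    rw [Spec.map_comp, hι₀, ← Category.assoc, hχ, Spec.map_id]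
    exact Over.w z.1)
  let inst : ∀ z : S, Algebra k (A.left.presheaf.stalk (pp z.1)) := fun z => (ι₀ z).hom.toAlgebra
  have hres : ∀ z : S, Function.Surjective
      ((residue (A.left.presheaf.stalk (pp z.1))).comp (algebraMap k _)) := fun z x => by
    obtain ⟨x, rfl⟩ := IsLocalRing.residue_surjective x
    refine ⟨χ z x, (Ideal.Quotient.eq.2 ?_).symm⟩
    by_contra hu
    rw [IsLocalRing.mem_maximalIdeal, mem_nonunits_iff, not_not] at hu
    refine not_isUnit_zero (M₀ := k) ?_
    have := hu.map (χ z).hom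
    rwa [map_sub, show (χ z).hom (algebraMap k _ ((χ z).hom x)) = (χ z).hom x from
      congr($(hχι z) ((χ z).hom x)), sub_self] at this
  have hcharP : ∀ z : S, CharP (A.left.presheaf.stalk (pp z.1)) p := fun z => charP_stalk p _
  let J : ∀ z : S, Ideal (A.left.presheaf.stalk (pp z.1)) := fun z =>
    frobIdeal (R := A.left.presheaf.stalk (pp z.1)) p
  have hQ : ∀ z : S, Module.Finite k (A.left.presheaf.stalk (pp z.1) ⧸ J z) ∧
      Module.finrank k (A.left.presheaf.stalk (pp z.1) ⧸ J z) = p ^ g := fun z =>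
    haveI := isRegularLocalRing_stalk_left (A := A) (pp z.1)
    finrank_quotient_frobIdeal p (hres z) (ringKrullDim_stalk_pp hg z.1)
  have hQfin := fun z => (hQ z).1
  let mk : ∀ z : S, A.left.presheaf.stalk (pp z.1) ⟶
      CommRingCat.of (A.left.presheaf.stalk (pp z.1) ⧸ J z) := fun z =>
    CommRingCat.ofHom (Ideal.Quotient.mk (J z))
  let τ : ∀ z : S, Spec (CommRingCat.of (A.left.presheaf.stalk (pp z.1) ⧸ J z)) ⟶ A.left := fun z =>
    Spec.map (mk z) ≫ A.left.fromSpecStalk (pp z.1)
  have hτf : ∀ z : S, τ z ≫ f.left = (τ z ≫ A.hom) ≫ η[A].left := fun z => by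
    have hzf : z.1.left ≫ f.left = η[A].left := by
      rw [← Over.comp_left, hfp, show z.1 ^ p = 1 from z.2, ← MonObj.one_eq_one]
    have hcomp : A.left.fromSpecStalk (pp z.1) ≫ f.left =
        Spec.map (f.left.stalkMap (pp z.1)) ≫ A.left.fromSpecStalk (f.left (pp z.1)) :=
      (Scheme.SpecMap_stalkMap_fromSpecStalk f.left).symm
    have e1 : (τ z ≫ A.hom) = Spec.map (ι₀ z ≫ mk z) := by
      simp only [τ, Category.assoc, ← hι₀, Spec.map_comp]
    have e2 : η[A].left = Spec.map (f.left.stalkMap (pp z.1) ≫ χ z) ≫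
        A.left.fromSpecStalk (f.left (pp z.1)) := by
      rw [← hzf, ← hχ z, Category.assoc, hcomp, Spec.map_comp_assoc]
    rw [e1, e2, Category.assoc, hcomp, ← Spec.map_comp_assoc, ← Spec.map_comp_assoc]
    congr 2
    ext t
    let ι' : CommRingCat.of k ⟶ A.left.presheaf.stalk (f.left (pp z.1)) :=
      Spec.preimage (A.left.fromSpecStalk (f.left (pp z.1)) ≫ A.hom)
    have hι' : ι' ≫ f.left.stalkMap (pp z.1) = ι₀ z := Spec.map_injective (by
      rw [Spec.map_comp, Spec.map_preimage, hι₀, ← Category.assoc, ← hcomp, Category.assoc, Over.w f])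
    show Ideal.Quotient.mk (J z) (f.left.stalkMap (pp z.1) t) =
      Ideal.Quotient.mk (J z) (ι₀ z (χ z (f.left.stalkMap (pp z.1) t)))
    set c := χ z (f.left.stalkMap (pp z.1) t) with hc
    have hι'c : f.left.stalkMap (pp z.1) (ι' c) = ι₀ z c := congr($hι' c)
    rw [Ideal.Quotient.eq, ← hι'c, ← map_sub]
    refine stalkMap_mem_frobIdeal p _ _ ?_
    by_contra hu
    rw [IsLocalRing.mem_maximalIdeal, mem_nonunits_iff, not_not] at hu
    refine not_isUnit_zero (M₀ := k) ?_
    have := (hu.map (f.left.stalkMap (pp z.1)).hom).map (χ z).hom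
    rwa [map_sub, map_sub, hι'c, show (χ z).hom (ι₀ z c) = c from congr($(hχι z) c), ← hc,
      sub_self] at this
  let τN : ∀ z : S, Spec (CommRingCat.of (A.left.presheaf.stalk (pp z.1) ⧸ J z)) ⟶ N := fun z =>
    pullback.lift (τ z) (τ z ≫ A.hom) (hτf z)
  have hτN : ∀ z : S, IsClosedImmersion (τN z) := fun z => by
    have : IsClosedImmersion (Spec.map (mk z)) :=
      IsClosedImmersion.spec_of_surjective _ Ideal.Quotient.mk_surjective
    have : IsFinite (τ z ≫ A.hom) := by
      have h : τ z ≫ A.hom = Spec.map (ι₀ z ≫ mk z) := by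
        simp only [τ, Category.assoc, ← hι₀, Spec.map_comp]
      rw [h, IsFinite.SpecMap_iff]
      have : (ι₀ z ≫ mk z).hom = algebraMap k (A.left.presheaf.stalk (pp z.1) ⧸ J z) := rfl
      rw [this]
      exact RingHom.finite_algebraMap.2 (hQfin z)
    have : IsFinite (τ z) := IsFinite.of_comp (τ z) A.hom
    have : Mono (τ z) := mono_comp (Spec.map (mk z)) _
    have : IsClosedImmersion (τ z) := (IsClosedImmersion.iff_isFinite_and_mono _).2 ⟨‹_›, ‹_›⟩
    have : IsClosedImmersion (τN z ≫ pullback.fst f.left η[A].left) := by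
      rw [pullback.lift_fst]; infer_instance
    exact IsClosedImmersion.of_comp (τN z) (pullback.fst f.left η[A].left)
  let q : ∀ z : S, Γ(N, ⊤) ⟶ CommRingCat.of (A.left.presheaf.stalk (pp z.1) ⧸ J z) := fun z =>
    Spec.preimage (τN z ≫ N.isoSpec.hom)
  have hq : ∀ z : S, Spec.map (q z) = τN z ≫ N.isoSpec.hom := fun z => Spec.map_preimage _
  have hqsurj : ∀ z : S, Function.Surjective (q z) := fun z => by
    have := hτN z
    have h : IsClosedImmersion (Spec.map (q z)) := by rw [hq]; infer_instance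
    obtain ⟨-, hsur⟩ := IsClosedImmersion.isAffine_surjective_of_isAffine (Spec.map (q z))
    intro x
    obtain ⟨y, hy⟩ := hsur ((Scheme.ΓSpecIso _).inv x)
    refine ⟨(Scheme.ΓSpecIso _).hom y, ?_⟩
    have e := congr($(Scheme.ΓSpecIso_naturality (q z)) y)
    rw [CommRingCat.comp_apply, CommRingCat.comp_apply, hy, ← CommRingCat.comp_apply,
      Iso.inv_hom_id, CommRingCat.id_apply] at e
    exact e.symm
  have hqk : ∀ z : S, ∀ c : k, q z (algebraMap k Γ(N, ⊤) c) =
      algebraMap k (A.left.presheaf.stalk (pp z.1) ⧸ J z) c := fun z c => by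
    have h : CommRingCat.ofHom (algebraMap k Γ(N, ⊤)) ≫ q z = ι₀ z ≫ mk z := Spec.map_injective (by
      rw [Spec.map_comp, hq, hψ, Category.assoc, Iso.hom_inv_id_assoc, pullback.lift_snd, Spec.map_comp,
        hι₀]
      exact Category.assoc _ _ _)
    exact congr($h c)
  let qa : ∀ z : S, Γ(N, ⊤) →ₐ[k] A.left.presheaf.stalk (pp z.1) ⧸ J z := fun z =>
    { (q z).hom with commutes' := hqk z }
  have hcop : Pairwise (Function.onFun IsCoprime fun z : S => RingHom.ker (qa z)) := by
    intro z w hzw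
    refine Ideal.isCoprime_iff_sup_eq.2 (by_contra fun hne => ?_)
    obtain ⟨M, hM, hle⟩ := Ideal.exists_le_maximal _ hne
    have key : ∀ u : S, RingHom.ker (qa u) ≤ M →
        pullback.fst f.left η[A].left (N.isoSpec.inv ⟨M, hM.isPrime⟩) = pp u.1 := by
      intro u hu
      have hmax : (M.map (q u).hom).IsMaximal := by
        refine (Ideal.map_eq_top_or_isMaximal_of_surjective (q u).hom (hqsurj u) hM).resolve_left (fun h => hM.ne_top ?_)
        have := Ideal.comap_map_of_surjective (q u).hom (hqsurj u) M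
        rw [h, Ideal.comap_top] at this
        rw [this, ← RingHom.ker_eq_comap_bot]
        exact (sup_eq_left.2 hu).symm
      let m₀ : Spec (CommRingCat.of (A.left.presheaf.stalk (pp u.1) ⧸ J u)) := ⟨_, hmax.isPrime⟩
      have hm₀ : Spec.map (q u) m₀ = ⟨M, hM.isPrime⟩ := by
        refine PrimeSpectrum.ext ?_
        show Ideal.comap (q u).hom (Ideal.map (q u).hom M) = M
        rw [Ideal.comap_map_of_surjective _ (hqsurj u), ← RingHom.ker_eq_comap_bot]
        exact sup_eq_left.2 hu
      rw [← hm₀, hq, Scheme.Hom.comp_apply, Scheme.hom_inv_apply, ← Scheme.Hom.comp_apply,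
        pullback.lift_fst, Scheme.Hom.comp_apply]
      have hcl : Spec.map (mk u) m₀ = IsLocalRing.closedPoint (A.left.presheaf.stalk (pp u.1)) :=
        PrimeSpectrum.ext (IsLocalRing.eq_maximalIdeal
          (Ideal.comap_isMaximal_of_surjective _ Ideal.Quotient.mk_surjective (H := hmax)))
      rw [hcl, Scheme.fromSpecStalk_closedPoint]
    refine hzw (Subtype.ext (point_ext' ?_))
    rw [← key z (le_sup_left.trans hle), ← key w (le_sup_right.trans hle)]
  have := hfin.to_subtype
  have : Fintype S := Fintype.ofFinite S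
  let L : Γ(N, ⊤) →ₗ[k] ((z : S) → A.left.presheaf.stalk (pp z.1) ⧸ J z) :=
    LinearMap.pi fun z => (qa z).toLinearMap
  have hL : Function.Surjective L := fun x => by
    choose r hr using fun z => hqsurj z (x z)
    obtain ⟨s, hs⟩ := Ideal.pi_quotient_surjective hcop fun z => Ideal.Quotient.mk _ (r z)
    refine ⟨s, funext fun z => ?_⟩
    have := Ideal.Quotient.eq.1 (hs z)
    rw [RingHom.mem_ker, map_sub, sub_eq_zero] at this
    exact this.trans (hr z)
  have hle := L.finrank_le_finrank_of_surjective hL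
  rw [Module.finrank_pi_fintype k, Finset.sum_congr rfl fun z _ => (hQ z).2, Finset.sum_const,
    smul_eq_mul, Finset.card_univ, hR, two_mul, pow_add] at hle
  rw [Nat.card_eq_fintype_card]
  exact Nat.le_of_mul_le_mul_right hle (pow_pos hp.pos g)

end Groth.AbVarMul
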