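import Groth.Agent.AbVarMul.TateDivBC
import Groth.Agent.AbVarMul.Density
import Groth.Agent.AlgGrp1.AffineCrit
import Groth.Agent.AlgGrp1.GeomRedDense
import Groth.Agent.AlgGrp1.SmoothReduced
import Groth.Agent.GrpschAbsch.GrpEtale
import Groth.Agent.GrpschAbsch.FibreFlat

/-!
# The reduced subscheme of a connected subgroup of an abelian variety is geometrically reduced
-/

universe u

open CategoryTheory Limits MonoidalCategory CartesianMonoidalCategory MonObj GrpObj AlgebraicGeometry
open AbDual
open Groth.NeronArea.FieldComponents (pp pp_comp)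

namespace Groth.AbVarMul

variable {k : Type u} [Field k]

noncomputable local instance grpObjBcFRed {K : Type u} [Field K] [Algebra k K]
    (A : Over (Spec (CommRingCat.of k))) [GrpObj A] :
    GrpObj ((bcF K).obj A) := Functor.grpObjObj

/-- The points of order a power of an invertible prime are dense, hence the reduced scheme
underlying a connected closed subgroup of an abelian variety is geometrically reduced. -/
theorem geometricallyReduced_red (X : Over (Spec (CommRingCat.of k))) [GrpObj X] [IsProper X.hom]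
    [GeometricallyIntegral X.hom] (Y : Over (Spec (CommRingCat.of k))) [GrpObj Y] (i : Y ⟶ X)
    [IsMonHom i] [IsClosedImmersion i.left] [ConnectedSpace ↥Y.left]
    (Z : Over (Spec (CommRingCat.of k))) (c : Z ⟶ Y) [IsClosedImmersion c.left] [Surjective c.left]
    [IsReduced Z.left] : GeometricallyReduced Z.hom := by
  obtain ⟨l, hlp, hl⟩ : ∃ l : ℕ, l.Prime ∧ (l : k) ≠ 0 := by
    by_cases h2 : ((2 : ℕ) : k) = 0
    · refine ⟨3, Nat.prime_three, fun h3 => one_ne_zero (α := k) ?_⟩
      have : ((3 : ℕ) : k) = ((2 : ℕ) : k) + 1 := by norm_num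
      rwa [h3, h2, zero_add, eq_comm] at this
    · exact ⟨2, Nat.prime_two, h2⟩
  have := Fact.mk hlp
  have := GrpschAbsch.isCommMonObj_of_isProper X
  let K := AlgebraicClosure k
  have hlK : (l : K) ≠ 0 := fun h => hl ((algebraMap k K).injective (by rw [map_natCast, h, map_zero]))
  have : IsProper Y.hom := by rw [← Over.w i]; infer_instance
  have hYK : IsProper ((bcF K).obj Y).hom := isProper_bcF K Y
  have := Groth.AlgGrp1.geometricallyConnected_of_point Y.hom η[Y].left (Over.w η[Y])
  have : ConnectedSpace ((bcF K).obj Y).left := inferInstanceAs (ConnectedSpace ↥(pullback Y.hom _))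
  obtain ⟨R, hR0, r, hr, hrc, hrs, hrsm, hrred⟩ :=
    Groth.AlgGrp1.exists_reduced_subgroup_lft ((bcF K).obj Y)
  have : IsProper R.hom := by rw [← Over.w r]; infer_instance
  have : ConnectedSpace R.left :=
    (Homeomorph.connectedSpace_iff (Equiv.toHomeomorphOfContinuousClosed
      (Equiv.ofBijective _ ⟨r.left.isClosedEmbedding.injective, r.left.surjective⟩)
      r.left.continuous r.left.isClosedEmbedding.isClosedMap)).2 inferInstance
  have := Groth.AlgGrp1.geometricallyIntegral_of_smooth R
  have := GrpschAbsch.isCommMonObj_of_isProper R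
  have : Surjective (Spec.map (CommRingCat.ofHom (algebraMap k K))) :=
    ⟨fun x => ⟨IsLocalRing.closedPoint K, Subsingleton.elim _ _⟩⟩
  let q : R.left ⟶ Y.left := r.left ≫ pullback.fst Y.hom _
  let T : Over (Spec (CommRingCat.of k)) := Over.mk (q ≫ Y.hom)
  have : IsReduced T.left := hrred
  obtain ⟨π₀, hπ₀⟩ := Groth.AlgGrp1.exists_factor_of_range_subset c (Over.homMk q rfl : T ⟶ Y)
    (by rw [c.left.surjective.range_eq]; exact Set.subset_univ _)
  let π : R.left ⟶ Z.left := π₀.left
  have hπ : π ≫ c.left = q := congrArg (fun w : T ⟶ Y => w.left) hπ₀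
  have hπs : Function.Surjective π.base := fun z => by
    obtain ⟨x, hx⟩ := q.surjective (c.left z)
    exact ⟨x, c.left.isClosedEmbedding.injective ((congr(($hπ).base x)).trans hx)⟩
  let P : ℕ → Over (Spec (CommRingCat.of k)) := fun n =>
    Over.mk (pullback.fst η[X].left ((c ≫ i).left ≫ (𝟙 X ^ (l ^ n)).left) :
      _ ⟶ Spec (CommRingCat.of k))
  let g : ∀ n, P n ⟶ Z := fun n => Over.homMk
    (pullback.snd η[X].left ((c ≫ i).left ≫ (𝟙 X ^ (l ^ n)).left))
    ((congrArg (pullback.snd η[X].left ((c ≫ i).left ≫ (𝟙 X ^ (l ^ n)).left) ≫ ·)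
        (Over.w ((c ≫ i) ≫ (𝟙 X ^ (l ^ n)))).symm).trans
      ((Category.assoc _ _ _).symm.trans ((congrArg (· ≫ X.hom) pullback.condition.symm).trans
        ((Category.assoc _ _ _).trans ((congrArg (pullback.fst η[X].left _ ≫ ·) (Over.w η[X])).trans
          (Category.comp_id _))))))
  refine Groth.AlgGrp1.geometricallyReduced_of_family Z P g (fun n => ?_) ?_
  · have hn : ((l ^ n : ℕ) : ℤ) ≠ 0 := by exact_mod_cast pow_ne_zero n hlp.ne_zero
    have het : Etale (𝟙 X ^ (l ^ n)).left := by
      rw [← zpow_natCast]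
      exact GrpschAbsch.etale_zpow _ (by push_cast; exact pow_ne_zero n hl)
    have hci : IsClosedImmersion (c ≫ i).left := by rw [Over.comp_left]; infer_instance
    have : FormallyUnramified (c ≫ i).left := inferInstance
    have : FormallyUnramified (𝟙 X ^ (l ^ n)).left := inferInstance
    have : FormallyUnramified ((c ≫ i).left ≫ (𝟙 X ^ (l ^ n)).left) :=
      MorphismProperty.comp_mem @FormallyUnramified _ _ ‹_› ‹_›
    have : LocallyOfFiniteType ((c ≫ i).left ≫ (𝟙 X ^ (l ^ n)).left) := inferInstance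
    have : FormallyUnramified (P n).hom :=
      MorphismProperty.pullback_fst (P := @FormallyUnramified) η[X].left _ ‹_›
    have : LocallyOfFiniteType (P n).hom :=
      inferInstanceAs (LocallyOfFiniteType (pullback.fst η[X].left ((c ≫ i).left ≫ (𝟙 X ^ (l ^ n)).left)))
    have : LocallyOfFinitePresentation (P n).hom := inferInstance
    have : Etale (P n).hom := Etale.of_formallyUnramified_of_flat (P n).hom
    exact Groth.AlgGrp1.geometricallyReduced_of_smooth (P n).hom
  · have hd : Dense {q : R.left | ∃ (n : ℕ) (a : 𝟙_ _ ⟶ R), a ^ l ^ n = 1 ∧ pp a = q} :=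
      dense_iff_closure_eq.2 (closure_torsion_eq_univ (A := R) hlK)
    refine ((hπs.denseRange).dense_image π.continuous hd).mono ?_
    rintro _ ⟨_, ⟨n, a, ha, rfl⟩, rfl⟩
    let y : SGA7.pt (K := k) K ⟶ Y := (bcPoints K Y).symm (a ≫ r)
    have hy : y ^ l ^ n = 1 := (bcPoints K Y).injective (by
      rw [map_pow, MulEquiv.apply_symm_apply, map_one, ← pow_comp', ha, MonObj.one_comp])
    have hyn : (y ≫ i) ≫ (𝟙 X ^ (l ^ n)) = 1 := by
      rw [MonObj.comp_pow, Category.comp_id, ← pow_comp', hy, MonObj.one_comp]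
    have hv : (toUnit (SGA7.pt (K := k) K)).left ≫ η[X].left =
        (a.left ≫ π) ≫ (c ≫ i).left ≫ (𝟙 X ^ (l ^ n)).left := by
      have h1 : (a.left ≫ π) ≫ c.left = y.left := by
        rw [Category.assoc, hπ]
        exact (Category.assoc _ _ _).symm
      refine ((congrArg (fun w : SGA7.pt (K := k) K ⟶ X => w.left) hyn).symm.trans ?_)
      show (y.left ≫ i.left) ≫ _ = _
      rw [← h1]
      simp only [Over.comp_left, Category.assoc]
    exact Set.mem_iUnion.2 ⟨n, (pullback.lift _ _ hv) (IsLocalRing.closedPoint K), by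
      show (pullback.snd η[X].left ((c ≫ i).left ≫ (𝟙 X ^ (l ^ n)).left))
        ((pullback.lift _ _ hv) (IsLocalRing.closedPoint K)) = π (pp a)
      rw [← Scheme.Hom.comp_apply, pullback.lift_snd]
      rfl⟩

/-- A geometrically reduced closed subscheme with the same space as a subgroup is a subgroup. -/
theorem exists_grpObj_of_geometricallyReduced (Y : Over (Spec (CommRingCat.of k))) [GrpObj Y]
    (Z : Over (Spec (CommRingCat.of k))) (c : Z ⟶ Y) [IsClosedImmersion c.left] [Surjective c.left]
    [GeometricallyReduced Z.hom] [LocallyOfFiniteType Z.hom] :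
    ∃ _ : GrpObj Z, IsMonHom c := by
  have := Groth.AlgGrp1.isReduced_left Z
  have : IsReduced (𝟙_ (Over (Spec (CommRingCat.of k)))).left :=
    inferInstanceAs (IsReduced (Spec (CommRingCat.of k)))
  have := Groth.AlgGrp1.isReduced_tensorObj Z Z
  have hfac : ∀ {T : Over (Spec (CommRingCat.of k))} [IsReduced T.left] (f : T ⟶ Y), ∃ z : T ⟶ Z, z ≫ c = f :=
    fun f => Groth.AlgGrp1.exists_factor_of_range_subset c f
      (by rw [c.left.surjective.range_eq]; exact Set.subset_univ _)
  obtain ⟨o, ho⟩ := hfac (1 : 𝟙_ _ ⟶ Y)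
  obtain ⟨m, hm⟩ := hfac ((fst Z Z ≫ c) * (snd Z Z ≫ c))
  obtain ⟨v, hv⟩ := hfac (c ≫ ι[Y])
  have : Mono c := Over.mono_of_mono_left c
  exact Groth.Agf.exists_grpObj_of_subgroup c (fun T g => ∃ z : T ⟶ Z, z ≫ c = g) (fun _ _ => Iff.rfl)
    (fun T => ⟨toUnit T ≫ o, by rw [Category.assoc, ho, MonObj.comp_one]⟩)
    (fun T a b ⟨x, hx⟩ ⟨y, hy⟩ => ⟨lift x y ≫ m, by
      rw [Category.assoc, hm, MonObj.comp_mul, lift_fst_assoc, lift_snd_assoc, hx, hy]⟩)
    (fun T a ⟨x, hx⟩ => ⟨x ≫ v, by rw [Category.assoc, hv, ← hx, Hom.inv_def, Category.assoc]⟩)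

end Groth.AbVarMul
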