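import Mathlib.AlgebraicGeometry.Scheme

/-!
# Dividing a morphism of schemes by an absolute Frobenius power

If every section pulled back along `f : X ⟶ Y` is an `n`-th power and `x ↦ x ^ n` is an injective
endomorphism of the rings of sections of `X`, the `n`-th roots form a morphism `X ⟶ Y`.
-/

universe u

open CategoryTheory TopologicalSpace Opposite AlgebraicGeometry

namespace Groth.AbVarMul

variable {X Y : Scheme.{u}} (f : X ⟶ Y) (n : ℕ)
  (hadd : ∀ (W : X.Opens) (a b : Γ(X, W)), (a + b) ^ n = a ^ n + b ^ n)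
  (hinj : ∀ (W : X.Opens) (a b : Γ(X, W)), a ^ n = b ^ n → a = b)
  (hroot : ∀ (U : Y.Opens) (s : Γ(Y, U)), ∃ y : Γ(X, f ⁻¹ᵁ U), y ^ n = f.app U s)

/-- The ring map of `n`-th roots of the pull-back. -/
noncomputable def rootApp (U : Y.Opens) : Γ(Y, U) →+* Γ(X, f ⁻¹ᵁ U) where
  toFun s := (hroot U s).choose
  map_one' := hinj _ _ _ ((hroot U 1).choose_spec.trans (by rw [map_one, one_pow]))
  map_mul' s t := hinj _ _ _ (by
    rw [(hroot U _).choose_spec, mul_pow, (hroot U s).choose_spec, (hroot U t).choose_spec, map_mul])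
  map_zero' := hinj _ _ _ ((hroot U 0).choose_spec.trans (by
    rcases Nat.eq_zero_or_pos n with rfl | hn
    · have h := hadd (f ⁻¹ᵁ U) 0 0
      have h1 : (1 : Γ(X, f ⁻¹ᵁ U)) = 0 := by simpa using h
      exact eq_of_zero_eq_one h1.symm _ _
    · rw [map_zero, zero_pow hn.ne']))
  map_add' s t := hinj _ _ _ (by
    rw [(hroot U _).choose_spec, hadd, (hroot U s).choose_spec, (hroot U t).choose_spec, map_add])

theorem rootApp_pow (U : Y.Opens) (s : Γ(Y, U)) :
    rootApp f n hadd hinj hroot U s ^ n = f.app U s :=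
  (hroot U s).choose_spec

/-- The underlying map of ringed spaces. -/
noncomputable def rootPsh : X.toPresheafedSpace ⟶ Y.toPresheafedSpace where
  base := f.base
  c :=
    { app := fun U => CommRingCat.ofHom (rootApp f n hadd hinj hroot U.unop)
      naturality := fun U V i => by
        ext s
        refine hinj _ _ _ ?_
        show rootApp f n hadd hinj hroot V.unop (Y.presheaf.map i s) ^ n =
          (X.presheaf.map ((Opens.map f.base).map i.unop).op (rootApp f n hadd hinj hroot U.unop s)) ^ n
        rw [rootApp_pow, ← map_pow, rootApp_pow]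
        exact congr($(f.naturality i) s) }

/-- The morphism of `n`-th roots. -/
noncomputable def rootHom : X ⟶ Y :=
  ⟨⟨rootPsh f n hadd hinj hroot, fun x => by
    refine ⟨fun t ht => ?_⟩
    obtain ⟨U, hU, s, rfl⟩ := Y.presheaf.exists_germ_eq t
    have hU' : f x ∈ U := hU
    have h1 : (PresheafedSpace.Hom.stalkMap (rootPsh f n hadd hinj hroot) x
        (Y.presheaf.germ U (f x) hU' s)) ^ n = f.stalkMap x (Y.presheaf.germ U (f x) hU' s) := by
      rw [Scheme.Hom.germ_stalkMap_apply]
      erw [PresheafedSpace.stalkMap_germ_apply]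
      rw [← rootApp_pow f n hadd hinj hroot U s, map_pow]
      rfl
    exact (isUnit_map_iff (f.stalkMap x).hom _).1 (h1 ▸ ht.pow n)⟩⟩

theorem rootHom_base : (rootHom f n hadd hinj hroot).base = f.base := rfl

theorem rootHom_app_pow (U : Y.Opens) (s : Γ(Y, U)) :
    ((rootHom f n hadd hinj hroot).app U s : Γ(X, f ⁻¹ᵁ U)) ^ n = f.app U s :=
  rootApp_pow f n hadd hinj hroot U s

end Groth.AbVarMul
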