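import Groth.Agent.AbVarMul.Consequences
import Groth.Agent.AbVarMul.Relative
import Groth.Agent.Abvar.Image
import Groth.Agent.Abvar.Hom

/-!
# Nonzero endomorphisms of simple abelian varieties are isogenies
-/

universe u

open CategoryTheory Limits MonoidalCategory CartesianMonoidalCategory MonObj GrpObj AlgebraicGeometry
  TopologicalSpace

namespace Groth.AbVarMul

variable {k : Type u} [Field k] {A : Over (Spec (CommRingCat.of k))} [GrpObj A] [IsCommMonObj A]
  [IsProper A.hom] [GeometricallyIntegral A.hom]

/-- A nontrivial endomorphism of a simple abelian variety has a quasi-inverse. -/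
theorem exists_quasi_inverse_of_simple
    (hsimple : ∀ (B : Over (Spec (CommRingCat.of k))) [GrpObj B] [GeometricallyIntegral B.hom]
      (i : B ⟶ A) [IsMonHom i] [IsClosedImmersion i.left], Subsingleton B.left ∨ IsIso i)
    (φ : A ⟶ A) [IsMonHom φ] (hφ : φ ≠ 1) :
    ∃ (n : ℕ) (ψ : A ⟶ A), 0 < n ∧ IsMonHom ψ ∧ φ ≫ ψ = 𝟙 A ^ n ∧ ψ ≫ φ = 𝟙 A ^ n := by
  have := Groth.Abvar.isIntegral_left A
  obtain ⟨I, _, i, g, _, _, _, hgs, rfl, _, _⟩ := Groth.Abvar.exists_image φ
  rcases hsimple I i with hsub | hiso
  · -- the image is a point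
    exfalso
    refine hφ ?_
    have : IsMonHom (η[I]) := inferInstance
    have hI : 𝟙 I = 1 := by
      have : IsReduced I.left := by
        haveI := Groth.Abvar.isIntegral_left I
        infer_instance
      refine Over.OverMorphism.ext ?_
      have : IsClosedImmersion η[I].left := by
        have : IsClosedImmersion (η[I].left ≫ I.hom) := by
          rw [Over.w]; exact inferInstanceAs (IsClosedImmersion (𝟙 _))
        exact IsClosedImmersion.of_comp η[I].left I.hom
      have : Surjective η[I].left := ⟨fun x => ⟨IsLocalRing.closedPoint k, Subsingleton.elim _ _⟩⟩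
      have : IsIso η[I].left :=
        isIso_of_isClosedImmersion_of_surjective η[I].left
      rw [Hom.one_def, Over.comp_left, Over.id_left, ← cancel_epi η[I].left, ← Category.assoc,
        ← Over.comp_left, toUnit_unique (η[I] ≫ toUnit I) (𝟙 _), Over.id_left, Category.id_comp,
        Category.comp_id]
    rw [← Category.comp_id g, hI, MonObj.comp_one, MonObj.one_comp]
  · have : IsIso i.left := inferInstanceAs (IsIso ((Over.forget _).map i))
    have : Surjective (g ≫ i).left := by rw [Over.comp_left]; infer_instance
    set f := g ≫ i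
    have : IsMonHom f := inferInstance
    have := Groth.Abvar.Hom.flat_of_surjective f
    have := Groth.Abvar.Hom.isFinite_of_flat f rfl
    have := Groth.AlgGrp1.lfp_left f
    set n := Scheme.Hom.finrank f.left (η[A].left (IsLocalRing.closedPoint k)) with hn
    have hdeg : ∀ s : ↥(Spec (CommRingCat.of k)), Scheme.Hom.finrank f.left (η[A].left s) = n :=
      fun s => by rw [hn, Subsingleton.elim s (IsLocalRing.closedPoint k)]
    have hn0 : 0 < n := by
      rw [hn]
      exact (Scheme.Hom.one_le_finrank_iff_surjective f.left).2 ‹_› _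
    have : IsMonHom (𝟙 A ^ n : A ⟶ A) := by rw [← zpow_natCast]; infer_instance
    obtain ⟨ψ, hψ, hfψ⟩ := exists_factor_of_flat f (𝟙 A ^ n : A ⟶ A)
      (kills_kernel_pow f n hdeg)
    refine ⟨n, ψ, hn0, hψ, hfψ, ?_⟩
    have := epi_of_flat_surjective f
    rw [← cancel_epi f, ← Category.assoc, hfψ, MonObj.pow_comp, Category.id_comp, MonObj.comp_pow,
      Category.comp_id]

end Groth.AbVarMul
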