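import Groth.Agent.AbvarAlb.SteinHom
import Groth.Agent.AlgGrpAb.Category
import Groth.Agent.AbVarMul.SimpleIsogeny
import Groth.Agent.AbVarMul.FrobWeil
import Groth.Agent.Abvar.Cube.AnyBase
import Mathlib.RingTheory.Artinian.Module
import Mathlib.RingTheory.Jacobson.Semiprimary

/-!
# Semisimplicity of `End⁰(A)` from Poincaré reducibility
-/

set_option autoImplicit false
universe u

open CategoryTheory Limits MonoidalCategory CartesianMonoidalCategory MonObj GrpObj AlgebraicGeometry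
open AbVar
open TensorProduct (tmul)
open scoped TensorProduct

namespace Groth.AbVarMul

variable {k : Type u} [Field k]

/-- An isogeny has a quasi-inverse. -/
theorem exists_quasi_inverse {A B : Over (Spec (CommRingCat.of k))} [GrpObj A] [IsProper A.hom]
    [GeometricallyIntegral A.hom] [GrpObj B] [IsProper B.hom] [GeometricallyIntegral B.hom]
    (f : A ⟶ B) [IsMonHom f] [IsFinite f.left] [Surjective f.left] :
    ∃ (n : ℕ) (ψ : B ⟶ A), 0 < n ∧ IsMonHom ψ ∧ f ≫ ψ = 𝟙 A ^ n ∧ ψ ≫ f = 𝟙 B ^ n := by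
  have := GrpschAbsch.isCommMonObj_of_isProper A
  have := GrpschAbsch.isCommMonObj_of_isProper B
  have := Groth.Abvar.isIntegral_left A
  have := Groth.Abvar.isIntegral_left B
  have := Groth.Abvar.Hom.flat_of_surjective f
  have := Groth.AlgGrp1.lfp_left f
  set n := Scheme.Hom.finrank f.left (η[B].left (IsLocalRing.closedPoint k)) with hn
  have hdeg : ∀ s : ↥(Spec (CommRingCat.of k)), Scheme.Hom.finrank f.left (η[B].left s) = n :=
    fun s => by rw [hn, Subsingleton.elim s (IsLocalRing.closedPoint k)]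
  have hn0 : 0 < n := by
    rw [hn]
    exact (Scheme.Hom.one_le_finrank_iff_surjective f.left).2 ‹_› _
  have : IsMonHom (𝟙 A ^ n : A ⟶ A) := by rw [← zpow_natCast]; infer_instance
  obtain ⟨ψ, hψ, hfψ⟩ := exists_factor_of_flat f (𝟙 A ^ n : A ⟶ A) (kills_kernel_pow f n hdeg)
  refine ⟨n, ψ, hn0, hψ, hfψ, ?_⟩
  have := epi_of_flat_surjective f
  rw [← cancel_epi f, ← Category.assoc, hfψ, MonObj.pow_comp, Category.id_comp, MonObj.comp_pow,
    Category.comp_id]

/-- Poincaré's complete reducibility over `k`. -/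
def Poincare (k : Type u) [Field k] : Prop :=
  ∀ (A B : Over (Spec (CommRingCat.of k))) [GrpObj A] [IsProper A.hom] [GeometricallyIntegral A.hom]
    [GrpObj B] [IsProper B.hom] [GeometricallyIntegral B.hom]
    (i : B ⟶ A) [IsMonHom i] [IsClosedImmersion i.left],
    ∃ (C : Over (Spec (CommRingCat.of k))) (_ : GrpObj C) (j : C ⟶ A), IsProper C.hom ∧
      GeometricallyIntegral C.hom ∧ IsMonHom j ∧ IsClosedImmersion j.left ∧
      Surjective ((fst B C ≫ i) * (snd B C ≫ j)).left ∧ IsFinite ((fst B C ≫ i) * (snd B C ≫ j)).left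

theorem isMonHom_sum {A B C : Over (Spec (CommRingCat.of k))} [GrpObj A] [IsCommMonObj A] [GrpObj B]
    [GrpObj C] (i : B ⟶ A) [IsMonHom i] (j : C ⟶ A) [IsMonHom j] :
    IsMonHom ((fst B C ≫ i) * (snd B C ≫ j)) :=
  Groth.AlgGrpAb.isMonHom_mul _ _

set_option maxHeartbeats 800000 in
/-- **`End(A)` is regular up to isogeny.** -/
theorem exists_regular (hP : Poincare k) {A : Over (Spec (CommRingCat.of k))} [GrpObj A]
    [IsCommMonObj A] [IsProper A.hom] [GeometricallyIntegral A.hom] (f : A ⟶ A) [IsMonHom f] :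
    ∃ (n : ℕ) (G : A ⟶ A), 0 < n ∧ IsMonHom G ∧ f ≫ G ≫ f = f ^ n := by
  obtain ⟨C₀, Q, _, _, i₀, q, g, hC₀p, hC₀g, hQp, hQg, _, _, _, _, hqf, hqs, hker, hgfin, rfl⟩ :=
    AbvarAlb.exists_stein f
  have := hC₀p; have := hC₀g; have := hQp; have := hQg
  have := GrpschAbsch.isCommMonObj_of_isProper Q
  -- the image of `g`
  obtain ⟨I, _, i, p, _, _, _, hps, hpi, hIp, hIg⟩ := AbvarAlb.exists_image_of_proper g
  subst hpi
  have := hIp; have := hIg
  have := GrpschAbsch.isCommMonObj_of_isProper I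
  have : IsFinite p.left := by
    have : IsFinite (p.left ≫ i.left) := hgfin
    exact IsFinite.of_comp p.left i.left
  obtain ⟨M, p', hM, _, hpp', -⟩ := exists_quasi_inverse p
  -- complement of the image
  obtain ⟨C, _, j', hCp, hCg, _, _, hs2, hs2'⟩ := hP A I i
  have := hCp; have := hCg
  have := GrpschAbsch.isCommMonObj_of_isProper C
  have : GeometricallyIntegral (I ⊗ C).hom := Groth.Abvar.Cube.geometricallyIntegral_tensor I C
  have : IsProper (I ⊗ C).hom := inferInstanceAs (IsProper (pullback.fst I.hom C.hom ≫ I.hom))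
  have : IsMonHom ((fst I C ≫ i) * (snd I C ≫ j')) := isMonHom_sum i j'
  obtain ⟨N, ψ, hN, _, hsψ, -⟩ := exists_quasi_inverse ((fst I C ≫ i) * (snd I C ≫ j'))
  let r : A ⟶ I := ψ ≫ fst I C
  have hir : i ≫ r = 𝟙 I ^ N := by
    have h1 : lift (𝟙 I) 1 ≫ ((fst I C ≫ i) * (snd I C ≫ j')) = i := by
      rw [MonObj.comp_mul, lift_fst_assoc, lift_snd_assoc, Category.id_comp, MonObj.one_comp,
        _root_.mul_one]
    calc i ≫ r = (lift (𝟙 I) 1 ≫ ((fst I C ≫ i) * (snd I C ≫ j')) ≫ ψ) ≫ fst I C := by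
          rw [← Category.assoc (lift (𝟙 I) (1 : I ⟶ C)), h1, Category.assoc]
      _ = 𝟙 I ^ N := by
          rw [hsψ, Category.assoc, MonObj.pow_comp, Category.id_comp, MonObj.comp_pow, lift_fst]
  -- complement of the connected kernel
  obtain ⟨D, _, j, hDp, hDg, _, _, hs1, hs1'⟩ := hP A C₀ i₀
  have := hDp; have := hDg
  have := GrpschAbsch.isCommMonObj_of_isProper D
  have := GrpschAbsch.isCommMonObj_of_isProper C₀
  have : IsMonHom ((fst C₀ D ≫ i₀) * (snd C₀ D ≫ j)) := isMonHom_sum i₀ j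
  have : Surjective (j ≫ q).left := by
    have h1 : ((fst C₀ D ≫ i₀) * (snd C₀ D ≫ j)) ≫ q = snd C₀ D ≫ j ≫ q := by
      rw [MonObj.mul_comp, Category.assoc, AlgGrp1.IsKernel.comp_eq_one hker, MonObj.comp_one,
        _root_.one_mul, Category.assoc]
    refine @Surjective.of_comp _ _ _ (snd C₀ D).left (j ≫ q).left ?_
    rw [← Over.comp_left, ← h1, Over.comp_left]
    infer_instance
  have : IsFinite (j ≫ q).left := by
    let K := AlgebraicClosure k
    refine AbvarAlb.isFinite_of_finite_ker_bc K (j ≫ q) ?_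
    have : IsProper (C₀ ⊗ D).hom := inferInstanceAs (IsProper (pullback.fst C₀.hom D.hom ≫ C₀.hom))
    have : GeometricallyIntegral (C₀ ⊗ D).hom := Groth.Abvar.Cube.geometricallyIntegral_tensor C₀ D
    have hfin := finite_ker_bc K ((fst C₀ D ≫ i₀) * (snd C₀ D ≫ j))
    refine (hfin.image fun z => z ≫ snd C₀ D).subset ?_
    intro x hx
    obtain ⟨y, hy⟩ := AlgGrp1.IsKernel.exists_lift hker (x ≫ j) (by rw [Category.assoc]; exact hx)
    refine ⟨lift y⁻¹ x, ?_, lift_snd _ _⟩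
    show lift y⁻¹ x ≫ _ = 1
    rw [MonObj.comp_mul, lift_fst_assoc, lift_snd_assoc, GrpObj.inv_comp, hy, inv_mul_cancel]
  obtain ⟨L, h, hL, _, -, hhq⟩ := exists_quasi_inverse (j ≫ q)
  have : IsMonHom r := inferInstanceAs (IsMonHom (ψ ≫ fst I C))
  refine ⟨N * M * L, r ≫ p' ≫ h ≫ j, Nat.mul_pos (Nat.mul_pos hN hM) hL, inferInstance, ?_⟩
  calc (q ≫ p ≫ i) ≫ (r ≫ p' ≫ h ≫ j) ≫ q ≫ p ≫ i
      = q ≫ p ≫ (i ≫ r) ≫ p' ≫ (h ≫ j ≫ q) ≫ p ≫ i := by simp only [Category.assoc]
    _ = (q ≫ p ≫ i) ^ (N * M * L) := by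
        rw [hir, hhq]
        simp only [MonObj.pow_comp, MonObj.comp_pow, Category.id_comp]
        rw [reassoc_of% hpp']
        simp only [MonObj.pow_comp, MonObj.comp_pow, Category.id_comp, ← pow_mul]
        rw [show M * N * L = N * M * L by ring]

/-- **Semisimplicity of `End⁰(A)`.** -/
theorem isSemisimpleRing_end0 (hP : Poincare k) (A : Over (Spec (CommRingCat.of k))) [GrpObj A]
    [IsCommMonObj A] [IsProper A.hom] [GeometricallyIntegral A.hom] :
    IsSemisimpleRing (EndAV.End0 A) := by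
  obtain ⟨g, hg⟩ := Groth.FibreDim.exists_dim_eq_nat A
  have : Module.Finite ℤ (EndAV.End A) := (free_finite_hom (A := A) (B := A) hg hg).2.1
  have : Module.Finite ℚ (EndAV.End0 A) := Module.Finite.base_change ℤ ℚ (EndAV.End A)
  have : IsArtinianRing (EndAV.End0 A) := IsArtinianRing.of_finite ℚ _
  rw [IsArtinianRing.isSemisimpleRing_iff_jacobson, eq_bot_iff]
  intro x hx
  rw [Submodule.mem_bot]
  obtain ⟨n, a, hn, ha⟩ := exists_int_smul_eq_tmul x
  obtain ⟨m, G, hm, hG, hreg⟩ := exists_regular hP a.toHom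
  have hrel : a * EndAV.End.of G * a = (m : EndAV.End A) * a := by
    refine EndAV.End.ext ?_
    rw [← nsmul_eq_mul, EndAV.End.toHom_nsmul, EndAV.End.toHom_mul, EndAV.End.toHom_mul,
      EndAV.End.toHom_of]
    exact hreg
  have hrel0 : EndAV.toEnd0 a * EndAV.toEnd0 (EndAV.End.of G) * EndAV.toEnd0 a =
      (m : ℤ) • EndAV.toEnd0 a := by
    rw [← map_mul, ← map_mul, hrel, map_mul, map_natCast, natCast_zsmul, nsmul_eq_mul]
  have hmQ : (m : ℚ) ≠ 0 := Nat.cast_ne_zero.2 hm.ne'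
  set b := EndAV.toEnd0 a with hb
  set e := (m : ℚ)⁻¹ • (EndAV.toEnd0 (EndAV.End.of G) * b) with he
  have hbe : b * e = b := by
    rw [he, mul_smul_comm, ← _root_.mul_assoc, hrel0,
      show (m : ℤ) • b = (m : ℚ) • b by rw [← Int.cast_smul_eq_zsmul ℚ, Int.cast_natCast], smul_smul, inv_mul_cancel₀ hmQ, one_smul]
  have hbJ : b ∈ Ring.jacobson (EndAV.End0 A) := by
    have hb' : b = n • x := by rw [hb, EndAV.toEnd0_apply, ha]
    rw [hb']
    exact zsmul_mem hx n
  have heJ : e ∈ Ring.jacobson (EndAV.End0 A) := by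
    rw [he, ← smul_mul_assoc]
    exact Ideal.mul_mem_left _ _ hbJ
  have hee : IsIdempotentElem e := by
    show e * e = e
    conv_lhs => arg 1; rw [he]
    rw [smul_mul_assoc, _root_.mul_assoc, hbe, ← he]
  have he0 : e = 0 := by
    obtain ⟨N, hN⟩ := (IsSemiprimaryRing.isNilpotent : IsNilpotent (Ring.jacobson (EndAV.End0 A)))
    exact hee.eq_zero_of_isNilpotent ⟨N, by
      have := Ideal.pow_mem_pow heJ N
      rwa [hN, Ideal.zero_eq_bot, Ideal.mem_bot] at this⟩
  have hb0 : b = 0 := by rw [← hbe, he0, mul_zero]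
  have h2 : (n : ℚ) • x = 0 := by rw [Int.cast_smul_eq_zsmul, ha, ← EndAV.toEnd0_apply]; exact hb0
  have h3 := congrArg (fun y : EndAV.End0 A => (n : ℚ)⁻¹ • y) h2
  simpa only [smul_smul, inv_mul_cancel₀ (Int.cast_ne_zero.2 hn : (n : ℚ) ≠ 0), one_smul, smul_zero] using h3

end Groth.AbVarMul
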