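import Groth.Agent.AbVarMul.Relative
import Groth.Agent.AbSchBiext.Divisible
import Groth.Agent.AbSchBiext.Bilinear
import Groth.Agent.GrpschAbsch.FibreFlat
import Groth.Prelude.Def_CGrpSh

/-!
# Abelian schemes are divisible as fppf sheaves
-/

universe u

open CategoryTheory Limits MonoidalCategory CartesianMonoidalCategory MonObj GrpObj AlgebraicGeometry
  Opposite

namespace Groth.AbVarMul

variable {S : Scheme.{u}} {G H : Over S} [GrpObj G] [IsCommMonObj G] [GrpObj H] [IsCommMonObj H]

/-- An fppf surjective homomorphism induces an epimorphism of fppf sheaves of points. -/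
theorem epi_ptsMap (f : G ⟶ H) [IsMonHom f] [Surjective f.left] [Flat f.left]
    [LocallyOfFinitePresentation f.left] : Epi (CGrpSh.ptsMap Scheme.fppfPrecoverage f) := by
  refine (Sheaf.isLocallySurjective_iff_epi' (φ := CGrpSh.ptsMap Scheme.fppfPrecoverage f)).1 ?_
  constructor
  intro T x
  rw [GrothendieckTopology.mem_over_iff]
  refine GrothendieckTopology.superset_covering _ ?_
    (Precoverage.generate_mem_toGrothendieck
      (pullback.fst x.down.toMul.left f.left).singleton_mem_fppfPrecoverage)
  rw [Sieve.generate_le_iff]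
  rintro _ _ ⟨⟩
  rw [Sieve.overEquiv_iff]
  refine ⟨ULift.up (Additive.ofMul (Over.homMk (pullback.snd x.down.toMul.left f.left) ?_)), ?_⟩
  · change pullback.snd x.down.toMul.left f.left ≫ G.hom = pullback.fst x.down.toMul.left f.left ≫ T.hom
    rw [← Over.w f, ← pullback.condition_assoc, Over.w]
  · apply ULift.ext
    refine congrArg Additive.ofMul ?_
    apply Over.OverMorphism.ext
    exact pullback.condition.symm

/-- Multiplication by a nonzero integer is an epimorphism of the sheaf of points of an abelian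
scheme. -/
theorem epi_zsmul_pts (A : Over S) [GrpObj A] [IsCommMonObj A] [Smooth A.hom] [IsProper A.hom]
    (hA : ∀ s : S, ConnectedSpace ↥(A.hom.fiber s)) {n : ℤ} (hn : n ≠ 0) :
    Epi (n • 𝟙 (CGrpSh.pts Scheme.fppfPrecoverage A)) := by
  have := Groth.AbSchBiext.geometricallyConnected_of_unit A hA
  have := Groth.GrpschAbsch.FibreFlat.geometricallyReduced_of_smooth A.hom
  obtain ⟨h1, h2, h3⟩ := isogeny_zpow_absch (X := A) hn
  have : LocallyOfFinitePresentation ((𝟙 A ^ n : A ⟶ A).left ≫ A.hom) := by
    rw [Over.w]; infer_instance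
  have : LocallyOfFinitePresentation (𝟙 A ^ n : A ⟶ A).left :=
    Groth.SpectralTopology.lfp_of_comp _ A.hom
  have he := epi_ptsMap (𝟙 A ^ n : A ⟶ A)
  have e : (n • 𝟙 (CGrpSh.pts Scheme.fppfPrecoverage A)) =
      CGrpSh.ptsMap Scheme.fppfPrecoverage (𝟙 A ^ n : A ⟶ A) := by
    refine Sheaf.hom_ext (NatTrans.ext (funext fun T => AddCommGrpCat.ext fun x => ?_))
    refine (Groth.AbSchBiext.zsmul_id_app (CGrpSh.pts Scheme.fppfPrecoverage A) n T.unop x).trans ?_
    apply ULift.ext
    change n • x.down = Additive.ofMul (x.down.toMul ≫ (𝟙 A ^ n : A ⟶ A))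
    rw [GrpObj.comp_zpow, Category.comp_id]
    rfl
  rw [e]; exact he

end Groth.AbVarMul
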