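import Groth.Agent.GrpschAbsch.Tangent
import Groth.Agent.NeronArea.WeilExtensionBase
import Groth.Agent.FibreDim.DimStalk
import Mathlib.RingTheory.RegularLocalRing.Defs

/-!
# The tangent space of a smooth curve at a rational point is one dimensional
-/

universe u

open CategoryTheory Limits MonoidalCategory CartesianMonoidalCategory MonObj GrpObj AlgebraicGeometry
  TrivSqZeroExt IsLocalRing
open Groth.GrpschAbsch

namespace Groth.AbVarMul

variable {k : Type u} [Field k]

instance isLocalRing_tsze : IsLocalRing (TrivSqZeroExt k k) :=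
  IsLocalRing.of_isUnit_or_isUnit_one_sub_self fun t ↦
    (IsLocalRing.isUnit_or_isUnit_one_sub_self (TrivSqZeroExt.fst t)).imp
      TrivSqZeroExt.isUnit_iff_isUnit_fst.mpr
      (fun h ↦ TrivSqZeroExt.isUnit_iff_isUnit_fst.mpr (by
        rwa [TrivSqZeroExt.fst_sub, TrivSqZeroExt.fst_one]))

theorem exists_scale_eq {X : Over (Spec (CommRingCat.of k))} [Smooth X.hom]
    (hX : topologicalKrullDim X.left ≤ 1) (x : specOver k k ⟶ X)
    (z₀ z : specOver k (TrivSqZeroExt k k) ⟶ X) (h₀ : base ≫ z₀ = x) (h : base ≫ z = x)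
    (hne : z₀ ≠ specOverMap (Algebra.ofId k (TrivSqZeroExt k k)) ≫ x) :
    ∃ c : k, scale c ≫ z₀ = z := by
  let e := x.left (closedPoint k)
  let A : Type u := X.left.presheaf.stalk e
  have := Groth.NeronArea.Weil.isRegularLocalRing_of_smooth_dedekind (R := k) X.hom e
  obtain ⟨π, hπm, hπ⟩ : ∃ π : A, π ∈ maximalIdeal A ∧ maximalIdeal A ≤ Ideal.span {π} := by
    have hd : ringKrullDim A ≤ 1 :=
      ((le_iSup (fun y : X.left => ringKrullDim (X.left.presheaf.stalk y)) e).trans
        (Groth.FibreDim.dim_eq_iSup_stalk X.left).ge).trans hX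
    have h1 : (maximalIdeal A).spanFinrank ≤ 1 := by
      have := IsRegularLocalRing.spanFinrank_maximalIdeal (R := A)
      rw [← this] at hd
      exact_mod_cast hd
    have hfg : (maximalIdeal A).FG := IsNoetherian.noetherian _
    obtain ⟨s, hscard, hs, hsub⟩ : ∃ s : Finset A, s.card ≤ 1 ∧ maximalIdeal A ≤ Ideal.span (s : Set A) ∧
        ∀ a ∈ s, a ∈ maximalIdeal A := by
      classical
      have hfin := Submodule.FG.finite_generators hfg
      refine ⟨hfin.toFinset, ?_, ?_, fun a ha => ?_⟩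
      · rw [← Set.ncard_eq_toFinset_card _ hfin, Submodule.FG.generators_ncard hfg]
        exact h1
      · rw [hfin.coe_toFinset]
        exact (Submodule.span_generators (maximalIdeal A)).ge
      · rw [Set.Finite.mem_toFinset] at ha
        exact (Submodule.span_generators (maximalIdeal A)).le (Submodule.subset_span ha)
    obtain ⟨π, hπm, hπ⟩ : ∃ π ∈ maximalIdeal A, (s : Set A) ∩ (maximalIdeal A : Set A) ⊆ {π} := by
      by_cases hsm : ∃ π ∈ s, π ∈ maximalIdeal A
      · obtain ⟨π, hπs, hπm⟩ := hsm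
        exact ⟨π, hπm, fun a ha => Finset.card_le_one.1 hscard a ha.1 π hπs⟩
      · exact ⟨0, zero_mem _, fun a ha => absurd ⟨a, ha.1, ha.2⟩ hsm⟩
    exact ⟨π, hπm, hs.trans (Ideal.span_le.2 fun a ha => Ideal.subset_span (hπ ⟨ha, hsub a ha⟩))⟩
  -- the stalk as an algebra
  let ι₀ : CommRingCat.of k ⟶ X.left.presheaf.stalk e :=
    Spec.preimage (X.left.fromSpecStalk e ≫ X.hom)
  let : Algebra k A := ι₀.hom.toAlgebra
  have hι : Spec.map (CommRingCat.ofHom (algebraMap k A)) = X.left.fromSpecStalk e ≫ X.hom :=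
    Spec.map_preimage _
  let j : specOver k A ⟶ X := Over.homMk (X.left.fromSpecStalk e) hι.symm
  have hpt : ∀ w : specOver k (TrivSqZeroExt k k) ⟶ X, base ≫ w = x →
      w.left (closedPoint (TrivSqZeroExt k k)) = e := by
    intro w hw
    have hh : (base (k := k)).left (closedPoint k) = closedPoint (TrivSqZeroExt k k) :=
      @Subsingleton.elim _ (subsingleton_spec_tsze k k) _ _
    rw [← hh, ← Scheme.Hom.comp_apply]
    exact congr(($hw).left (closedPoint k))
  have hfac : ∀ w : specOver k (TrivSqZeroExt k k) ⟶ X, base ≫ w = x →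
      ∃ φ : A →ₐ[k] TrivSqZeroExt k k, specOverMap φ ≫ j = w := by
    intro w hw
    obtain ⟨φ, hφ⟩ := exists_factor_stalk (R := CommRingCat.of (TrivSqZeroExt k k)) w.left (hpt w hw)
    have hc : ι₀ ≫ φ = CommRingCat.ofHom (algebraMap k (TrivSqZeroExt k k)) := Spec.map_injective (by
      rw [Spec.map_comp, show Spec.map ι₀ = X.left.fromSpecStalk e ≫ X.hom from Spec.map_preimage _,
        ← Category.assoc, hφ]
      exact Over.w w)
    exact ⟨{ φ.hom with commutes' := fun c => congr(($hc).hom c) }, Over.OverMorphism.ext hφ⟩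
  obtain ⟨φ₀, rfl⟩ := hfac z₀ h₀
  obtain ⟨φ, rfl⟩ := hfac z h
  -- reduction
  have hres : ∀ ψ : A →ₐ[k] TrivSqZeroExt k k, base ≫ specOverMap ψ ≫ j = x →
      ∀ a, (ψ a).fst = 0 ↔ a ∈ maximalIdeal A := by
    intro ψ _ a
    have hker : RingHom.ker ((fstHom k k k).comp ψ).toRingHom = maximalIdeal A :=
      IsLocalRing.eq_maximalIdeal (RingHom.ker_isMaximal_of_surjective _ fun c =>
        ⟨algebraMap k A c, ((fstHom k k k).comp ψ).commutes c⟩)
    rw [← hker]
    rfl
  have hfst : ∀ a, (φ a).fst = (φ₀ a).fst := by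
    intro a
    have h1 := (hres φ h (a - algebraMap k A ((φ₀ a).fst))).2 ((hres φ₀ h₀ _).1 (by
      rw [map_sub, AlgHom.commutes]; simp [TrivSqZeroExt.algebraMap_eq_inl]))
    rw [map_sub, AlgHom.commutes] at h1
    simpa [TrivSqZeroExt.algebraMap_eq_inl, sub_eq_zero] using h1
  have hπ0 : ∀ ψ : A →ₐ[k] TrivSqZeroExt k k, base ≫ specOverMap ψ ≫ j = x → ∀ a, (ψ a).fst = 0 →
      ∃ u : A, a = u * π := by
    intro ψ hψ a ha
    obtain ⟨u, hu⟩ := Ideal.mem_span_singleton'.1 (hπ ((hres ψ hψ a).1 ha))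
    exact ⟨u, hu.symm⟩
  -- the tangent vector on `π`
  have hπf : (φ₀ π).fst = 0 → (φ π).fst = 0 := fun hh => (hfst π).trans hh
  have hunit : (φ₀ π).fst = 0 := (hres φ₀ h₀ π).2 hπm
  by_cases hz : (φ₀ π).snd = 0
  · exfalso
    refine hne ?_
    rw [← h₀, ← Category.assoc, ← Category.assoc]
    show specOverMap φ₀ ≫ j = _
    congr 1
    simp only [base, specOverMap_comp]
    refine specOverMap_congr fun a => ?_
    have : φ₀ a = inl (φ₀ a).fst := by
      obtain ⟨u, hu⟩ := hπ0 φ₀ h₀ (a - algebraMap k A (φ₀ a).fst)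
        (by rw [map_sub, AlgHom.commutes]; simp [TrivSqZeroExt.algebraMap_eq_inl])
      have hh := congrArg φ₀ hu
      rw [map_sub, AlgHom.commutes, map_mul, show φ₀ π = 0 from TrivSqZeroExt.ext hunit hz, mul_zero,
        sub_eq_zero, TrivSqZeroExt.algebraMap_eq_inl] at hh
      exact hh
    simpa [Algebra.ofId_apply, TrivSqZeroExt.algebraMap_eq_inl] using this
  · refine ⟨(φ π).snd / (φ₀ π).snd, ?_⟩
    rw [← Category.assoc]
    congr 1
    simp only [scale, specOverMap_comp]
    refine specOverMap_congr fun a => ?_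
    obtain ⟨u, hu⟩ := hπ0 φ₀ h₀ (a - algebraMap k A (φ₀ a).fst)
      (by rw [map_sub, AlgHom.commutes]; simp [TrivSqZeroExt.algebraMap_eq_inl])
    rw [sub_eq_iff_eq_add] at hu
    refine TrivSqZeroExt.ext ?_ ?_
    · simpa using (hfst a).symm
    · conv_lhs => rw [hu]
      conv_rhs => rw [hu]
      simp only [AlgHom.comp_apply, map_add, map_mul, AlgHom.commutes, TrivSqZeroExt.snd_add,
        TrivSqZeroExt.snd_mul, hπf hunit, TrivSqZeroExt.algebraMap_eq_inl]
      simp [hfst u]
      field_simp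
      rw [hunit]
      ring

end Groth.AbVarMul
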