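import Groth.Agent.AbVarMul.GaloisQuot
import Groth.Agent.AbVarMul.HomLattice
import Groth.Agent.AbVarMul.DegPolyApps
import Groth.Agent.Abvar.Rigidity
import Mathlib.RingTheory.Filtration
import Mathlib.NumberTheory.Padics.ProperSpace

/-!
# Tate's argument: finiteness of isogeny classes makes stable lattices images of endomorphisms
-/

set_option autoImplicit false
universe u

open CategoryTheory Limits MonoidalCategory CartesianMonoidalCategory MonObj GrpObj AlgebraicGeometry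
open AbDual Filter

namespace Groth.AbVarMul

section Algebra

variable {l : ℕ} [Fact l.Prime]

/-- A submodule of a finite `ℤ_[l]`-module is closed. -/
theorem mem_of_forall_mem_add_pow {M : Type*} [AddCommGroup M] [Module ℤ_[l] M]
    [Module.Finite ℤ_[l] M] (N : Submodule ℤ_[l] M) (x : M)
    (h : ∀ n : ℕ, ∃ y : M, x - (l : ℤ_[l]) ^ n • y ∈ N) : x ∈ N := by
  have hI : Ideal.span {(l : ℤ_[l])} ≠ ⊤ := by
    rw [Ne, Ideal.span_singleton_eq_top]
    exact PadicInt.p_nonunit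
  have hb := Ideal.iInf_pow_smul_eq_bot_of_isLocalRing (M := M ⧸ N) (Ideal.span {(l : ℤ_[l])}) hI
  rw [← Submodule.Quotient.mk_eq_zero, ← Submodule.mem_bot ℤ_[l], ← hb, Submodule.mem_iInf]
  intro n
  obtain ⟨y, hy⟩ := h n
  rw [(Submodule.Quotient.eq N).2 hy, Submodule.Quotient.mk_smul]
  exact Submodule.smul_mem_smul (Ideal.pow_mem_pow (Ideal.mem_span_singleton_self _) n) trivial

/-- Integer vectors have subsequences converging `l`-adically. -/
theorem exists_subseq_congr {r : ℕ} (c : ℕ → Fin r → ℤ) :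
    ∃ (φ : ℕ → ℕ) (b : Fin r → ℤ_[l]), StrictMono φ ∧
      ∀ N : ℕ, ∀ᶠ j in atTop, ∀ i, ∃ y : ℤ_[l], b i - (c (φ j) i : ℤ_[l]) = (l : ℤ_[l]) ^ N * y := by
  obtain ⟨b, -, φ, hφ, hlim⟩ :=
    (isCompact_univ (X := Fin r → ℤ_[l])).tendsto_subseq (x := fun n i => (c n i : ℤ_[l]))
      fun n => Set.mem_univ _
  refine ⟨φ, b, hφ, fun N => ?_⟩
  rw [eventually_all]
  intro i
  have hi := tendsto_pi_nhds.1 hlim i
  have hlp : (0 : ℝ) < l := by exact_mod_cast (Fact.out : l.Prime).pos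
  have hε : (0 : ℝ) < (l : ℝ) ^ (-(N : ℤ)) := zpow_pos hlp _
  filter_upwards [Metric.tendsto_nhds.1 hi _ hε] with j hj
  have h := (PadicInt.norm_le_pow_iff_mem_span_pow (b i - (c (φ j) i : ℤ_[l])) N).1 (by
    rw [← dist_eq_norm, dist_comm]; exact hj.le)
  exact Ideal.mem_span_singleton'.1 h |>.imp fun y hy => by rw [← hy, _root_.mul_comm]

end Algebra

variable {k : Type u} [Field k] {Ω : Type u} [Field Ω] [Algebra k Ω] [IsAlgClosure k Ω]
  {l : ℕ} [Fact l.Prime] {X : Over (Spec (CommRingCat.of k))} [GrpObj X] [IsCommMonObj X]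
  [IsProper X.hom] [GeometricallyIntegral X.hom]

local notation "Ω₀" => (SGA7.pt (K := k) Ω)
local notation "T[" A "]" => TateMod A l (SGA7.pt (K := k) Ω)

omit [IsAlgClosure k Ω] [IsProper X.hom] [GeometricallyIntegral X.hom] in
/-- An element of the Tate module with vanishing `n`-th component is divisible by `l ^ n`. -/
theorem exists_eq_pow_smul (z : T[X]) (n : ℕ) (h : TateMod.component X l Ω₀ n z = 0) :
    ∃ w : T[X], z = (l : ℤ_[l]) ^ n • w := by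
  refine ⟨⟨fun m => (z : ℕ → Additive (Ω₀ ⟶ X)) (m + n), fun m => ?_, fun m => ?_⟩, ?_⟩
  · show (l ^ m) • (z : ℕ → Additive (Ω₀ ⟶ X)) (m + n) = 0
    rw [Nat.add_comm m n, nsmul_component_add]
    exact h
  · show l • (z : ℕ → Additive (Ω₀ ⟶ X)) (m + 1 + n) = _
    rw [show m + 1 + n = (m + n) + 1 by omega, z.compat]
  · refine TateMod.ext fun m => ?_
    rw [← Nat.cast_pow, component_natCast_smul]
    exact (nsmul_component_add z m n).symm

omit [IsAlgClosure k Ω] [IsProper X.hom] [GeometricallyIntegral X.hom] in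
theorem pow_smul_left_cancel {z w : T[X]} (n : ℕ)
    (h : (l : ℤ_[l]) ^ n • z = (l : ℤ_[l]) ^ n • w) : z = w := by
  refine sub_eq_zero.1 (eq_zero_of_nsmul (z - w) n ?_)
  rw [← Nat.cast_smul_eq_nsmul ℤ_[l], Nat.cast_pow, smul_sub, h, sub_self]

omit [IsAlgClosure k Ω] [IsProper X.hom] [GeometricallyIntegral X.hom] in
theorem tateMap_comp' {Y Z : Over (Spec (CommRingCat.of k))} [GrpObj Y] [IsCommMonObj Y] [GrpObj Z]
    [IsCommMonObj Z] (f : X ⟶ Y) [IsMonHom f] (g : Y ⟶ Z) [IsMonHom g] (z : T[X]) :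
    tateMapₗ (l := l) (T := Ω₀) (f ≫ g) z = tateMapₗ (l := l) (T := Ω₀) g (tateMapₗ f z) :=
  TateMod.ext fun _ => congrArg Additive.ofMul (Category.assoc _ _ _).symm

omit [IsAlgClosure k Ω] [IsProper X.hom] [GeometricallyIntegral X.hom] in
theorem tateMap_pow (m : ℕ) [IsMonHom (𝟙 X ^ m : X ⟶ X)] (z : T[X]) :
    tateMapₗ (l := l) (T := Ω₀) (𝟙 X ^ m : X ⟶ X) z = (m : ℤ_[l]) • z := by
  refine TateMod.ext fun n => ?_
  rw [component_natCast_smul]
  show Additive.ofMul (_ ≫ (𝟙 X ^ m : X ⟶ X)) = _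
  rw [MonObj.comp_pow, Category.comp_id]
  rfl

omit [IsProper X.hom] [GeometricallyIntegral X.hom] [IsAlgClosure k Ω] in
/-- The image of the Tate module of a quotient: the elements whose `n`-th component lies in the
kernel. -/
theorem range_tateMap_of_quotient {Y : Over (Spec (CommRingCat.of k))} [GrpObj Y] [IsCommMonObj Y]
    (q : X ⟶ Y) [IsMonHom q] (v : Y ⟶ X) [IsMonHom v] (n : ℕ)
    (hqv : q ≫ v = (𝟙 X : X ⟶ X) ^ (l ^ n)) (hvq : v ≫ q = (𝟙 Y : Y ⟶ Y) ^ (l ^ n)) (z : T[X]) :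
    z ∈ LinearMap.range (tateMapₗ (l := l) (T := Ω₀) v) ↔
      (TateMod.component X l Ω₀ n z).toMul ≫ q = 1 := by
  constructor
  · rintro ⟨w, rfl⟩
    show ((TateMod.component Y l Ω₀ n w).toMul ≫ v) ≫ q = 1
    rw [Category.assoc, hvq, MonObj.comp_pow, Category.comp_id]
    exact TateMod.component_mem w n
  · intro h
    obtain ⟨w, hw⟩ := exists_eq_pow_smul (X := Y) (tateMapₗ (l := l) (T := Ω₀) q z) n
      (congrArg Additive.ofMul h)
    refine ⟨w, pow_smul_left_cancel n ?_⟩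
    rw [← map_smul, ← hw, ← tateMap_comp']
    have : IsMonHom (𝟙 X ^ (l ^ n) : X ⟶ X) := hqv ▸ inferInstance
    rw [show tateMapₗ (l := l) (T := Ω₀) (q ≫ v) z = tateMapₗ (l := l) (T := Ω₀) (𝟙 X ^ (l ^ n) : X ⟶ X) z by
      simp only [hqv], tateMap_pow, Nat.cast_pow]

variable (X) in
/-- Finiteness of the `l`-isogeny class. -/
def IsoFin (l : ℕ) : Prop :=
  ∃ (J : Type u) (_ : Finite J) (F : J → Over (Spec (CommRingCat.of k))),
    ∀ (Y : Over (Spec (CommRingCat.of k))) [GrpObj Y] [IsCommMonObj Y] [IsProper Y.hom]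
      [GeometricallyIntegral Y.hom] (u : X ⟶ Y) [IsMonHom u] (v : Y ⟶ X) [IsMonHom v] (m : ℕ),
      u ≫ v = (𝟙 X) ^ (l ^ m) → v ≫ u = (𝟙 Y) ^ (l ^ m) → ∃ i, Nonempty (Y ≅ F i)

variable [Module.Finite ℤ_[l] (TateMod X l (SGA7.pt (K := k) Ω))]

set_option maxHeartbeats 1000000 in
/-- **Tate's argument.** A Galois stable lattice is, up to finite index, the image of an element
of `ℤ_[l] ⊗ End(X)`. -/
theorem exists_range_of_stable (hl : (l : k) ≠ 0) (hFin : IsoFin X l)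
    (L : Submodule ℤ_[l] T[X])
    (hL : ∀ (σ : Ω ≃ₐ[k] Ω) (n : ℕ), ∀ z ∈ L, ∃ z' ∈ L,
      (TateMod.component X l Ω₀ n z').toMul = SGA7.galAct σ (TateMod.component X l Ω₀ n z).toMul) :
    ∃ (u : Module.End ℤ_[l] T[X]) (n₀ : ℕ),
      u ∈ Submodule.span ℤ_[l] (Set.range (EndAV.End.tateRep (A := X) l Ω₀)) ∧
      LinearMap.range u ≤ L ∧ ∀ z ∈ L, (l : ℤ_[l]) ^ n₀ • z ∈ LinearMap.range u := by
  classical
  obtain ⟨J, _, F, hF⟩ := hFin
  -- the quotients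
  let H : ℕ → Subgroup (Ω₀ ⟶ X) := fun n =>
    { carrier := {a | ∃ z ∈ L, TateMod.component X l Ω₀ n z = Additive.ofMul a}
      one_mem' := ⟨0, L.zero_mem, map_zero _⟩
      mul_mem' := by
        rintro a b ⟨z, hz, ez⟩ ⟨w, hw, ew⟩
        exact ⟨z + w, L.add_mem hz hw, by rw [map_add, ez, ew]; rfl⟩
      inv_mem' := by
        rintro a ⟨z, hz, ez⟩
        exact ⟨-z, L.neg_mem hz, by rw [map_neg, ez]; rfl⟩ }
  have hq : ∀ n : ℕ, ∃ (Y : Over (Spec (CommRingCat.of k))) (_ : GrpObj Y) (_ : IsCommMonObj Y)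
      (q : X ⟶ Y) (v : Y ⟶ X), IsProper Y.hom ∧ GeometricallyIntegral Y.hom ∧ IsMonHom q ∧
        IsMonHom v ∧ q ≫ v = (𝟙 X : X ⟶ X) ^ (l ^ n) ∧ v ≫ q = (𝟙 Y : Y ⟶ Y) ^ (l ^ n) ∧
        ∀ x : Ω₀ ⟶ X, x ≫ q = 1 ↔ x ∈ H n := fun n =>
    exists_quotient_of_galois_stable X (by push_cast; exact pow_ne_zero n hl) (H n)
      (by
        rintro a ⟨z, -, ez⟩
        have := TateMod.component_mem z n
        rw [ez] at this
        exact this)
      (by
        rintro σ a ⟨z, hz, ez⟩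
        obtain ⟨z', hz', e'⟩ := hL σ n z hz
        rw [ez] at e'
        exact ⟨z', hz', congrArg Additive.ofMul e'⟩)
  choose Y instY instY' q v hYp hYg hqm hvm hqv hvq hpts using hq
  have hidx : ∀ n, ∃ i, Nonempty (Y n ≅ F i) := fun n =>
    @hF (Y n) (instY n) (instY' n) (hYp n) (hYg n) (q n) (hqm n) (v n) (hvm n) n (hqv n) (hvq n)
  choose idx hiso using hidx
  obtain ⟨i₀, hi₀⟩ := Finite.exists_infinite_fiber idx
  have hinf : (idx ⁻¹' {i₀}).Infinite := Set.infinite_coe_iff.1 hi₀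
  obtain ⟨n₀, hn₀⟩ := hinf.nonempty
  let ns : ℕ → ℕ := Nat.nth (· ∈ idx ⁻¹' {i₀})
  have hns : StrictMono ns := Nat.nth_strictMono hinf
  have hnsi : ∀ j, idx (ns j) = i₀ := fun j => Nat.nth_mem_of_infinite hinf j
  -- the endomorphisms
  have hU : ∀ j, ∃ U : EndAV.End X,
      (∀ z, ∃ y ∈ L, ∃ w, EndAV.End.tateRep l Ω₀ U z = y + (l : ℤ_[l]) ^ ns j • w) ∧
      ∀ y ∈ L, ∃ z, EndAV.End.tateRep l Ω₀ U z = (l : ℤ_[l]) ^ n₀ • y := fun j => by
    let := instY n₀; have := instY' n₀; have := hYp n₀; have := hYg n₀; have := hqm n₀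
    let := instY (ns j); have := instY' (ns j); have := hYp (ns j); have := hYg (ns j)
    have := hvm (ns j); have := hvm n₀
    obtain ⟨e₀⟩ := hiso n₀
    obtain ⟨e₁⟩ := hiso (ns j)
    let e : Y n₀ ≅ Y (ns j) :=
      e₀ ≪≫ eqToIso (by rw [show idx n₀ = i₀ from hn₀, hnsi j]) ≪≫ e₁.symm
    let f : Y n₀ ⟶ Y (ns j) := e.hom * (toUnit (Y n₀) ≫ η[Y n₀] ≫ e.hom)⁻¹
    have hf : IsMonHom f := Groth.Abvar.isMonHom_mul_inv e.hom
    let c : 𝟙_ _ ⟶ Y (ns j) := η[Y n₀] ≫ e.hom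
    let f' : Y (ns j) ⟶ Y n₀ := (𝟙 (Y (ns j)) * (toUnit (Y (ns j)) ≫ c)) ≫ e.inv
    have hf'f : f' ≫ f = 𝟙 (Y (ns j)) := by
      show f' ≫ (e.hom * (toUnit (Y n₀) ≫ c)⁻¹) = _
      rw [MonObj.comp_mul, GrpObj.comp_inv, Category.assoc, e.inv_hom_id, Category.comp_id,
        ← Category.assoc f', toUnit_unique (f' ≫ toUnit (Y n₀)) (toUnit _), mul_inv_cancel_right]
    have hf' : IsMonHom f' := Groth.Abvar.isMonHom_of_one f' (by
      show η[Y (ns j)] ≫ (𝟙 (Y (ns j)) * (toUnit (Y (ns j)) ≫ c)) ≫ e.inv = η[Y n₀]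
      rw [← Category.assoc, MonObj.comp_mul, Category.comp_id, ← Category.assoc (η[Y (ns j)]),
        toUnit_unique (η[Y (ns j)] ≫ toUnit _) (𝟙 _), Category.id_comp,
        show (η[Y (ns j)] : 𝟙_ _ ⟶ _) = 1 by
          rw [Hom.one_def, toUnit_unique (toUnit (𝟙_ _)) (𝟙 _), Category.id_comp],
        _root_.one_mul, Category.assoc, e.hom_inv_id, Category.comp_id])
    have hmem : ∀ (n : ℕ) (x : Ω₀ ⟶ X), x ∈ H n → x ≫ q n = 1 := fun n x hx => (hpts n x).2 hx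
    refine ⟨EndAV.End.of (q n₀ ≫ f ≫ v (ns j)), fun z => ?_, fun y hy => ?_⟩
    · have hz : EndAV.End.tateRep l Ω₀ (EndAV.End.of (q n₀ ≫ f ≫ v (ns j))) z ∈
          LinearMap.range (tateMapₗ (l := l) (T := Ω₀) (v (ns j))) := by
        refine ⟨tateMapₗ (q n₀ ≫ f) z, ?_⟩
        rw [← tateMap_comp']
        exact congrArg (fun g : T[X] →ₗ[ℤ_[l]] T[X] => g z) (by
          simp only [Category.assoc]; rfl)
      rw [range_tateMap_of_quotient (q (ns j)) (v (ns j)) (ns j) (hqv _) (hvq _)] at hz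
      obtain ⟨y, hy, ey⟩ := (hpts _ _).1 hz
      obtain ⟨w, hw⟩ := exists_eq_pow_smul
        (EndAV.End.tateRep l Ω₀ (EndAV.End.of (q n₀ ≫ f ≫ v (ns j))) z - y) (ns j) (by
          rw [map_sub, ey]; exact sub_self _)
      exact ⟨y, hy, w, by rw [← hw, add_sub_cancel]⟩
    · obtain ⟨w, hw⟩ : y ∈ LinearMap.range (tateMapₗ (l := l) (T := Ω₀) (v (ns j))) := by
        rw [range_tateMap_of_quotient (q (ns j)) (v (ns j)) (ns j) (hqv _) (hvq _)]
        exact hmem _ _ ⟨y, hy, rfl⟩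
      refine ⟨tateMapₗ (v n₀) (tateMapₗ (l := l) (T := Ω₀) f' w), ?_⟩
      show tateMapₗ (l := l) (T := Ω₀) (q n₀ ≫ f ≫ v (ns j)) _ = _
      rw [tateMap_comp', ← tateMap_comp' (v n₀) (q n₀)]
      have hm : IsMonHom (𝟙 (Y n₀) ^ (l ^ n₀) : Y n₀ ⟶ Y n₀) := (hvq n₀) ▸ inferInstance
      rw [show tateMapₗ (l := l) (T := Ω₀) (v n₀ ≫ q n₀) (tateMapₗ (l := l) (T := Ω₀) f' w) =
          tateMapₗ (l := l) (T := Ω₀) (𝟙 (Y n₀) ^ (l ^ n₀) : Y n₀ ⟶ Y n₀)
            (tateMapₗ (l := l) (T := Ω₀) f' w) by simp only [hvq n₀],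
        tateMap_pow (X := Y n₀), map_smul, Nat.cast_pow, ← tateMap_comp', ← hw]
      refine congrArg _ (congrArg (fun g : T[Y (ns j)] →ₗ[ℤ_[l]] T[X] => g w) ?_)
      have : f' ≫ f ≫ v (ns j) = v (ns j) := by rw [← Category.assoc, hf'f, Category.id_comp]
      simp only [this]
  choose U hU1 hU2 using hU
  obtain ⟨g, hg⟩ := Groth.FibreDim.exists_dim_eq_nat X
  have : Module.Finite ℤ (EndAV.End X) := (free_finite_hom (A := X) (B := X) hg hg).2.1
  obtain ⟨r, gen, hgen⟩ := Module.Finite.exists_fin (R := ℤ) (M := EndAV.End X)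
  have hco : ∀ j, ∃ c : Fin r → ℤ, ∑ i, c i • gen i = U j := fun j =>
    (Submodule.mem_span_range_iff_exists_fun ℤ).1 (hgen ▸ Submodule.mem_top)
  choose c hc using hco
  obtain ⟨φ, b, hφ, hb⟩ := exists_subseq_congr (l := l) c
  set ρ := EndAV.End.tateRep (A := X) l Ω₀ with hρ
  let u : Module.End ℤ_[l] T[X] := ∑ i, b i • ρ (gen i)
  have hclose : ∀ N : ℕ, ∀ᶠ j in atTop, ∀ z, ∃ y, u z - ρ (U (φ j)) z = (l : ℤ_[l]) ^ N • y := by
    intro N
    filter_upwards [hb N] with j hj z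
    choose y hy using hj
    refine ⟨∑ i, y i • ρ (gen i) z, ?_⟩
    rw [← hc (φ j), map_sum, Finset.smul_sum]
    simp only [u, LinearMap.sum_apply, LinearMap.smul_apply, map_zsmul, ← Finset.sum_sub_distrib]
    refine Finset.sum_congr rfl fun i _ => ?_
    rw [← Int.cast_smul_eq_zsmul ℤ_[l], ← sub_smul, hy, smul_smul]
  refine ⟨u, n₀, Submodule.sum_mem _ fun i _ =>
    Submodule.smul_mem _ _ (Submodule.subset_span ⟨gen i, rfl⟩), ?_, fun y hy => ?_⟩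
  · rintro _ ⟨z, rfl⟩
    refine mem_of_forall_mem_add_pow L _ fun N => ?_
    obtain ⟨j, hj, hjN⟩ := ((hclose N).and
      ((hns.comp hφ).tendsto_atTop.eventually_ge_atTop N)).exists
    obtain ⟨y₁, hy₁⟩ := hj z
    obtain ⟨y₂, hy₂, w, hw⟩ := hU1 (φ j) z
    refine ⟨y₁ + (l : ℤ_[l]) ^ (ns (φ j) - N) • w, ?_⟩
    have hjN' : N ≤ ns (φ j) := hjN
    rw [smul_add, smul_smul, ← pow_add, Nat.add_sub_cancel' hjN', ← hy₁]
    rw [show ρ (U (φ j)) z = y₂ + (l : ℤ_[l]) ^ ns (φ j) • w from hw]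
    convert hy₂ using 1
    abel
  · refine mem_of_forall_mem_add_pow _ _ fun N => ?_
    obtain ⟨j, hj⟩ := (hclose N).exists
    obtain ⟨z, hz⟩ := hU2 (φ j) y hy
    obtain ⟨y₁, hy₁⟩ := hj z
    refine ⟨-y₁, ?_⟩
    rw [smul_neg, sub_neg_eq_add, ← hy₁, ← hz]
    exact ⟨z, by abel⟩

end Groth.AbVarMul
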