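import Groth.Agent.AbVarMul.TateRational
import Groth.Agent.AbVarMul.SemisimpleEnd
import Groth.Agent.AbVarMul.Commutant
import Groth.Agent.AbVarMul.CentreSeparable
import Groth.Agent.AbVarMul.SimpleSubalg
import Groth.Agent.CSA.SemisimpleBC
import Mathlib.FieldTheory.Perfect

/-!
# Semisimplicity of the Galois action and Tate's theorem from finiteness
-/

set_option autoImplicit false
universe u

open CategoryTheory MonoidalCategory CartesianMonoidalCategory MonObj GrpObj AlgebraicGeometry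
open AbDual
open TensorProduct (tmul)
open scoped TensorProduct

namespace Groth.AbVarMul

variable {k : Type u} [Field k] {Ω : Type u} [Field Ω] [Algebra k Ω] {l : ℕ} [Fact l.Prime]

local notation "Ω₀" => (SGA7.pt (K := k) Ω)

/-- The Galois action on the Tate module. -/
noncomputable def tateGal (A : Over (Spec (CommRingCat.of k))) [GrpObj A] [IsCommMonObj A] (l : ℕ)
    [Fact l.Prime] (τ : Ω ≃ₐ[k] Ω) : Module.End ℤ_[l] (TateMod A l (SGA7.pt (K := k) Ω)) where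
  toFun z := ⟨fun n => Additive.ofMul (SGA7.specAut τ ≫ ((z : ℕ → Additive (Ω₀ ⟶ A)) n).toMul),
    fun n => congrArg Additive.ofMul (by
      simp only [toMul_ofMul]
      rw [← MonObj.comp_pow]
      exact (congrArg (SGA7.specAut τ ≫ ·) (congrArg Additive.toMul (z.torsion n))).trans
        (MonObj.comp_one _)),
    fun n => congrArg Additive.ofMul (by
      simp only [toMul_ofMul]
      rw [← MonObj.comp_pow]
      exact congrArg (SGA7.specAut τ ≫ ·) (congrArg Additive.toMul (z.compat n)))⟩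
  map_add' x y := TateMod.ext fun n => congrArg Additive.ofMul (MonObj.comp_mul _ _ _)
  map_smul' c x := TateMod.ext fun n => congrArg Additive.ofMul (by
    show SGA7.specAut τ ≫ (((c.appr n) • (x : ℕ → Additive (Ω₀ ⟶ A)) n).toMul) = _
    rw [toMul_nsmul, MonObj.comp_pow]
    rfl)

theorem tateGal_component (A : Over (Spec (CommRingCat.of k))) [GrpObj A] [IsCommMonObj A]
    (τ : Ω ≃ₐ[k] Ω) (z : TateMod A l Ω₀) (m : ℕ) :
    (TateMod.component A l Ω₀ m (tateGal A l τ z)).toMul =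
      SGA7.galAct τ (TateMod.component A l Ω₀ m z).toMul := rfl

theorem galois_eq_tateGal {A : Over (Spec (CommRingCat.of k))} [GrpObj A] [IsCommMonObj A]
    (ρ : (Ω ≃ₐ[k] Ω) → Module.End ℤ_[l] (TateMod A l Ω₀))
    (hρ : ∀ (τ : Ω ≃ₐ[k] Ω) (z : TateMod A l Ω₀) (m : ℕ),
      (TateMod.component A l Ω₀ m (ρ τ z)).toMul =
        SGA7.galAct τ (TateMod.component A l Ω₀ m z).toMul) (τ : Ω ≃ₐ[k] Ω) :
    ρ τ = tateGal A l τ :=
  LinearMap.ext fun z => TateMod.ext fun m => congrArg Additive.ofMul (hρ τ z m)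

theorem tateMap_tateGal {A B : Over (Spec (CommRingCat.of k))} [GrpObj A] [IsCommMonObj A]
    [GrpObj B] [IsCommMonObj B] (f : A ⟶ B) [IsMonHom f] (τ : Ω ≃ₐ[k] Ω) :
    tateMapₗ (l := l) (T := Ω₀) f ∘ₗ tateGal A l τ =
      tateGal B l τ ∘ₗ tateMapₗ (l := l) (T := Ω₀) f :=
  LinearMap.ext fun _ => TateMod.ext fun _ => congrArg Additive.ofMul (Category.assoc _ _ _)

section Generic

variable {A B C : Over (Spec (CommRingCat.of k))} [GrpObj A] [IsCommMonObj A] [GrpObj B]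
  [IsCommMonObj B] [GrpObj C] [IsCommMonObj C]

/-- The rational Tate map. -/
noncomputable abbrev qMap (f : A ⟶ B) [IsMonHom f] :
    ℚ_[l] ⊗[ℤ_[l]] TateMod A l Ω₀ →ₗ[ℚ_[l]] ℚ_[l] ⊗[ℤ_[l]] TateMod B l Ω₀ :=
  (tateMapₗ (l := l) (T := Ω₀) f).baseChange ℚ_[l]

theorem qMap_comp (f : A ⟶ B) [IsMonHom f] (h : B ⟶ C) [IsMonHom h] (g : A ⟶ C) [IsMonHom g]
    (e : f ≫ h = g) : qMap (Ω := Ω) (l := l) h ∘ₗ qMap f = qMap g := by
  subst e
  rw [qMap, qMap, qMap, ← LinearMap.baseChange_comp]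
  exact congrArg (fun y : _ →ₗ[ℤ_[l]] _ => y.baseChange ℚ_[l])
    (LinearMap.ext fun z => TateMod.ext fun _ => congrArg Additive.ofMul (Category.assoc _ _ _))

theorem qMap_id : qMap (Ω := Ω) (l := l) (𝟙 A) = LinearMap.id := by
  rw [qMap, show tateMapₗ (l := l) (T := Ω₀) (𝟙 A) = LinearMap.id from LinearMap.ext fun z =>
    TateMod.ext fun n => congrArg Additive.ofMul (Category.comp_id _), LinearMap.baseChange_id]

theorem qMap_one [IsMonHom (1 : A ⟶ B)] : qMap (Ω := Ω) (l := l) (1 : A ⟶ B) = 0 := by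
  rw [qMap, show tateMapₗ (l := l) (T := Ω₀) (1 : A ⟶ B) = 0 from LinearMap.ext fun z =>
    TateMod.ext fun n => congrArg Additive.ofMul (MonObj.comp_one _), LinearMap.baseChange_zero]

theorem qMap_sum (f₁ f₂ : A ⟶ B) [IsMonHom f₁] [IsMonHom f₂] (h₁ h₂ : B ⟶ A) [IsMonHom h₁]
    [IsMonHom h₂] (e : (h₁ ≫ f₁) * (h₂ ≫ f₂) = 𝟙 B) :
    qMap (Ω := Ω) (l := l) f₁ ∘ₗ qMap h₁ + qMap f₂ ∘ₗ qMap h₂ = LinearMap.id := by
  rw [qMap, qMap, qMap, qMap, ← LinearMap.baseChange_comp, ← LinearMap.baseChange_comp,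
    ← LinearMap.baseChange_add, ← LinearMap.baseChange_id]
  refine congrArg (fun y : _ →ₗ[ℤ_[l]] _ => y.baseChange ℚ_[l]) (LinearMap.ext fun z =>
    TateMod.ext fun n => congrArg Additive.ofMul ?_)
  generalize hx : ((z : ℕ → Additive (Ω₀ ⟶ B)) n).toMul = x
  show ((((z : ℕ → Additive (Ω₀ ⟶ B)) n).toMul ≫ h₁) ≫ f₁) *
    ((((z : ℕ → Additive (Ω₀ ⟶ B)) n).toMul ≫ h₂) ≫ f₂) = _
  rw [hx, Category.assoc, Category.assoc, ← MonObj.comp_mul, e, Category.comp_id]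
  exact hx.symm

theorem qMap_galQ (h : A ⟶ B) [IsMonHom h] (τ : Ω ≃ₐ[k] Ω)
    (v : ℚ_[l] ⊗[ℤ_[l]] TateMod A l Ω₀) :
    qMap h ((tateGal A l τ).baseChange ℚ_[l] v) =
      (tateGal B l τ).baseChange ℚ_[l] (qMap h v) := by
  rw [← LinearMap.comp_apply, ← LinearMap.comp_apply, qMap, ← LinearMap.baseChange_comp,
    ← LinearMap.baseChange_comp, tateMap_tateGal]

theorem map_ker_graph_le {F V V₂ : Type*} [Field F] [AddCommGroup V] [Module F V]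
    [AddCommGroup V₂] [Module F V₂] (P₁ P₂ : V₂ →ₗ[F] V) (g₂ : Module.End F V₂)
    (g φ : Module.End F V) (h₁ : ∀ v, P₁ (g₂ v) = g (P₁ v)) (h₂ : ∀ v, P₂ (g₂ v) = g (P₂ v))
    (hφ : φ ∘ₗ g = g ∘ₗ φ) :
    (LinearMap.ker (P₂ - φ ∘ₗ P₁)).map g₂ ≤ LinearMap.ker (P₂ - φ ∘ₗ P₁) := by
  rintro _ ⟨v, hv, rfl⟩
  rw [SetLike.mem_coe, LinearMap.mem_ker, LinearMap.sub_apply, LinearMap.comp_apply,
    sub_eq_zero] at hv
  rw [LinearMap.mem_ker, LinearMap.sub_apply, LinearMap.comp_apply, h₁, h₂, hv, sub_eq_zero]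
  exact (LinearMap.congr_fun hφ (P₁ v)).symm

theorem ker_graph_stable (h₁ h₂ : B ⟶ A) [IsMonHom h₁] [IsMonHom h₂]
    (φ : Module.End ℚ_[l] (ℚ_[l] ⊗[ℤ_[l]] TateMod A l Ω₀)) (τ : Ω ≃ₐ[k] Ω)
    (hφ : φ ∘ₗ (tateGal A l τ).baseChange ℚ_[l] = (tateGal A l τ).baseChange ℚ_[l] ∘ₗ φ) :
    (LinearMap.ker (qMap (Ω := Ω) (l := l) h₂ - φ ∘ₗ qMap h₁)).map
        ((tateGal B l τ).baseChange ℚ_[l]) ≤
      LinearMap.ker (qMap (Ω := Ω) (l := l) h₂ - φ ∘ₗ qMap h₁) :=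
  map_ker_graph_le (F := ℚ_[l]) (V := ℚ_[l] ⊗[ℤ_[l]] TateMod A l Ω₀)
    (V₂ := ℚ_[l] ⊗[ℤ_[l]] TateMod B l Ω₀) _ _ _ _ φ (qMap_galQ h₁ τ) (qMap_galQ h₂ τ) hφ

theorem qMap_endSpan (f : A ⟶ B) [IsMonHom f] (h : B ⟶ A) [IsMonHom h]
    {U : Module.End ℚ_[l] (ℚ_[l] ⊗[ℤ_[l]] TateMod B l Ω₀)} (hU : U ∈ endSpan B Ω l) :
    qMap (Ω := Ω) (l := l) h ∘ₗ U ∘ₗ qMap f ∈ endSpan A Ω l := by
  induction hU using Submodule.span_induction with
  | mem x hx =>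
    obtain ⟨w, hw, rfl⟩ := hx
    refine Submodule.subset_span ⟨f ≫ w ≫ h, inferInstance, ?_⟩
    rw [qMap, qMap, ← LinearMap.baseChange_comp, ← LinearMap.baseChange_comp]
    exact congrArg (fun y : _ →ₗ[ℤ_[l]] _ => y.baseChange ℚ_[l])
      (LinearMap.ext fun z => TateMod.ext fun _ => congrArg Additive.ofMul
        ((congrArg (· ≫ h) (Category.assoc _ _ _)).trans
          ((Category.assoc _ _ _).trans (congrArg (_ ≫ ·) (Category.assoc _ _ _)))).symm)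
  | zero => rw [LinearMap.zero_comp, LinearMap.comp_zero]; exact Submodule.zero_mem _
  | add x y _ _ hx hy =>
    rw [LinearMap.add_comp, LinearMap.comp_add]; exact Submodule.add_mem _ hx hy
  | smul c x _ hx =>
    rw [LinearMap.smul_comp, LinearMap.comp_smul]; exact Submodule.smul_mem _ c hx

end Generic

variable [IsAlgClosure k Ω] {X : Over (Spec (CommRingCat.of k))} [GrpObj X] [IsCommMonObj X]
  [IsProper X.hom] [GeometricallyIntegral X.hom]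
  [Module.Finite ℤ_[l] (TateMod X l (SGA7.pt (K := k) Ω))]

/-- The rational Galois action. -/
noncomputable abbrev galQ (A : Over (Spec (CommRingCat.of k))) [GrpObj A] [IsCommMonObj A] (l : ℕ)
    [Fact l.Prime] (τ : Ω ≃ₐ[k] Ω) :
    Module.End ℚ_[l] (ℚ_[l] ⊗[ℤ_[l]] TateMod A l (SGA7.pt (K := k) Ω)) :=
  (tateGal A l τ).baseChange ℚ_[l]

/-- Every Galois stable subspace is the range of an element of `ℚ_[l] ⊗ End Z`. -/
def StableRange (Ω : Type u) [Field Ω] [Algebra k Ω] (l : ℕ) [Fact l.Prime]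
    (Z : Over (Spec (CommRingCat.of k))) [GrpObj Z] [IsCommMonObj Z] : Prop :=
  ∀ W : Submodule ℚ_[l] (ℚ_[l] ⊗[ℤ_[l]] TateMod Z l (SGA7.pt (K := k) Ω)),
    (∀ τ : Ω ≃ₐ[k] Ω, W.map (galQ Z l τ) ≤ W) → ∃ u ∈ endSpan Z Ω l, LinearMap.range u = W

omit [IsAlgClosure k Ω] [IsProper X.hom] [GeometricallyIntegral X.hom]
  [Module.Finite ℤ_[l] (TateMod X l (SGA7.pt (K := k) Ω))] in
theorem endSpan_commute {u : Module.End ℚ_[l] (ℚ_[l] ⊗[ℤ_[l]] TateMod X l Ω₀)}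
    (hu : u ∈ endSpan X Ω l) (τ : Ω ≃ₐ[k] Ω) : u * galQ X l τ = galQ X l τ * u := by
  induction hu using Submodule.span_induction with
  | mem x hx =>
    obtain ⟨f, hf, rfl⟩ := hx
    rw [Module.End.mul_eq_comp, Module.End.mul_eq_comp, ← LinearMap.baseChange_comp,
      ← LinearMap.baseChange_comp, tateMap_tateGal]
  | zero => rw [zero_mul, mul_zero]
  | add x y _ _ hx hy => rw [add_mul, mul_add, hx, hy]
  | smul c x _ hx => rw [smul_mul_assoc, mul_smul_comm, hx]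

omit [IsAlgClosure k Ω] [Module.Finite ℤ_[l] (TateMod X l (SGA7.pt (K := k) Ω))] in
set_option synthInstance.maxHeartbeats 200000 in
set_option maxHeartbeats 1000000 in
/-- `endSpan` is a semisimple algebra. -/
theorem exists_endAlg (hP : Poincare k) :
    ∃ R : Subalgebra ℚ_[l] (Module.End ℚ_[l] (ℚ_[l] ⊗[ℤ_[l]] TateMod X l Ω₀)),
      IsSemisimpleRing R ∧ ∀ u, u ∈ R ↔ u ∈ endSpan X Ω l := by
  obtain ⟨g, hg⟩ := Groth.FibreDim.exists_dim_eq_nat X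
  have : Module.Finite ℤ (EndAV.End X) := (free_finite_hom (A := X) (B := X) hg hg).2.1
  have : Module.Finite ℚ (EndAV.End0 X) := Module.Finite.base_change ℤ ℚ (EndAV.End X)
  have := isSemisimpleRing_end0 hP X
  have : IsScalarTower ℚ ℚ_[l] (Module.End ℚ_[l] (ℚ_[l] ⊗[ℤ_[l]] TateMod X l Ω₀)) :=
    ⟨fun a b f => LinearMap.ext fun v => smul_assoc a b (f v)⟩
  let M := Module.End ℚ_[l] (ℚ_[l] ⊗[ℤ_[l]] TateMod X l Ω₀)
  obtain ⟨Λ0, hΛ0⟩ := exists_ratLift (M := M)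
    ((Module.End.baseChangeHom ℤ_[l] ℚ_[l] (TateMod X l Ω₀)).toRingHom.comp
      (EndAV.End.tateRep (A := X) l Ω₀))
  obtain ⟨R, hR, hRmem⟩ := exists_semisimple_span (L := ℚ_[l]) Λ0
  refine ⟨R, hR, fun u => (hRmem u).trans ?_⟩
  refine SetLike.ext_iff.1 (le_antisymm (Submodule.span_le.2 ?_) (Submodule.span_le.2 ?_)) u
  · rintro _ ⟨v, rfl⟩
    obtain ⟨n, a, hn, ha⟩ := exists_int_smul_eq_tmul v
    refine (Submodule.smul_mem_iff _ (Int.cast_ne_zero.2 hn : (n : ℚ_[l]) ≠ 0)).1 ?_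
    rw [Int.cast_smul_eq_zsmul, ← map_zsmul, ha, ← EndAV.toEnd0_apply, hΛ0]
    exact Submodule.subset_span ⟨a.toHom, inferInstance, rfl⟩
  · rintro _ ⟨f, hf, rfl⟩
    exact Submodule.subset_span ⟨EndAV.toEnd0 (EndAV.End.of f), (hΛ0 _).trans rfl⟩

omit [IsProper X.hom] [GeometricallyIntegral X.hom] in
theorem commutant_aux (hl : (l : k) ≠ 0)
    (R : Subalgebra ℚ_[l] (Module.End ℚ_[l] (ℚ_[l] ⊗[ℤ_[l]] TateMod X l Ω₀))) [IsSemisimpleRing R]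
    (hmem : ∀ u, u ∈ R ↔ u ∈ endSpan X Ω l)
    (Z : Over (Spec (CommRingCat.of k))) [GrpObj Z] [IsCommMonObj Z] [IsProper Z.hom]
    [GeometricallyIntegral Z.hom] [Module.Finite ℤ_[l] (TateMod Z l (SGA7.pt (K := k) Ω))]
    (hS : StableRange Ω l Z) (i₁ i₂ : X ⟶ Z) [IsMonHom i₁] [IsMonHom i₂] (p₁ p₂ : Z ⟶ X) [IsMonHom p₁]
    [IsMonHom p₂] (e11 : i₁ ≫ p₁ = 𝟙 X) (e22 : i₂ ≫ p₂ = 𝟙 X) (e12 : i₂ ≫ p₁ = 1)
    (e21 : i₁ ≫ p₂ = 1) (hid : (p₁ ≫ i₁) * (p₂ ≫ i₂) = 𝟙 Z)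
    (φ : Module.End ℚ_[l] (ℚ_[l] ⊗[ℤ_[l]] TateMod X l Ω₀))
    (hφ : ∀ τ : Ω ≃ₐ[k] Ω, φ ∘ₗ galQ X l τ = galQ X l τ ∘ₗ φ) : φ ∈ endSpan X Ω l := by
  have : IsMonHom (1 : X ⟶ X) := Groth.AlgGrpAb.isMonHom_one
  obtain ⟨U, hU, hUW⟩ := hS
    (LinearMap.ker (qMap (Ω := Ω) (l := l) p₂ - φ ∘ₗ qMap p₁)) fun τ =>
      ker_graph_stable p₁ p₂ φ τ (hφ τ)
  refine (hmem φ).1 (Commutant.mem_of_commute R φ fun c hc => ?_)
  refine Commutant.commute_of_graph (qMap p₁) (qMap p₂) (qMap i₁) (qMap i₂)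
    ((qMap_comp i₁ p₁ (𝟙 X) e11).trans qMap_id) ((qMap_comp i₂ p₂ (𝟙 X) e22).trans qMap_id)
    ((qMap_comp i₂ p₁ 1 e12).trans qMap_one) ((qMap_comp i₁ p₂ 1 e21).trans qMap_one)
    (qMap_sum i₁ i₂ p₁ p₂ hid) U φ c hUW fun x => ?_
  have hb : ∀ {y : Module.End ℚ_[l] (ℚ_[l] ⊗[ℤ_[l]] TateMod X l Ω₀)}, y ∈ endSpan X Ω l →
      y (c x) = c (y x) :=
    fun {y} hy => (LinearMap.congr_fun (hc y ((hmem y).2 hy)) x).symm
  exact ⟨hb (qMap_endSpan i₁ p₁ hU), hb (qMap_endSpan i₁ p₂ hU), hb (qMap_endSpan i₂ p₁ hU),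
    hb (qMap_endSpan i₂ p₂ hU)⟩

set_option maxHeartbeats 1000000 in
/-- **Semisimplicity of the Galois representation and Tate's theorem, from stable ranges.** -/
theorem semisimple_and_commutant_of_range (hP : Poincare k) (hl : (l : k) ≠ 0)
    (hS : ∀ (Z : Over (Spec (CommRingCat.of k))) [GrpObj Z] [IsCommMonObj Z] [IsProper Z.hom]
      [GeometricallyIntegral Z.hom] [Module.Finite ℤ_[l] (TateMod Z l (SGA7.pt (K := k) Ω))],
      StableRange Ω l Z) :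
    (∀ W : Submodule ℚ_[l] (ℚ_[l] ⊗[ℤ_[l]] TateMod X l Ω₀),
        (∀ τ : Ω ≃ₐ[k] Ω, W.map (galQ X l τ) ≤ W) →
        ∃ W', IsCompl W W' ∧ ∀ τ : Ω ≃ₐ[k] Ω, W'.map (galQ X l τ) ≤ W') ∧
      ∀ φ : Module.End ℚ_[l] (ℚ_[l] ⊗[ℤ_[l]] TateMod X l Ω₀),
        (∀ τ : Ω ≃ₐ[k] Ω, φ ∘ₗ galQ X l τ = galQ X l τ ∘ₗ φ) → φ ∈ endSpan X Ω l := by
  obtain ⟨R, hR, hmem⟩ := exists_endAlg (X := X) (Ω := Ω) (l := l) hP
  refine ⟨fun W hW => ?_, fun φ hφ => ?_⟩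
  · obtain ⟨u, hu, rfl⟩ := hS X W hW
    obtain ⟨e, he, hee, her⟩ := Commutant.exists_idempotent_range R ((hmem u).2 hu)
    refine ⟨LinearMap.ker e,
      her ▸ (LinearMap.IsIdempotentElem.isProj_range e hee).isCompl, fun τ => ?_⟩
    rintro _ ⟨x, hx, rfl⟩
    have h := congrArg (fun y : Module.End ℚ_[l] (ℚ_[l] ⊗[ℤ_[l]] TateMod X l Ω₀) => y x)
      (endSpan_commute ((hmem e).1 he) τ)
    show e (galQ X l τ x) = 0
    exact h.trans (by show galQ X l τ (e x) = 0; rw [LinearMap.mem_ker.1 hx, map_zero])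
  -- the graph of `φ` on the square of `X`
  let Z := X ⊗ X
  have : IsProper Z.hom := inferInstanceAs (IsProper (Limits.pullback.fst X.hom X.hom ≫ X.hom))
  have : GeometricallyIntegral Z.hom := Groth.Abvar.Cube.geometricallyIntegral_tensor X X
  have := GrpschAbsch.isCommMonObj_of_isProper Z
  have : IsAlgClosed Ω := IsAlgClosure.isAlgClosed k
  have := (free_finite_tateMod Ω Z hl).2
  have : IsMonHom (1 : X ⟶ X) := Groth.AlgGrpAb.isMonHom_one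
  have hid : (fst X X ≫ lift (𝟙 X) (1 : X ⟶ X)) * (snd X X ≫ lift (1 : X ⟶ X) (𝟙 X)) = 𝟙 (X ⊗ X) := by
    refine CartesianMonoidalCategory.hom_ext _ _ ?_ ?_
    · rw [MonObj.mul_comp, Category.assoc, Category.assoc, lift_fst, lift_fst, Category.comp_id,
        MonObj.comp_one, _root_.mul_one, Category.id_comp]
    · rw [MonObj.mul_comp, Category.assoc, Category.assoc, lift_snd, lift_snd, Category.comp_id,
        MonObj.comp_one, _root_.one_mul, Category.id_comp]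
  exact commutant_aux hl R hmem (X ⊗ X) (hS _) (lift (𝟙 X) 1) (lift 1 (𝟙 X)) (fst X X) (snd X X)
    (lift_fst _ _) (lift_snd _ _) (lift_fst _ _) (lift_snd _ _) hid φ hφ

/-- **Semisimplicity of the Galois representation and Tate's theorem, from finiteness.** -/
theorem semisimple_and_commutant (hP : Poincare k) (hl : (l : k) ≠ 0)
    (hFin : ∀ (Z : Over (Spec (CommRingCat.of k))) [GrpObj Z] [IsCommMonObj Z] [IsProper Z.hom]
      [GeometricallyIntegral Z.hom], IsoFin Z l) :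
    (∀ W : Submodule ℚ_[l] (ℚ_[l] ⊗[ℤ_[l]] TateMod X l Ω₀),
        (∀ τ : Ω ≃ₐ[k] Ω, W.map (galQ X l τ) ≤ W) →
        ∃ W', IsCompl W W' ∧ ∀ τ : Ω ≃ₐ[k] Ω, W'.map (galQ X l τ) ≤ W') ∧
      ∀ φ : Module.End ℚ_[l] (ℚ_[l] ⊗[ℤ_[l]] TateMod X l Ω₀),
        (∀ τ : Ω ≃ₐ[k] Ω, φ ∘ₗ galQ X l τ = galQ X l τ ∘ₗ φ) → φ ∈ endSpan X Ω l :=
  semisimple_and_commutant_of_range hP hl fun Z _ _ _ _ _ W hW =>
    exists_range_eq_of_stable hl (hFin Z) (fun τ => tateGal Z l τ) (fun _ _ _ => rfl) W hW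

end Groth.AbVarMul
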