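import Groth.Agent.AbVarMul.KerTate
import Groth.Agent.AbVarMul.Relative

/-!
# Divisibility of homomorphisms detected on Tate modules
-/

universe u

open CategoryTheory Limits MonoidalCategory CartesianMonoidalCategory MonObj GrpObj AlgebraicGeometry
  TopologicalSpace
open AbDual

namespace Groth.AbVarMul

/-- Every `l`-power torsion point is a component of an element of the Tate module. -/
theorem exists_tateMod_component {S : Scheme.{u}} {A : Over S} [GrpObj A] [IsCommMonObj A] {l : ℕ}
    {T : Over S} (hdiv : ∀ a : T ⟶ A, ∃ b : T ⟶ A, b ^ l = a) (n : ℕ) (a : T ⟶ A)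
    (ha : a ^ l ^ n = 1) :
    ∃ x : TateMod A l T, (x : ℕ → Additive (T ⟶ A)) n = Additive.ofMul a := by
  choose d hd using fun b : Additive (T ⟶ A) => hdiv b.toMul
  let s : ℕ → Additive (T ⟶ A) := fun m =>
    if m ≤ n then l ^ (n - m) • Additive.ofMul a
    else (fun b => Additive.ofMul (d b))^[m - n] (Additive.ofMul a)
  have hs : ∀ m, l • s (m + 1) = s m := fun m => by
    by_cases hm : m + 1 ≤ n
    · simp only [s, if_pos hm, if_pos (show m ≤ n by omega)]
      rw [← mul_nsmul', ← pow_succ', show n - (m + 1) + 1 = n - m by omega]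
    · simp only [s, if_neg hm]
      rw [show m + 1 - n = m - n + 1 by omega, Function.iterate_succ_apply']
      show Additive.ofMul (d _ ^ l) = _
      rw [show ∀ b, Additive.ofMul (d b ^ l) = b from fun b => congrArg Additive.ofMul (hd b)]
      by_cases hm' : m ≤ n
      · rw [if_pos hm', show m - n = 0 by omega, show n - m = 0 by omega]
        simp
      · rw [if_neg hm']
  have ha' : l ^ n • Additive.ofMul a = 0 := congrArg Additive.ofMul ha
  have hs' : ∀ m, l ^ m • s m = 0 := fun m => by
    induction m with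
    | zero => rw [pow_zero, one_nsmul]; simpa [s] using ha'
    | succ m ih => rw [pow_succ, mul_nsmul', hs, ih]
  exact ⟨⟨s, hs', hs⟩, by simp [s]⟩

variable {k : Type u} [Field k] [IsAlgClosed k] {A B C : Over (Spec (CommRingCat.of k))} [GrpObj A]
  [GrpObj B] [GrpObj C]

local notation "pt" => (𝟙_ (Over (Spec (CommRingCat.of k))))

/-- A homomorphism killing the rational points of an etale kernel kills the kernel. -/
theorem kills_ker_of_points (f : A ⟶ B) [Etale f.left] (h : A ⟶ C) [LocallyOfFiniteType A.hom]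
    [LocallyOfFiniteType C.hom] [IsSeparated C.hom]
    (hpts : ∀ z : pt ⟶ A, z ≫ f = 1 → z ≫ h = 1)
    (T : Over (Spec (CommRingCat.of k))) (t : T ⟶ A) (ht : t ≫ f = 1) : t ≫ h = 1 := by
  let N : Over (Spec (CommRingCat.of k)) := Over.mk (pullback.snd f.left η[B].left)
  let i : N ⟶ A := Over.homMk (pullback.fst f.left η[B].left) (by
    show pullback.fst f.left η[B].left ≫ A.hom = pullback.snd f.left η[B].left
    rw [← Over.w f, ← Category.assoc, pullback.condition, Category.assoc]
    exact (congrArg (pullback.snd f.left η[B].left ≫ ·) (Over.w η[B])).trans (Category.comp_id _))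
  have hif : i ≫ f = 1 := Over.OverMorphism.ext pullback.condition
  have : Etale N.hom := inferInstanceAs (Etale (pullback.snd f.left η[B].left))
  have : Smooth N.hom := inferInstance
  have : IsReduced N.left := Groth.AlgGrp1.isReduced_of_smooth N.hom
  have hi : i ≫ h = 1 := eq_of_points fun z => by
    rw [MonObj.comp_one, ← Category.assoc]
    exact hpts _ (by rw [Category.assoc, hif, MonObj.comp_one])
  obtain ⟨z, rfl⟩ : ∃ z : T ⟶ N, z ≫ i = t :=
    ⟨Over.homMk (pullback.lift t.left T.hom (congrArg Over.Hom.left ht)) (pullback.lift_snd _ _ _),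
      Over.OverMorphism.ext (pullback.lift_fst _ _ _)⟩
  rw [Category.assoc, hi, MonObj.comp_one]

variable [IsCommMonObj A] [IsProper A.hom] [GeometricallyIntegral A.hom] [IsCommMonObj B]
  [IsProper B.hom]

/-- A homomorphism whose map on Tate modules is divisible by `l ^ n` is divisible by `l ^ n`. -/
theorem exists_eq_pow_comp {l : ℕ} [Fact l.Prime] (hl : (l : k) ≠ 0) (φ : A ⟶ B) [IsMonHom φ]
    (n : ℕ) (u : TateMod A l pt →ₗ[ℤ_[l]] TateMod B l pt)
    (hu : tateMapₗ (l := l) (T := pt) φ = ((l : ℤ_[l]) ^ n) • u) :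
    ∃ φ' : A ⟶ B, IsMonHom φ' ∧ φ = (𝟙 A ^ (l ^ n) : A ⟶ A) ≫ φ' := by
  have hlp := (Fact.out : l.Prime)
  have hd : ((l ^ n : ℕ) : ℤ) ≠ 0 := by exact_mod_cast pow_ne_zero n hlp.ne_zero
  have hdk : (((l ^ n : ℕ) : ℤ) : k) ≠ 0 := by push_cast; exact pow_ne_zero n hl
  obtain ⟨h1, h2, h3⟩ := isogeny_zpow (A := A) hd
  have he := GrpschAbsch.etale_zpow (G := A) ((l ^ n : ℕ) : ℤ) hdk
  set f := (𝟙 A ^ ((l ^ n : ℕ) : ℤ) : A ⟶ A) with hf
  have : IsMonHom f := inferInstance
  have hfp : ∀ {T : Over (Spec (CommRingCat.of k))} (a : T ⟶ A), a ≫ f = a ^ l ^ n := fun a => by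
    rw [GrpObj.comp_zpow, Category.comp_id, zpow_natCast]
  obtain ⟨g, hg, hfg⟩ := exists_factor_of_flat f φ (kills_ker_of_points f φ fun z hz => by
    obtain ⟨x, hx⟩ := exists_tateMod_component (fun a => exists_pow_eq (A := A) hlp.ne_zero a) n z
      (by rw [← hfp, hz])
    have h := congrArg (fun F : TateMod A l pt →ₗ[ℤ_[l]] TateMod B l pt =>
      ((F x : TateMod B l pt) : ℕ → Additive (pt ⟶ B)) n) hu
    simp only [LinearMap.smul_apply] at h
    rw [← Nat.cast_pow, component_natCast_smul, (u x).torsion n] at h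
    exact congrArg Additive.toMul ((congrArg (fun b : Additive (pt ⟶ A) =>
      Additive.ofMul (b.toMul ≫ φ)) hx).symm.trans h))
  exact ⟨g, hg, by rw [← hfg, hf, zpow_natCast]⟩

end Groth.AbVarMul
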