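import Groth.Agent.AbVarMul.TateArgument
import Mathlib.RingTheory.Localization.Module
import Mathlib.RingTheory.Localization.Integer
import Mathlib.LinearAlgebra.TensorProduct.Tower

/-!
# Tate's argument over `ℚ_[l]`
-/

set_option autoImplicit false
universe u

open CategoryTheory MonoidalCategory CartesianMonoidalCategory MonObj GrpObj AlgebraicGeometry
open AbDual TensorProduct

namespace Groth.AbVarMul

theorem exists_pow_smul_eq_one_tmul {l : ℕ} [Fact l.Prime] {M : Type*} [AddCommGroup M]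
    [Module ℤ_[l] M] (w : ℚ_[l] ⊗[ℤ_[l]] M) :
    ∃ (c : ℚ_[l]) (z : M), c ≠ 0 ∧ c • w = (1 : ℚ_[l]) ⊗ₜ[ℤ_[l]] z := by
  induction w with
  | zero => exact ⟨1, 0, one_ne_zero, by simp⟩
  | tmul q m =>
    obtain ⟨⟨a, s⟩, hs⟩ := IsLocalization.surj (nonZeroDivisors ℤ_[l]) q
    refine ⟨algebraMap ℤ_[l] ℚ_[l] s, a • m, ?_, ?_⟩
    · exact (map_ne_zero_iff _ (IsFractionRing.injective _ _)).2 (nonZeroDivisors.coe_ne_zero s)
    · rw [TensorProduct.smul_tmul', smul_eq_mul, mul_comm, hs, Algebra.algebraMap_eq_smul_one,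
        TensorProduct.smul_tmul]
  | add x y hx hy =>
    obtain ⟨c, z, hc, hz⟩ := hx
    obtain ⟨c', z', hc', hz'⟩ := hy
    obtain ⟨⟨a, s⟩, hs⟩ := IsLocalization.surj (nonZeroDivisors ℤ_[l]) c
    obtain ⟨⟨a', s'⟩, hs'⟩ := IsLocalization.surj (nonZeroDivisors ℤ_[l]) c'
    have hinj := IsFractionRing.injective ℤ_[l] ℚ_[l]
    have ha : (algebraMap ℤ_[l] ℚ_[l] a : ℚ_[l]) ≠ 0 := hs ▸ mul_ne_zero hc
      ((map_ne_zero_iff _ hinj).2 (nonZeroDivisors.coe_ne_zero s))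
    have ha' : (algebraMap ℤ_[l] ℚ_[l] a' : ℚ_[l]) ≠ 0 := hs' ▸ mul_ne_zero hc'
      ((map_ne_zero_iff _ hinj).2 (nonZeroDivisors.coe_ne_zero s'))
    refine ⟨algebraMap ℤ_[l] ℚ_[l] (a * a'), (a' * s) • z + (a * s') • z', ?_, ?_⟩
    · rw [map_mul]; exact mul_ne_zero ha ha'
    · rw [smul_add, TensorProduct.tmul_add, TensorProduct.tmul_smul, TensorProduct.tmul_smul, ← hz,
        ← hz', ← algebraMap_smul ℚ_[l] (a' * s : ℤ_[l]), ← algebraMap_smul ℚ_[l] (a * s' : ℤ_[l]),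
        smul_smul, smul_smul, map_mul, map_mul, map_mul]
      simp only at hs hs'
      rw [← hs, ← hs']
      ring_nf

variable {k : Type u} [Field k] {Ω : Type u} [Field Ω] [Algebra k Ω] [IsAlgClosure k Ω]
  {l : ℕ} [Fact l.Prime] {X : Over (Spec (CommRingCat.of k))} [GrpObj X] [IsCommMonObj X]
  [IsProper X.hom] [GeometricallyIntegral X.hom]
  [Module.Finite ℤ_[l] (TateMod X l (SGA7.pt (K := k) Ω))]

/-- The `ℚ_[l]`-span of the endomorphisms of the rational Tate module coming from `End X`. -/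
noncomputable def endSpan (X : Over (Spec (CommRingCat.of k))) [GrpObj X] [IsCommMonObj X]
    (Ω : Type u) [Field Ω] [Algebra k Ω] (l : ℕ) [Fact l.Prime] :
    Submodule ℚ_[l] (Module.End ℚ_[l] (ℚ_[l] ⊗[ℤ_[l]] TateMod X l (SGA7.pt (K := k) Ω))) :=
  Submodule.span ℚ_[l] {ψ | ∃ (f : X ⟶ X) (_ : IsMonHom f),
    ψ = (tateMapₗ (l := l) (T := SGA7.pt (K := k) Ω) f).baseChange ℚ_[l]}

/-- **A Galois stable subspace is the range of an element of `ℚ_[l] ⊗ End X`.** -/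
theorem exists_range_eq_of_stable (hl : (l : k) ≠ 0) (hFin : IsoFin X l)
    (ρ : (Ω ≃ₐ[k] Ω) → Module.End ℤ_[l] (TateMod X l (SGA7.pt (K := k) Ω)))
    (hρ : ∀ (τ : Ω ≃ₐ[k] Ω) (z : TateMod X l (SGA7.pt (K := k) Ω)) (m : ℕ),
      (TateMod.component X l (SGA7.pt Ω) m (ρ τ z)).toMul =
        SGA7.galAct τ (TateMod.component X l (SGA7.pt Ω) m z).toMul)
    (W : Submodule ℚ_[l] (ℚ_[l] ⊗[ℤ_[l]] TateMod X l (SGA7.pt (K := k) Ω)))
    (hW : ∀ τ : Ω ≃ₐ[k] Ω, W.map ((ρ τ).baseChange ℚ_[l]) ≤ W) :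
    ∃ u ∈ endSpan X Ω l, LinearMap.range u = W := by
  let L : Submodule ℤ_[l] (TateMod X l (SGA7.pt (K := k) Ω)) :=
    (W.restrictScalars ℤ_[l]).comap (TensorProduct.mk ℤ_[l] ℚ_[l] _ 1)
  obtain ⟨u, n₀, hu, hle, hge⟩ := exists_range_of_stable hl hFin L fun σ n z hz =>
    ⟨ρ σ z, hW σ ⟨_, hz, rfl⟩, hρ σ z n⟩
  have hbc : u.baseChange ℚ_[l] ∈ endSpan X Ω l := by
    clear hle hge
    induction hu using Submodule.span_induction with
    | mem x hx =>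
      obtain ⟨f, rfl⟩ := hx
      exact Submodule.subset_span ⟨f.toHom, inferInstance, rfl⟩
    | zero => rw [LinearMap.baseChange_zero]; exact Submodule.zero_mem _
    | add x y _ _ hx hy => rw [LinearMap.baseChange_add]; exact Submodule.add_mem _ hx hy
    | smul c x _ hx =>
      rw [LinearMap.baseChange_smul, ← algebraMap_smul ℚ_[l] c]
      exact Submodule.smul_mem _ _ hx
  refine ⟨u.baseChange ℚ_[l], hbc, le_antisymm ?_ fun w hw => ?_⟩
  · rintro _ ⟨v, rfl⟩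
    induction v with
    | zero => rw [map_zero]; exact W.zero_mem
    | add x y hx hy => rw [map_add]; exact W.add_mem hx hy
    | tmul q m =>
      rw [LinearMap.baseChange_tmul, show q ⊗ₜ[ℤ_[l]] u m = q • ((1 : ℚ_[l]) ⊗ₜ[ℤ_[l]] u m) by
        rw [TensorProduct.smul_tmul', smul_eq_mul, _root_.mul_one]]
      exact W.smul_mem q (hle ⟨m, rfl⟩)
  · obtain ⟨c, z, hc, hz⟩ := exists_pow_smul_eq_one_tmul w
    have hzL : z ∈ L := by
      show (1 : ℚ_[l]) ⊗ₜ[ℤ_[l]] z ∈ W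
      rw [← hz]
      exact W.smul_mem c hw
    obtain ⟨y, hy⟩ := hge z hzL
    have hl0 : (l : ℚ_[l]) ^ n₀ * c ≠ 0 :=
      mul_ne_zero (pow_ne_zero _ (by exact_mod_cast (Fact.out : l.Prime).ne_zero)) hc
    have : ((l : ℚ_[l]) ^ n₀ * c) • w ∈ LinearMap.range (u.baseChange ℚ_[l]) := by
      refine ⟨(1 : ℚ_[l]) ⊗ₜ[ℤ_[l]] y, ?_⟩
      rw [LinearMap.baseChange_tmul, hy, TensorProduct.tmul_smul, mul_smul, hz,
        ← algebraMap_smul ℚ_[l] ((l : ℤ_[l]) ^ n₀), map_pow, map_natCast]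
    exact (Submodule.smul_mem_iff _ hl0).1 this

end Groth.AbVarMul
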