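import Groth.Agent.AbVarMul.Torsion
import Groth.Agent.AbVarMul.PTorsionCount
import Mathlib.GroupTheory.PGroup

/-!
# The number of `n`-torsion points for every `n`
-/

universe u

open CategoryTheory Limits MonoidalCategory CartesianMonoidalCategory MonObj GrpObj AlgebraicGeometry
open AbDual

namespace Groth.AbVarMul

/-- Torsion cardinalities are multiplicative for divisible groups. -/
theorem natCard_torsPts_mul {S : Scheme.{u}} {A T : Over S} [GrpObj A] [IsCommMonObj A] (a b : ℕ)
    (hdiv : ∀ y : T ⟶ A, ∃ x : T ⟶ A, x ^ a = y) :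
    Nat.card (torsPts A (a * b) T) = Nat.card (torsPts A a T) * Nat.card (torsPts A b T) := by
  let φ : torsPts A (a * b) T →* torsPts A b T :=
    { toFun := fun x => ⟨x.1 ^ a, by
        show (x.1 ^ a) ^ b = 1
        rw [← pow_mul]; exact x.2⟩
      map_one' := Subtype.ext (one_pow a)
      map_mul' := fun x y => Subtype.ext (mul_pow x.1 y.1 a) }
  have hsurj : Function.Surjective φ := fun y => by
    obtain ⟨x, hx⟩ := hdiv y.1
    exact ⟨⟨x, by show x ^ (a * b) = 1; rw [pow_mul, hx]; exact y.2⟩, Subtype.ext hx⟩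
  let e : φ.ker ≃ torsPts A a T :=
    { toFun := fun x => ⟨x.1.1, congrArg Subtype.val (MonoidHom.mem_ker.1 x.2)⟩
      invFun := fun x => ⟨⟨x.1, by show x.1 ^ (a * b) = 1; rw [pow_mul, show x.1 ^ a = 1 from x.2, one_pow]⟩,
        MonoidHom.mem_ker.2 (Subtype.ext x.2)⟩
      left_inv := fun x => rfl
      right_inv := fun x => rfl }
  rw [Subgroup.card_eq_card_quotient_mul_card_subgroup φ.ker, Nat.card_congr e,
    Nat.card_congr (QuotientGroup.quotientKerEquivOfSurjective φ hsurj).toEquiv, mul_comm]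

variable {k : Type u} [Field k] [IsAlgClosed k] {A : Over (Spec (CommRingCat.of k))} [GrpObj A]
  [IsCommMonObj A] [IsProper A.hom] [GeometricallyIntegral A.hom]

local notation "pt" => (𝟙_ (Over (Spec (CommRingCat.of k))))

/-- The order of `A[q](k)` for a prime `q` which is zero in `k`. -/
theorem natCard_torsPts_char {g : ℕ} (hg : topologicalKrullDim A.left = g) {q : ℕ} (hq : q.Prime)
    (hqk : (q : k) = 0) : ∃ r, r ≤ g ∧ Nat.card (torsPts A q pt) = q ^ r := by
  have : Fact q.Prime := ⟨hq⟩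
  have : CharP k q := by
    obtain ⟨c, hc⟩ := CharP.exists k
    have hdvd := (CharP.cast_eq_zero_iff k c q).1 hqk
    rcases CharP.char_is_prime_or_zero k c with h | h
    · exact (Nat.prime_dvd_prime_iff_eq h hq).1 hdvd ▸ hc
    · exact absurd (Nat.eq_zero_of_zero_dvd (h ▸ hdvd)) hq.ne_zero
  obtain ⟨hfin, hle⟩ := finite_and_natCard_ker_pow_le (A := A) q hg
  have : Finite (torsPts A q pt) := hfin.to_subtype
  obtain ⟨r, hr⟩ := IsPGroup.iff_card.1
    (fun x : torsPts A q pt => ⟨1, Subtype.ext (by rw [pow_one]; exact x.2)⟩)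
  refine ⟨r, (Nat.pow_le_pow_iff_right hq.one_lt).1 ?_, hr⟩
  rw [← hr]
  exact hle

/-- The order of `A[n](k)` divides `n ^ (2 g)`, with equality exactly when `n` is invertible. -/
theorem natCard_torsPts_dvd {g : ℕ} (hg : topologicalKrullDim A.left = g) (hg0 : 0 < g) :
    ∀ n : ℕ, 0 < n → Nat.card (torsPts A n pt) ∣ n ^ (2 * g) ∧
      (Nat.card (torsPts A n pt) = n ^ (2 * g) ↔ (n : k) ≠ 0) := by
  intro n
  induction n using Nat.recOnMul with
  | zero => intro h; omega
  | one =>
    intro _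
    have h1 := natCard_torsPts (A := A) hg (n := 1) (by simp)
    rw [h1]
    simp
  | prime q hq =>
    intro _
    by_cases hqk : (q : k) = 0
    · obtain ⟨r, hr, hcard⟩ := natCard_torsPts_char hg hq hqk
      rw [hcard]
      refine ⟨pow_dvd_pow q (by omega), ⟨fun h => ?_, fun h => absurd hqk h⟩⟩
      have := Nat.pow_right_injective hq.two_le h
      omega
    · rw [natCard_torsPts (A := A) hg hqk]
      exact ⟨dvd_rfl, ⟨fun _ => hqk, fun _ => rfl⟩⟩
  | mul a b iha ihb =>
    intro hab
    have ha := Nat.pos_of_mul_pos_right hab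
    have hb := Nat.pos_of_mul_pos_left hab
    obtain ⟨da, ea⟩ := iha ha
    obtain ⟨db, eb⟩ := ihb hb
    rw [natCard_torsPts_mul a b (fun y => exists_pow_eq (A := A) ha.ne' y), mul_pow, Nat.cast_mul,
      mul_ne_zero_iff, ← ea, ← eb]
    refine ⟨mul_dvd_mul da db, ⟨fun h => ?_, fun ⟨h1, h2⟩ => by rw [h1, h2]⟩⟩
    have la := Nat.le_of_dvd (pow_pos ha _) da
    have lb := Nat.le_of_dvd (pow_pos hb _) db
    by_contra hne
    rcases not_and_or.1 hne with h' | h'
    · have := Nat.mul_lt_mul_of_lt_of_le (lt_of_le_of_ne la h') lb (pow_pos hb _)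
      omega
    · have := Nat.mul_lt_mul_of_le_of_lt la (lt_of_le_of_ne lb h') (pow_pos ha _)
      omega

end Groth.AbVarMul
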