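import Mathlib.Analysis.Complex.Basic
import Mathlib.Algebra.Polynomial.BigOperators
import Mathlib.Algebra.BigOperators.Group.Finset.Powerset
import Mathlib.Algebra.BigOperators.Ring.Finset

/-!
# The functional equation for products of Weil numbers
-/

open Polynomial Finset

namespace Groth.AbVarMul.WeilFE

variable {L : Type*} [Field L]

theorem prod_zpow_eq {ι' : Type*} (s : Finset ι') (e : ι' → ℤ) {x : L} (hx : x ≠ 0) :
    ∏ i ∈ s, x ^ e i = x ^ (∑ i ∈ s, e i) := by
  classical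
  induction s using Finset.induction with
  | empty => simp
  | insert a s ha ih => rw [prod_insert ha, sum_insert ha, zpow_add₀ hx, ih]

/-- The alternating product of a multiplicative function on the subsets is `1`. -/
theorem prod_subsets_eq_one {n : ℕ} (hn : 2 ≤ n) (f : Fin n → L) (hf : ∀ i, f i ≠ 0) {c : L}
    (hc : c ≠ 0) :
    ∏ J : Finset (Fin n), (c * ∏ i ∈ J, f i) ^ ((-1 : ℤ) ^ (#J + 1)) = 1 := by
  classical
  set a : Fin n := ⟨0, by omega⟩
  set s := (univ : Finset (Fin n)).erase a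
  have has : a ∉ s := notMem_erase a _
  have hs : s.Nonempty := ⟨⟨1, by omega⟩, mem_erase.2 ⟨by simp [a], mem_univ _⟩⟩
  rw [← powerset_univ, ← insert_erase (mem_univ a), prod_powerset_insert has, ← prod_mul_distrib]
  have h : ∀ J ∈ s.powerset, (c * ∏ i ∈ J, f i) ^ ((-1 : ℤ) ^ (#J + 1)) *
      (c * ∏ i ∈ insert a J, f i) ^ ((-1 : ℤ) ^ (#(insert a J) + 1)) =
        f a ^ ((-1 : ℤ) ^ #J) := fun J hJ => by
    have haJ : a ∉ J := fun h => has (mem_powerset.1 hJ h)
    rw [prod_insert haJ, card_insert_of_notMem haJ, mul_left_comm c, mul_zpow (f a),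
      mul_left_comm, pow_succ, pow_succ, mul_neg_one, mul_neg_one, neg_neg,
      ← zpow_add₀ (mul_ne_zero hc (prod_ne_zero_iff.2 fun i _ => hf i)), neg_add_cancel, zpow_zero,
      mul_one]
  rw [prod_congr rfl h, prod_zpow_eq _ _ (hf a), sum_powerset_neg_one_pow_card_of_nonempty hs,
    zpow_zero]

/-- **The functional equation**: substituting `1 / (Q t)` for `t`, with `Q` the product of all the
numbers, preserves the alternating product. -/
theorem functional_eq (s : Multiset L) {n : ℕ} (hn : Multiset.card s = 2 * n) (hn1 : 1 ≤ n)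
    {Q : L} (hQ : s.prod = Q) (hQ0 : Q ≠ 0) {t : L} (ht : t ≠ 0) :
    ∏ j ∈ range (2 * n + 1), (eval ((Q * t)⁻¹) (((s.powersetCard j).map
        (fun I => (1 : L[X]) - C I.prod * X)).prod)) ^ ((-1 : ℤ) ^ (j + 1)) =
      ∏ j ∈ range (2 * n + 1), (eval t (((s.powersetCard j).map
        (fun I => (1 : L[X]) - C I.prod * X)).prod)) ^ ((-1 : ℤ) ^ (j + 1)) := by
  classical
  obtain ⟨l, rfl⟩ := Quot.exists_rep s
  have hl : l.length = 2 * n := hn
  obtain ⟨f, hf⟩ : ∃ f : Fin (2 * n) → L, (univ : Finset (Fin (2 * n))).val.map f = ↑l := by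
    refine ⟨fun i => l.get (i.cast hl.symm), ?_⟩
    rw [Fin.univ_val_map]
    exact congrArg _ (List.ext_get (by simp [hl]) (by simp))
  change ∏ j ∈ range (2 * n + 1), (eval ((Q * t)⁻¹) ((((↑l : Multiset L).powersetCard j).map
        (fun I => (1 : L[X]) - C I.prod * X)).prod)) ^ ((-1 : ℤ) ^ (j + 1)) =
      ∏ j ∈ range (2 * n + 1), (eval t ((((↑l : Multiset L).powersetCard j).map
        (fun I => (1 : L[X]) - C I.prod * X)).prod)) ^ ((-1 : ℤ) ^ (j + 1))
  change (↑l : Multiset L).prod = Q at hQ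
  rw [← hf] at hQ ⊢
  have key : ∀ x : L, ∏ j ∈ range (2 * n + 1), (eval x
      (((((univ : Finset (Fin (2 * n))).val.map f).powersetCard j).map
        (fun I => (1 : L[X]) - C I.prod * X)).prod)) ^ ((-1 : ℤ) ^ (j + 1)) =
      ∏ J : Finset (Fin (2 * n)), (1 - (∏ i ∈ J, f i) * x) ^ ((-1 : ℤ) ^ (#J + 1)) := fun x => by
    rw [← powerset_univ, prod_powerset, card_univ, Fintype.card_fin]
    refine prod_congr rfl fun j _ => ?_
    rw [Multiset.powersetCard_map, Multiset.map_map, ← map_val_val_powersetCard, Multiset.map_map,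
      eval_multiset_prod, Multiset.map_map, prod_congr rfl (fun J hJ => by rw [(mem_powersetCard.1 hJ).2]),
      Finset.prod_zpow]
    refine congrArg (fun y : L => y ^ ((-1 : ℤ) ^ (j + 1))) (congrArg Multiset.prod ?_)
    refine Multiset.map_congr rfl fun J _ => ?_
    simp only [Function.comp_apply, eval_sub, eval_one, eval_mul, eval_C, eval_X]
    rfl
  rw [key, key]
  have hf0 : ∀ i, f i ≠ 0 := fun i h => hQ0 (by
    rw [← hQ]; exact Multiset.prod_eq_zero (Multiset.mem_map.2 ⟨i, Finset.mem_univ_val i, h⟩))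
  have hone := prod_subsets_eq_one (L := L) (n := 2 * n) (by omega) (fun i => (f i)⁻¹)
    (fun i => inv_ne_zero (hf0 i)) (c := -t⁻¹) (neg_ne_zero.2 (inv_ne_zero ht))
  rw [← Equiv.prod_comp (Function.Involutive.toPerm (compl : Finset (Fin (2 * n)) → _) compl_involutive)]
  rw [prod_congr rfl (fun J _ => show _ = ((-t⁻¹ * ∏ i ∈ J, (f i)⁻¹) ^ ((-1 : ℤ) ^ (#J + 1))) *
      ((1 - (∏ i ∈ J, f i) * t) ^ ((-1 : ℤ) ^ (#J + 1))) from ?_), prod_mul_distrib, hone, one_mul]
  have hprod : (∏ i ∈ J, f i) * ∏ i ∈ Jᶜ, f i = Q := by rw [prod_mul_prod_compl, ← hQ]; rfl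
  have hJ0 : ∏ i ∈ J, f i ≠ 0 := prod_ne_zero_iff.2 fun i _ => hf0 i
  have hcard : #J ≤ 2 * n := (card_le_univ J).trans (by simp)
  rw [Function.Involutive.coe_toPerm, card_compl, Fintype.card_fin, ← mul_zpow, prod_inv_distrib]
  congr 1
  · rw [← hprod]
    have hJc : ∏ i ∈ Jᶜ, f i ≠ 0 := prod_ne_zero_iff.2 fun i _ => hf0 i
    field_simp
    ring
  · rw [pow_succ, pow_succ]
    congr 1
    exact neg_one_pow_congr (by rw [Nat.even_sub hcard]; simp)

end Groth.AbVarMul.WeilFE
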