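import Groth.Agent.AbVarMul.WeilRoots

/-!
# Equality case of the Hasse-Weil-Serre bound
-/

open Polynomial

namespace Groth.AbVarMul.WeilRoots

variable {P : ℤ[X]} {g q : ℕ}
variable (hm : P.Monic) (hd : P.natDegree = 2 * g) (hq : 0 < q) (hpos : 0 < P.eval 0)
  (hr : ∀ z ∈ (P.map (Int.castRingHom ℂ)).roots, Complex.normSq z = q)

include hm hd hq hr hpos in
/-- Equality in the Hasse-Weil-Serre bound forces all roots to be roots of the same quadratic. -/
theorem eq_quadratic_pow_of_sum_roots_eq {e : ℤ} (he : e = 1 ∨ e = -1)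
    (heq : (e : ℝ) * (P.map (Int.castRingHom ℂ)).roots.sum.re = (g : ℝ) * (⌊2 * Real.sqrt q⌋ : ℝ)) :
    P = (X ^ 2 - C (e * ⌊2 * Real.sqrt q⌋) * X + C (q : ℤ)) ^ g := by
  set s := (P.map (Int.castRingHom ℂ)).roots with hs
  set m : ℤ := ⌊2 * Real.sqrt q⌋
  obtain ⟨σ, heσ⟩ : ∃ σ : ℝ, (e : ℝ) = σ := ⟨_, rfl⟩
  rw [heσ] at heq
  have hσ : σ = 1 ∨ σ = -1 := by
    rcases he with rfl | rfl
    · exact Or.inl (by rw [← heσ]; simp)
    · exact Or.inr (by rw [← heσ]; simp)
  let F : ℤ[X] := X ^ 2 - C (e * (m + 1)) * X + C (q : ℤ)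
  let w : ℂ → ℝ := fun z => (m : ℝ) + 1 - 2 * σ * z.re
  have hwpos : ∀ z ∈ s, 0 < w z := fun z hz => by
    have h1 : 2 * Real.sqrt q < (m : ℝ) + 1 := Int.lt_floor_add_one _
    have h2 : |z.re| ≤ Real.sqrt q := by
      rw [← hr z hz, ← Complex.norm_def]; exact Complex.abs_re_le_norm z
    have h3 : σ * z.re ≤ |z.re| := by
      rcases hσ with rfl | rfl
      · simpa using le_abs_self z.re
      · simpa using neg_le_abs z.re
    show 0 < (m : ℝ) + 1 - 2 * σ * z.re
    linarith
  have hF : ∀ z ∈ s, (F.map (Int.castRingHom ℂ)).eval z = ((-(e : ℂ)) * z) * (w z : ℂ) := fun z hz => by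
    have hconj : z * starRingEnd ℂ z = (q : ℂ) := by
      rw [Complex.mul_conj, hr z hz, Complex.ofReal_natCast]
    have hre : (2 * z.re : ℂ) = z + starRingEnd ℂ z := by
      rw [Complex.add_conj]; push_cast; rfl
    have hee : (e : ℂ) * (e : ℂ) = 1 := by rcases he with rfl | rfl <;> simp
    simp only [F, Polynomial.map_add, Polynomial.map_sub, Polynomial.map_mul, Polynomial.map_pow,
      map_X, Polynomial.map_C, eval_add, eval_sub, eval_mul, eval_pow, eval_X, eval_C, w, ← heσ]
    simp only [eq_intCast, Int.cast_natCast]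
    push_cast
    linear_combination (e : ℂ) * z * (e : ℂ) * (-1 : ℂ) * hre - hconj - (z ^ 2 + z * starRingEnd ℂ z) * hee
  have hcard := card_roots hd (P := P)
  -- the product of the `w` is a positive integer
  have hres : ∃ R : ℤ, (R : ℂ) = (s.map fun z => (F.map (Int.castRingHom ℂ)).eval z).prod := by
    refine ⟨resultant P F (P.map (Int.castRingHom ℂ)).natDegree F.natDegree, ?_⟩
    rw [← eq_intCast (Int.castRingHom ℂ), ← resultant_map_map,
      resultant_eq_prod_eval _ _ _ natDegree_map_le (IsAlgClosed.splits _),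
      (hm.map (Int.castRingHom ℂ)).leadingCoeff, one_pow, one_mul]
  obtain ⟨R, hR⟩ := hres
  have hprodw : (R : ℂ) = (q : ℂ) ^ g * (((s.map w).prod : ℝ) : ℂ) := by
    rw [hR, Multiset.map_congr rfl hF, Multiset.prod_map_mul, Multiset.prod_map_mul, Multiset.map_id',
      prod_roots hm hd hq hpos hr, Multiset.map_const', Multiset.prod_replicate, hcard,
      show (-(e : ℂ)) ^ (2 * g) = 1 by rcases he with rfl | rfl <;> simp [(even_two_mul g).neg_one_pow],
      one_mul, show (((s.map w).prod : ℝ) : ℂ) = (s.map fun z => (w z : ℂ)).prod by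
        rw [show ((s.map w).prod : ℂ) = Complex.ofRealHom (s.map w).prod from rfl, map_multiset_prod,
          Multiset.map_map]; rfl]
  have hint : IsIntegral ℤ (((s.map w).prod : ℝ) : ℂ) := by
    rw [show ((s.map w).prod : ℂ) = Complex.ofRealHom (s.map w).prod from rfl, map_multiset_prod,
      Multiset.map_map]
    refine IsIntegral.multiset_prod fun x hx => ?_
    obtain ⟨z, hz, rfl⟩ := Multiset.mem_map.1 hx
    have hzi : IsIntegral ℤ z := ⟨P, hm, by
      have h := (mem_roots (hm.map _).ne_zero).1 hz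
      rw [IsRoot, Polynomial.eval_map] at h
      rwa [RingHom.ext_int (algebraMap ℤ ℂ) (Int.castRingHom ℂ)]⟩
    have hzi' : IsIntegral ℤ (starRingEnd ℂ z) := hzi.map (starRingEnd ℂ).toIntAlgHom
    have he' : ((Complex.ofRealHom ∘ w) z) = (m : ℂ) + 1 - (e : ℂ) * (z + starRingEnd ℂ z) := by
      rw [Complex.add_conj]
      simp only [Function.comp_apply, w, Complex.ofRealHom_eq_coe, ← heσ]
      push_cast
      ring
    have hi : ∀ j : ℤ, IsIntegral ℤ (j : ℂ) := fun j => by
      simpa using (isIntegral_algebraMap (R := ℤ) (A := ℂ) (x := j))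
    rw [he']
    exact ((hi m).add isIntegral_one).sub ((hi e).mul (hzi.add hzi'))
  have hone : 1 ≤ (s.map w).prod := by
    have hwp : 0 < (s.map w).prod := Multiset.prod_pos fun x hx => by
      obtain ⟨z, hz, rfl⟩ := Multiset.mem_map.1 hx; exact hwpos z hz
    have hrat : (((s.map w).prod : ℝ) : ℂ) = algebraMap ℚ ℂ ((R : ℚ) / (q : ℚ) ^ g) := by
      rw [map_div₀, map_intCast, map_pow, map_natCast, hprodw,
        mul_div_cancel_left₀ _ (pow_ne_zero g (Nat.cast_ne_zero.2 hq.ne'))]
    rw [hrat] at hint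
    obtain ⟨y, hy⟩ := IsIntegrallyClosed.isIntegral_iff.1
      ((isIntegral_algebraMap_iff (algebraMap ℚ ℂ).injective).1 hint)
    rw [← hy, ← IsScalarTower.algebraMap_apply, eq_intCast] at hrat
    have hy' : (s.map w).prod = (y : ℝ) := by exact_mod_cast hrat
    rw [hy'] at hwp ⊢
    exact_mod_cast (Int.cast_pos.1 hwp)
  have keylog : ∀ t : Multiset ℂ, (∀ z ∈ t, 0 < w z) →
      Real.log (t.map w).prod ≤ (t.map fun z => w z - 1).sum ∧
      ((t.map fun z => w z - 1).sum ≤ Real.log (t.map w).prod → ∀ z ∈ t, w z = 1) := by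
    intro t
    induction t using Multiset.induction with
    | empty => simp
    | cons a t ih =>
      intro h
      have ha := h a (Multiset.mem_cons_self a t)
      have ht : ∀ z ∈ t, 0 < w z := fun z hz => h z (Multiset.mem_cons_of_mem hz)
      have hp : 0 < (t.map w).prod := Multiset.prod_pos fun x hx => by
        obtain ⟨z, hz, rfl⟩ := Multiset.mem_map.1 hx; exact ht z hz
      rw [Multiset.map_cons, Multiset.prod_cons, Multiset.map_cons, Multiset.sum_cons,
        Real.log_mul ha.ne' hp.ne']
      have h1 := Real.log_le_sub_one_of_pos ha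
      obtain ⟨h2, h3⟩ := ih ht
      refine ⟨add_le_add h1 h2, fun hle z hz => ?_⟩
      rcases Multiset.mem_cons.1 hz with rfl | hz
      · by_contra hne
        have := Real.log_lt_sub_one_of_pos ha hne
        linarith
      · exact h3 (by linarith) z hz
  have hsum : (s.map fun z => w z - 1).sum = 2 * (g : ℝ) * m - 2 * σ * s.sum.re := by
    have key : ∀ t : Multiset ℂ, (t.map fun z => w z - 1).sum =
        (Multiset.card t : ℝ) * m - 2 * σ * t.sum.re := by
      intro t
      induction t using Multiset.induction with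
      | empty => simp
      | cons a t ih =>
        rw [Multiset.map_cons, Multiset.sum_cons, Multiset.card_cons, Multiset.sum_cons, ih,
          Complex.add_re]
        simp only [w]
        push_cast
        ring
    rw [key, hcard]
    push_cast
    ring
  have hw1 : ∀ z ∈ s, w z = 1 := (keylog s hwpos).2 (by
    rw [hsum]
    have : σ * s.sum.re = (g : ℝ) * m := heq
    have := Real.log_nonneg hone
    linarith)
  have hPprod : P.map (Int.castRingHom ℂ) = (s.map fun z => X - C z).prod :=
    (IsAlgClosed.splits _).eq_prod_roots_of_monic (hm.map _)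
  have hPprod' : P.map (Int.castRingHom ℂ) = (s.map fun z => X - C (starRingEnd ℂ z)).prod := by
    rw [hPprod]
    conv_lhs => rw [hs, ← map_conj_roots P, Multiset.map_map]
    rfl
  let Q : ℤ[X] := X ^ 2 - C (e * m) * X + C (q : ℤ)
  have hsq : (P.map (Int.castRingHom ℂ)) ^ 2 = ((Q ^ g).map (Int.castRingHom ℂ)) ^ 2 := by
    rw [pow_two]
    conv_lhs => arg 1; rw [hPprod]
    conv_lhs => arg 2; rw [hPprod']
    rw [← Multiset.prod_map_mul, Multiset.map_congr rfl (g := fun _ => Q.map (Int.castRingHom ℂ)),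
      Multiset.map_const', Multiset.prod_replicate, hcard, Polynomial.map_pow, ← pow_mul, mul_comm 2 g]
    intro z hz
    have hconj : z * starRingEnd ℂ z = (q : ℂ) := by
      rw [Complex.mul_conj, hr z hz, Complex.ofReal_natCast]
    have hee : (e : ℝ) * (e : ℝ) = 1 := by rcases he with rfl | rfl <;> simp
    have hre : 2 * z.re = (e : ℝ) * m := by
      have h1 : (m : ℝ) + 1 - 2 * (e : ℝ) * z.re = 1 := by rw [heσ]; exact hw1 z hz
      linear_combination (-(e : ℝ)) * h1 - 2 * z.re * hee
    have hadd : z + starRingEnd ℂ z = ((e * m : ℤ) : ℂ) := by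
      rw [Complex.add_conj, hre]; push_cast; rfl
    simp only [Q, Polynomial.map_add, Polynomial.map_sub, Polynomial.map_mul, Polynomial.map_pow,
      map_X, Polynomial.map_C, Int.coe_castRingHom]
    rw [← hadd, Int.cast_natCast, ← hconj]
    simp only [map_add, map_mul]
    ring
  have hQm : Q.Monic := by
    show (X ^ 2 - C (e * m) * X + C (q : ℤ)).Monic
    rw [sub_add]
    exact monic_X_pow_sub (by compute_degree!)
  rcases sq_eq_sq_iff_eq_or_eq_neg.1 hsq with h | h
  · exact Polynomial.map_injective (Int.castRingHom ℂ) Int.cast_injective h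
  · exfalso
    have := congrArg Polynomial.leadingCoeff h
    rw [(hm.map _).leadingCoeff, leadingCoeff_neg, ((hQm.pow g).map _).leadingCoeff] at this
    norm_num at this

end Groth.AbVarMul.WeilRoots
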